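import Cfsg.Agent.Schur.Basic

/-!
# Elementary abelian Sylow 2-subgroups of order 8 in simple groups

* `exists_moves`: in a simple group with commutative Sylow 2-subgroup `S`, the normalizer moves every
  nontrivial element of `S`.
* `exists_seven`: the element of order 7 on `S`, from an element with exactly one nontrivial fixed
  point.
* `central_two_subgroup_trivial`: a perfect central extension by a 2-group is trivial when an element
  permutes the seven involutions of `S` cyclically.
-/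

set_option autoImplicit false
set_option linter.style.haveILetI false

namespace CfsgLib.Inv53

open Subgroup
open scoped commutatorElement

variable {G : Type*} [Group G] [Finite G]

theorem commutator_eq_top_of_simple [IsSimpleGroup G] (hG : ¬ IsMulCommutative G) :
    commutator G = ⊤ := by
  rcases Subgroup.Normal.eq_bot_or_eq_top (inferInstance : (commutator G).Normal) with h | h
  · refine absurd ⟨⟨fun a b => ?_⟩⟩ hG
    have hm : ⁅a, b⁆ ∈ commutator G :=
      Subgroup.commutator_mem_commutator (Subgroup.mem_top a) (Subgroup.mem_top b)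
    rw [h, Subgroup.mem_bot] at hm
    exact commutatorElement_eq_one_iff_mul_comm.1 hm
  · exact h

/-- In a simple group the normalizer of a commutative Sylow 2-subgroup moves each involution. -/
theorem exists_moves [IsSimpleGroup G] (hG : ¬ IsMulCommutative G) (S : Sylow 2 G)
    [IsMulCommutative (S : Subgroup G)] {s : G} (hs : s ∈ S) (hs1 : s ≠ 1) :
    ∃ n ∈ Subgroup.normalizer ((S : Subgroup G) : Set G), n * s * n⁻¹ ≠ s := by
  haveI : Fact (Nat.Prime 2) := ⟨Nat.prime_two⟩
  by_contra hall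
  push Not at hall
  have key : ∀ (k : ℕ) (g₀ : G), g₀⁻¹ * s ^ k * g₀ ∈ (S : Subgroup G) →
      g₀⁻¹ * s ^ k * g₀ = s ^ k := by
    intro k g₀ hg
    obtain ⟨n, hn, he⟩ := S.conj_eq_normalizer_conj_of_mem (s ^ k) g₀ (pow_mem hs k) hg
    rw [he]
    have := hall n⁻¹ (inv_mem hn)
    rw [inv_inv] at this
    calc n⁻¹ * s ^ k * n = (n⁻¹ * s * n⁻¹⁻¹) ^ k := by rw [conj_pow, inv_inv]
      _ = s ^ k := by rw [inv_inv, this]
  let _ : CommGroup (S : Subgroup G) :=
    { (inferInstance : Group (S : Subgroup G)) with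
      mul_comm := fun a b => IsMulCommutative.is_comm.comm a b }
  have htr := MonoidHom.transfer_eq_pow (MonoidHom.id (S : Subgroup G)) s key
  have hker : MonoidHom.transfer (MonoidHom.id (S : Subgroup G)) s = 1 := by
    have : s ∈ commutator G := by rw [commutator_eq_top_of_simple hG]; exact Subgroup.mem_top s
    exact Abelianization.commutator_subset_ker _ this
  rw [hker] at htr
  have h1 : s ^ (S : Subgroup G).index = 1 := by
    have := congrArg Subtype.val htr
    simpa using this.symm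
  obtain ⟨k, hk⟩ := S.isPGroup' ⟨s, hs⟩
  have h2 : s ^ 2 ^ k = 1 := congrArg Subtype.val hk
  have hcop : Nat.Coprime (S : Subgroup G).index (2 ^ k) := by
    refine Nat.Coprime.pow_right _ (Nat.coprime_two_right.2 ?_)
    rw [Nat.odd_iff, ← Nat.two_dvd_ne_zero]
    exact S.not_dvd_index
  apply hs1
  have := pow_gcd_eq_one.2 ⟨h1, h2⟩
  rwa [hcop.gcd_eq_one, pow_one] at this

/-- Some odd power of an element of the normalizer of `S` lies in `S`. -/
theorem exists_odd_pow_mem (S : Sylow 2 G) {n : G}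
    (hn : n ∈ Subgroup.normalizer ((S : Subgroup G) : Set G)) :
    ∃ m : ℕ, Odd m ∧ n ^ m ∈ S := by
  haveI : Fact (Nat.Prime 2) := ⟨Nat.prime_two⟩
  refine ⟨((S : Subgroup G).subgroupOf (Subgroup.normalizer ((S : Subgroup G) : Set G))).index, ?_, ?_⟩
  · rw [Nat.odd_iff, ← Nat.two_dvd_ne_zero]
    intro h
    exact S.not_dvd_index (h.trans (Subgroup.relIndex_dvd_index_of_le Subgroup.le_normalizer))
  · exact Subgroup.mem_subgroupOf.1
      (Subgroup.pow_index_mem ((S : Subgroup G).subgroupOf _) ⟨n, hn⟩)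

/-- An element of the normalizer of a commutative Sylow 2-subgroup whose square centralizes an
element centralizes it. -/
theorem fix_of_sq_fix (S : Sylow 2 G) [IsMulCommutative (S : Subgroup G)] {n s : G}
    (hn : n ∈ Subgroup.normalizer ((S : Subgroup G) : Set G)) (hs : s ∈ S)
    (h2 : Commute (n * n) s) : Commute n s := by
  obtain ⟨m, ⟨k, rfl⟩, hmem⟩ := exists_odd_pow_mem S hn
  have h1 : Commute (n ^ (2 * k + 1)) s :=
    congrArg Subtype.val (IsMulCommutative.is_comm.comm
      (⟨_, hmem⟩ : (S : Subgroup G)) ⟨s, hs⟩)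
  have h3 : Commute (n ^ (2 * k)) s := by rw [pow_mul, pow_two]; exact h2.pow_left k
  have : n = (n ^ (2 * k))⁻¹ * n ^ (2 * k + 1) := by rw [pow_succ, inv_mul_cancel_left]
  rw [this]
  exact h3.inv_left.mul_left h1

/-- If `t ∈ S` is the only involution of `S` fixed by `r ∈ N(S)` and some element of `N(S)` moves
`t`, then some element of `N(S)` permutes the seven involutions of `S` cyclically. -/
theorem exists_seven (S : Sylow 2 G) [IsMulCommutative (S : Subgroup G)]
    (hcard : Nat.card (S : Subgroup G) = 8) {t r m : G} (ht : t ∈ S) (ht1 : t ≠ 1)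
    (hr : r ∈ Subgroup.normalizer ((S : Subgroup G) : Set G)) (hrt : Commute r t)
    (hfix : ∀ s ∈ S, Commute r s → s = 1 ∨ s = t)
    (hm : m ∈ Subgroup.normalizer ((S : Subgroup G) : Set G)) (hmt : m * t * m⁻¹ ≠ t) :
    ∃ x ∈ Subgroup.normalizer ((S : Subgroup G) : Set G), x * t * x⁻¹ ≠ t ∧
      x ^ 7 * t * (x ^ 7)⁻¹ = t ∧
      ∀ s ∈ S, s ≠ 1 → ∃ i < 7, x ^ i * t * (x ^ i)⁻¹ = s := by
  classical
  haveI : Fact (Nat.Prime 7) := ⟨by decide⟩
  haveI : Fact (Nat.Prime 2) := ⟨Nat.prime_two⟩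
  let N : Subgroup G := Subgroup.normalizer ((S : Subgroup G) : Set G)
  let conjE : G → G → G := fun g s => g * s * g⁻¹
  have hmem : ∀ (g : N) (s : G), s ∈ S → (g : G) * s * (g : G)⁻¹ ∈ S := fun g s hs =>
    (Subgroup.mem_normalizer_iff.1 g.2 s).1 hs
  letI act : MulAction N ↥(S : Subgroup G) :=
    { smul := fun g s => ⟨(g : G) * (s : G) * (g : G)⁻¹, hmem g s s.2⟩
      one_smul := fun s => by apply Subtype.ext; change (1 : G) * (s : G) * (1 : G)⁻¹ = s; group
      mul_smul := fun g h s => by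
        apply Subtype.ext
        change ((g : G) * h) * (s : G) * ((g : G) * h)⁻¹ = (g : G) * ((h : G) * s * (h : G)⁻¹) * (g : G)⁻¹
        group }
  let τ : ↥(S : Subgroup G) := ⟨t, ht⟩
  let r' : N := ⟨r, hr⟩
  let O : Set ↥(S : Subgroup G) := MulAction.orbit N τ
  have hO1 : (1 : ↥(S : Subgroup G)) ∉ O := by
    rintro ⟨g, hg⟩
    have := congrArg Subtype.val hg
    change (g : G) * t * (g : G)⁻¹ = 1 at this
    exact ht1 (conj_eq_one_iff.1 this)
  -- the orbit has odd size
  have hodd : Odd (Nat.card O) := by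
    have hdiv : Nat.card O = (MulAction.stabilizer N τ).index := by
      rw [MulAction.index_stabilizer, ← Nat.card_coe_set_eq]
    have hle : (S : Subgroup G).subgroupOf N ≤ MulAction.stabilizer N τ := by
      intro g hg
      rw [MulAction.mem_stabilizer_iff]
      apply Subtype.ext
      change (g : G) * t * (g : G)⁻¹ = t
      have hgt : (g : G) * t = t * (g : G) := congrArg Subtype.val (IsMulCommutative.is_comm.comm
        (⟨(g : G), hg⟩ : (S : Subgroup G)) ⟨t, ht⟩)
      rw [hgt]
      exact mul_inv_cancel_right _ _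
    rw [hdiv, Nat.odd_iff, ← Nat.two_dvd_ne_zero]
    intro h
    exact S.not_dvd_index (h.trans ((Subgroup.index_dvd_of_le hle).trans
      (Subgroup.relIndex_dvd_index_of_le Subgroup.le_normalizer)))
  -- `r` has no fixed points on `S` except `1` and `t`, nor does its square
  have hr1 : ∀ s : ↥(S : Subgroup G), r' • s = s → s = 1 ∨ s = τ := by
    intro s hs
    have h : r * (s : G) * r⁻¹ = s := congrArg Subtype.val hs
    rcases hfix s s.2 (mul_inv_eq_iff_eq_mul.1 h) with h' | h'
    · exact Or.inl (Subtype.ext h')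
    · exact Or.inr (Subtype.ext h')
  have hr2 : ∀ s : ↥(S : Subgroup G), r' • r' • s = s → r' • s = s := by
    intro s hs
    have h : r * (r * (s : G) * r⁻¹) * r⁻¹ = s := congrArg Subtype.val hs
    have hc : Commute (r * r) (s : G) := by
      refine mul_inv_eq_iff_eq_mul.1 ?_
      rw [mul_inv_rev]
      simpa only [mul_assoc] using h
    exact Subtype.ext (mul_inv_eq_iff_eq_mul.2 (fix_of_sq_fix S hr s.2 hc))
  have hτr : r' • τ = τ := Subtype.ext (mul_inv_eq_iff_eq_mul.2 hrt)
  have hτ1 : τ ≠ 1 := fun h => ht1 (congrArg Subtype.val h)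
  haveI : Fintype ↥(S : Subgroup G) := Fintype.ofFinite _
  -- an `r'`-invariant set avoiding `1` and `t` is empty or has at least three elements
  have hinv3 : ∀ B : Finset ↥(S : Subgroup G), (∀ s ∈ B, r' • s ∈ B) →
      (∀ s ∈ B, s ≠ 1 ∧ s ≠ τ) → B.Nonempty → 3 ≤ B.card := by
    rintro B hB hB1 ⟨s, hs⟩
    have hne : ∀ s ∈ B, r' • s ≠ s := fun s hs h => (hr1 s h).elim (hB1 s hs).1 (hB1 s hs).2
    have hne1 := hne s hs
    have hne2 : r' • r' • s ≠ s := fun h => hne1 (hr2 s h)
    have hne3 := hne _ (hB s hs)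
    calc 3 = ({s, r' • s, r' • r' • s} : Finset _).card := by
          rw [Finset.card_insert_of_notMem (by simp [hne1.symm, hne2.symm]),
            Finset.card_pair hne3.symm]
      _ ≤ B.card := Finset.card_le_card (by
          intro v hv
          simp only [Finset.mem_insert, Finset.mem_singleton] at hv
          rcases hv with rfl | rfl | rfl
          exacts [hs, hB _ hs, hB _ (hB _ hs)])
  let O' : Finset ↥(S : Subgroup G) := O.toFinset
  have hcardO : Nat.card O = O'.card := by
    rw [Nat.card_eq_fintype_card, ← Set.toFinset_card]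
  have hOinv : ∀ s ∈ O', r' • s ∈ O' := by
    intro s hs
    rw [Set.mem_toFinset] at hs ⊢
    obtain ⟨g, rfl⟩ := hs
    exact ⟨r' * g, mul_smul r' g τ⟩
  have hOinv' : ∀ s, r' • s ∈ O' → s ∈ O' := by
    intro s hs
    rw [Set.mem_toFinset] at hs ⊢
    have := MulAction.mem_orbit (r' • s) r'⁻¹
    rw [inv_smul_smul, MulAction.orbit_eq_iff.2 hs] at this
    exact this
  have hτO : τ ∈ O' := Set.mem_toFinset.2 (MulAction.mem_orbit_self τ)
  have hO1' : (1 : ↥(S : Subgroup G)) ∉ O' := fun h => hO1 (Set.mem_toFinset.1 h)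
  have h4 : 4 ≤ O'.card := by
    have h := hinv3 (O'.erase τ) (fun s hs => by
        rw [Finset.mem_erase] at hs ⊢
        exact ⟨fun e => hs.1 (MulAction.injective r' (e.trans hτr.symm)), hOinv s hs.2⟩)
      (fun s hs => by
        rw [Finset.mem_erase] at hs
        exact ⟨fun e => hO1' (e ▸ hs.2), hs.1⟩)
      ⟨(⟨m, hm⟩ : N) • τ, by
        rw [Finset.mem_erase]
        exact ⟨fun h => hmt (congrArg Subtype.val h), Set.mem_toFinset.2 (MulAction.mem_orbit τ _)⟩⟩
    rw [Finset.card_erase_of_mem hτO] at h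
    omega
  -- the orbit is everything
  have hall : ∀ s : ↥(S : Subgroup G), s ≠ 1 → s ∈ O := by
    intro s hs1
    by_contra hsO
    let C : Finset ↥(S : Subgroup G) := (Finset.univ.erase 1) \ O'
    have hsub : O' ⊆ Finset.univ.erase 1 := fun v hv => by
      rw [Finset.mem_erase]; exact ⟨fun h => hO1' (h ▸ hv), Finset.mem_univ _⟩
    have h3 := hinv3 C (fun v hv => by
        simp only [C, Finset.mem_sdiff, Finset.mem_erase, Finset.mem_univ, and_true] at hv ⊢
        refine ⟨fun h => hv.1 ?_, fun h => hv.2 (hOinv' v h)⟩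
        have h' : r * (v : G) * r⁻¹ = 1 := congrArg Subtype.val h
        exact Subtype.ext (conj_eq_one_iff.1 h'))
      (fun v hv => by
        simp only [C, Finset.mem_sdiff, Finset.mem_erase, Finset.mem_univ, and_true] at hv
        exact ⟨hv.1, fun h => hv.2 (h ▸ hτO)⟩)
      ⟨s, by simp [C, O', hs1, hsO]⟩
    rw [Finset.card_sdiff_of_subset hsub, Finset.card_erase_of_mem (Finset.mem_univ _),
      Finset.card_univ, ← Nat.card_eq_fintype_card, hcard] at h3
    rw [hcardO, Nat.odd_iff] at hodd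
    omega
  have hO7 : Nat.card O = 7 := by
    have : O' = Finset.univ.erase 1 := by
      ext v
      simp only [Finset.mem_erase, Finset.mem_univ, and_true, O', Set.mem_toFinset]
      exact ⟨fun h e => hO1 (e ▸ h), hall v⟩
    rw [hcardO, this, Finset.card_erase_of_mem (Finset.mem_univ _), Finset.card_univ,
      ← Nat.card_eq_fintype_card, hcard]
  -- a 7-element of `N` moving `t`
  obtain ⟨Q⟩ : Nonempty (Sylow 7 N) := inferInstance
  have hQ : ¬ (Q : Subgroup N) ≤ MulAction.stabilizer N τ := by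
    intro hle
    have h7 : 7 ∣ (MulAction.stabilizer N τ).index := by
      rw [MulAction.index_stabilizer, ← Nat.card_coe_set_eq, hO7]
    exact Q.not_dvd_index (h7.trans (Subgroup.index_dvd_of_le hle))
  obtain ⟨x, hxQ, hxτ⟩ := SetLike.not_le_iff_exists.1 hQ
  rw [MulAction.mem_stabilizer_iff] at hxτ
  let X : Subgroup N := Subgroup.zpowers x
  have hXp : IsPGroup 7 X := Q.isPGroup'.to_le (Subgroup.zpowers_le.2 hxQ)
  obtain ⟨e, he⟩ := hXp.card_orbit τ
  have hsubX : MulAction.orbit X τ ⊆ O := by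
    rintro _ ⟨g, rfl⟩
    exact MulAction.mem_orbit τ (g : N)
  have hXle : Nat.card (MulAction.orbit X τ) ≤ 7 := by
    rw [← hO7]; exact Nat.card_mono (Set.toFinite _) hsubX
  have hX7 : Nat.card (MulAction.orbit X τ) = 7 := by
    rw [he] at hXle ⊢
    have he1 : e ≠ 0 := by
      intro e0
      rw [e0, pow_zero, Nat.card_eq_one_iff_unique] at he
      have := he.1
      exact hxτ (congrArg Subtype.val (Subsingleton.elim
        (⟨x • τ, MulAction.mem_orbit τ (⟨x, Subgroup.mem_zpowers x⟩ : X)⟩ : MulAction.orbit X τ)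
        ⟨τ, MulAction.mem_orbit_self τ⟩))
    have : e ≤ 1 := by
      by_contra h
      have := Nat.pow_le_pow_right (n := 7) (by norm_num) (show 2 ≤ e by omega)
      omega
    rw [show e = 1 by omega, pow_one]
  have hXO : MulAction.orbit X τ = O := Set.eq_of_subset_of_ncard_le hsubX
    (by rw [← Nat.card_coe_set_eq, ← Nat.card_coe_set_eq, hO7, hX7]) (Set.toFinite _)
  have hx7 : x ^ 7 • τ = τ := by
    have : (⟨x, Subgroup.mem_zpowers x⟩ : X) ^ 7 ∈ MulAction.stabilizer X τ := by
      haveI : (MulAction.stabilizer X τ).Normal := Subgroup.normal_of_comm _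
      have := Subgroup.pow_index_mem (MulAction.stabilizer X τ) ⟨x, Subgroup.mem_zpowers x⟩
      rwa [MulAction.index_stabilizer, ← Nat.card_coe_set_eq, hX7] at this
    exact MulAction.mem_stabilizer_iff.1 this
  refine ⟨(x : G), x.2, fun h => hxτ (Subtype.ext h), congrArg Subtype.val hx7, fun s hs hs1 => ?_⟩
  have hsO : (⟨s, hs⟩ : ↥(S : Subgroup G)) ∈ MulAction.orbit X τ := by
    rw [hXO]; exact hall _ fun h => hs1 (congrArg Subtype.val h)
  obtain ⟨⟨g, hg⟩, hgs⟩ := hsO
  obtain ⟨i, rfl⟩ := Subgroup.mem_zpowers_iff.1 hg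
  refine ⟨(i % 7).toNat, by omega, ?_⟩
  have hper : ∀ j : ℤ, ((x ^ 7) ^ j) • τ = τ := fun j =>
    MulAction.mem_stabilizer_iff.1 (zpow_mem (MulAction.mem_stabilizer_iff.2 hx7) j)
  have : (x ^ (i % 7).toNat) • τ = ⟨s, hs⟩ := by
    rw [← hgs]
    change _ = x ^ i • τ
    rw [← zpow_natCast x (i % 7).toNat, Int.toNat_of_nonneg (Int.emod_nonneg i (by norm_num))]
    nth_rewrite 2 [← Int.emod_add_mul_ediv i 7]
    rw [zpow_add, mul_smul, zpow_mul, show x ^ (7 : ℤ) = x ^ 7 from zpow_natCast x 7, hper]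
  exact congrArg Subtype.val this

/-- Over an element permuting the involutions of an elementary abelian Sylow 2-subgroup of order 8
cyclically, a perfect central extension by a 2-group is trivial. -/
theorem central_two_subgroup_trivial {L : Type*} [Group L] [Finite L] (π : L →* G)
    (hπ : Function.Surjective π) (hperf : commutator L = ⊤) (hZ : π.ker ≤ Subgroup.center L)
    (hZp : IsPGroup 2 π.ker) (S : Sylow 2 G) {t x : G} (ht : t ∈ S) (ht1 : t ≠ 1)
    (hsq : ∀ s ∈ S, s * s = 1) (hx : x ∈ Subgroup.normalizer ((S : Subgroup G) : Set G))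
    (hxt : x * t * x⁻¹ ≠ t) (hx7 : x ^ 7 * t * (x ^ 7)⁻¹ = t)
    (hcov : ∀ s ∈ S, s ≠ 1 → ∃ i < 7, x ^ i * t * (x ^ i)⁻¹ = s) : π.ker = ⊥ := by
  haveI : Fact (Nat.Prime 2) := ⟨Nat.prime_two⟩
  obtain ⟨a, ha⟩ := hπ t
  obtain ⟨y, hy⟩ := hπ x
  let u : ℕ → G := fun i => x ^ i * t * (x ^ i)⁻¹
  have humem : ∀ i, u i ∈ S := by
    intro i
    exact (Subgroup.mem_normalizer_iff.1 (pow_mem hx i) t).1 ht
  have hconj : ∀ i j, x ^ i * u j * (x ^ i)⁻¹ = u (i + j) := by
    intro i j
    simp only [u, pow_add]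
    group
  have hu0 : u 0 = t := by simp [u]
  have hu7 : ∀ i, u (i + 7) = u i := fun i => by
    rw [← hconj i 7, show u 7 = t from hx7]
  have hu1 : u 1 ≠ t := by simpa [u] using hxt
  have hper7 : ∀ i j, u (j + 7 * i) = u j := by
    intro i
    induction i with
    | zero => intro j; rfl
    | succ n ih => intro j; rw [show j + 7 * (n + 1) = j + 7 * n + 7 by ring, hu7, ih]
  have hucomm : ∀ i j, u i * u j = u j * u i := fun i j => by
    have h : ∀ s ∈ S, s⁻¹ = s := fun s hs => inv_eq_of_mul_eq_one_right (hsq s hs)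
    rw [← h _ (mul_mem (humem i) (humem j)), mul_inv_rev, h _ (humem i), h _ (humem j)]
  -- commutators of lifts
  let A : ℕ → L := fun i => y ^ i * a * (y ^ i)⁻¹
  have hA : ∀ i, π (A i) = u i := fun i => by simp [A, u, ha, hy]
  have hcongr : ∀ p p' q q' : L, π p = π p' → π q = π q' → ⁅p, q⁆ = ⁅p', q'⁆ := by
    intro p p' q q' hp hq
    obtain ⟨z, hz, rfl⟩ : ∃ z ∈ Subgroup.center L, p = z * p' :=
      ⟨p * p'⁻¹, hZ (by simp [MonoidHom.mem_ker, hp]), by group⟩
    obtain ⟨w, hw, rfl⟩ : ∃ w ∈ Subgroup.center L, q = w * q' :=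
      ⟨q * q'⁻¹, hZ (by simp [MonoidHom.mem_ker, hq]), by group⟩
    have hz' := Subgroup.mem_center_iff.1 hz
    have hw' := Subgroup.mem_center_iff.1 hw
    rw [commutatorElement_def, commutatorElement_def, mul_inv_rev, mul_inv_rev]
    calc z * p' * (w * q') * (p'⁻¹ * z⁻¹) * (q'⁻¹ * w⁻¹)
        = z * (p' * w) * q' * p'⁻¹ * (z⁻¹ * q'⁻¹) * w⁻¹ := by simp only [mul_assoc]
      _ = z * (w * p') * q' * p'⁻¹ * (q'⁻¹ * z⁻¹) * w⁻¹ := by
          rw [hw' p', show z⁻¹ * q'⁻¹ = q'⁻¹ * z⁻¹ from
            (Subgroup.mem_center_iff.1 (inv_mem hz) q'⁻¹).symm]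
      _ = z * w * (p' * q' * p'⁻¹ * q'⁻¹) * (z⁻¹ * w⁻¹) := by simp only [mul_assoc]
      _ = p' * q' * p'⁻¹ * q'⁻¹ := by
          have hzw : z * w ∈ Subgroup.center L := mul_mem hz hw
          rw [← Subgroup.mem_center_iff.1 hzw, mul_assoc, show z⁻¹ * w⁻¹ = (z * w)⁻¹ by
            rw [mul_inv_rev]; exact (Subgroup.mem_center_iff.1 (inv_mem hz) w⁻¹).symm,
            mul_inv_cancel, mul_one]
  have hcen : ∀ i j, ⁅A i, A j⁆ ∈ Subgroup.center L := by
    intro i j
    refine hZ ?_
    rw [MonoidHom.mem_ker, map_commutatorElement, hA, hA]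
    exact commutatorElement_eq_one_iff_mul_comm.2 (hucomm i j)
  have hshift : ∀ k i j, ⁅A (k + i), A (k + j)⁆ = ⁅A i, A j⁆ := by
    intro k i j
    have h : ∀ m, A (k + m) = MulAut.conj (y ^ k) (A m) := by
      intro m
      simp only [A, MulAut.conj_apply, pow_add]
      group
    rw [h, h, ← map_commutatorElement, MulAut.conj_apply, Subgroup.mem_center_iff.1 (hcen i j),
      mul_inv_cancel_right]
  -- bilinearity and exponent two
  have hmul : ∀ i j l : ℕ, ⁅A i, A j * A l⁆ = ⁅A i, A j⁆ * ⁅A i, A l⁆ := by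
    intro i j l
    have : ⁅A i, A j * A l⁆ = ⁅A i, A j⁆ * (A j * ⁅A i, A l⁆ * (A j)⁻¹) := by
      simp only [commutatorElement_def]; group
    rw [this, Subgroup.mem_center_iff.1 (hcen i l), mul_inv_cancel_right]
  let D : ℕ → L := fun i => ⁅A 0, A i⁆
  have hsq' : ∀ i, D i * D i = 1 := by
    intro i
    rw [← hmul 0 i i, hcongr (A 0) (A 0) (A i * A i) 1 rfl
      (by rw [map_mul, hA, hsq _ (humem i), map_one]), commutatorElement_one_right]
  have hDinv : ∀ i, (D i)⁻¹ = D i := fun i => inv_eq_of_mul_eq_one_right (hsq' i)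
  have hDper : ∀ i, D (i + 7) = D i := fun i =>
    hcongr _ _ _ _ rfl (by rw [hA, hA, hu7])
  have hD0 : D 0 = 1 := commutatorElement_self _
  have hadd : ∀ i j k, u i * u j = u k → D i * D j = D k := by
    intro i j k h
    rw [← hmul 0 i j]
    exact hcongr _ _ _ _ rfl (by rw [map_mul, hA, hA, hA, h])
  -- the relation `t * u 1 = u k`
  obtain ⟨k, hk7, hk⟩ := hcov (t * u 1) (mul_mem ht (humem 1)) (fun h => hu1 (by
    rw [mul_eq_one_iff_eq_inv] at h
    have h' : t⁻¹ = t := inv_eq_of_mul_eq_one_right (hsq t ht)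
    calc u 1 = (u 1)⁻¹ := (inv_eq_of_mul_eq_one_right (hsq _ (humem 1))).symm
      _ = t := by rw [← h]))
  have hkr : u 0 * u 1 = u k := by rw [hu0]; exact hk.symm
  have hsh : ∀ n i j l, u i * u j = u l → u (n + i) * u (n + j) = u (n + l) := by
    intro n i j l h
    rw [← hconj n i, ← hconj n j, ← hconj n l, ← h]
    group
  have hinv : ∀ i j l, u i * u j = u l → u i * u l = u j := by
    intro i j l h
    rw [← h, ← mul_assoc, hsq _ (humem i), one_mul]
  -- `k = 3` or `k = 5`
  have hk35 : k = 3 ∨ k = 5 := by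
    have hk0 : k ≠ 0 := by
      rintro rfl
      have := hinv 0 1 0 hkr
      rw [hsq _ (humem 0)] at this
      have h1 : u 1 = 1 := this.symm
      simp only [u, conj_eq_one_iff] at h1
      exact ht1 h1
    have hk1 : k ≠ 1 := by
      rintro rfl
      exact ht1 (hu0 ▸ mul_eq_right.1 hkr)
    have hno2 : u 0 * u 1 ≠ u 2 := by
      intro h2
      have h3 := hsh 1 0 1 2 h2
      norm_num at h3
      rw [← h2, hucomm 0 1, ← mul_assoc, hsq _ (humem 1), one_mul] at h3
      have hper3 : ∀ j, u (j + 3) = u j := fun j => by rw [← hconj j 3, ← h3, hconj j 0, Nat.add_zero]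
      apply hu1
      rw [← hu0, ← hper3 1, ← hper3 4, show u (4 + 3) = u 0 from hu7 0]
    have hk2 : k ≠ 2 := fun e => hno2 (e ▸ hkr)
    have hk6 : k ≠ 6 := by
      rintro rfl
      apply hno2
      have h := hsh 1 0 1 6 hkr
      norm_num at h
      rw [show u 7 = u 0 from hu7 0] at h
      rw [← h, mul_assoc, hucomm 2 1, ← mul_assoc, hsq _ (humem 1), one_mul]
    have hk4 : k ≠ 4 := by
      rintro rfl
      have h5 := hsh 1 0 1 4 hkr
      have h8 := hsh 4 0 1 4 hkr
      norm_num at h5 h8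
      rw [show u 8 = u 1 from hu7 1, ← hkr, ← h5] at h8
      have h02 : u 0 * u 2 = u 1 := by
        rw [← h8]
        simp only [mul_assoc]
        rw [← mul_assoc (u 1) (u 1), hsq _ (humem 1), one_mul]
      exact hno2 (hinv 0 2 1 h02)
    omega
  -- all commutators are equal, hence trivial
  have hk' : D k = D 1 := by rw [← hadd 0 1 k hkr, hD0, one_mul]
  have hkm : D (k - 1) = D 1 := by
    have h1 : ⁅A 1, A k⁆ = D (k - 1) := by
      have := hshift 1 0 (k - 1)
      rwa [show 1 + (k - 1) = k by omega] at this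
    rw [← h1, hcongr (A 1) (A 1) (A k) (A 0 * A 1) rfl (by rw [map_mul π (A 0) (A 1), hA, hA, hA, hkr]), hmul,
      commutatorElement_self, mul_one, ← commutatorElement_inv]
    exact hDinv 1
  have hsym : ∀ i ≤ 7, D (7 - i) = D i := by
    intro i hi
    have h1 := hshift i 0 (7 - i)
    rw [Nat.add_zero, show i + (7 - i) = 7 by omega] at h1
    change ⁅A 0, A (7 - i)⁆ = _
    rw [← h1, hcongr (A i) (A i) (A 7) (A 0) rfl (by rw [hA, hA]; exact hu7 0),
      ← commutatorElement_inv]
    exact hDinv i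
  have h6 : D 6 = D 1 := hsym 1 (by norm_num)
  have h25 : D 5 = D 2 := hsym 2 (by norm_num)
  have h34 : D 4 = D 3 := hsym 3 (by norm_num)
  have hc : D 2 = D 1 ∧ D 3 = D 1 := by
    rcases hk35 with rfl | rfl
    · exact ⟨hkm, hk'⟩
    · exact ⟨h25.symm.trans hk', h34.symm.trans hkm⟩
  have hD1 : D 1 = 1 := by
    have hrel := hsh 1 0 1 k hkr
    norm_num at hrel
    have := hadd 1 2 (1 + k) hrel
    rw [hc.1, hsq' 1] at this
    rcases hk35 with rfl | rfl
    · rw [this]; exact (h34.trans hc.2).symm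
    · rw [this]; exact h6.symm
  have hDall : ∀ i, D i = 1 := by
    intro i
    induction i using Nat.strong_induction_on with
    | _ i ih =>
      by_cases hi : i < 7
      · interval_cases i
        · exact hD0
        · exact hD1
        · rw [hc.1, hD1]
        · rw [hc.2, hD1]
        · rw [h34, hc.2, hD1]
        · rw [h25, hc.1, hD1]
        · rw [h6, hD1]
      · rw [show i = i - 7 + 7 by omega, hDper, ih (i - 7) (by omega)]
  -- the preimage of `S` is an abelian Sylow 2-subgroup
  let T : Subgroup L := (S : Subgroup G).comap π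
  have hTcomm : ⁅T, T⁆ = ⊥ := by
    rw [eq_bot_iff, Subgroup.commutator_le]
    intro p hp q hq
    rw [Subgroup.mem_bot]
    by_cases hp1 : π p = 1
    · rw [hcongr p 1 q q (by rw [hp1, map_one]) rfl, commutatorElement_one_left]
    by_cases hq1 : π q = 1
    · rw [hcongr p p q 1 rfl (by rw [hq1, map_one]), commutatorElement_one_right]
    obtain ⟨i, -, hi⟩ := hcov _ hp hp1
    obtain ⟨j, -, hj⟩ := hcov _ hq hq1
    rw [hcongr p (A i) q (A (j + 7 * i)) (by rw [hA]; exact hi.symm) (by
      rw [hA, ← hj]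
      exact (hper7 i j).symm)]
    have := hshift i 0 (j + 7 * i - i)
    rw [Nat.add_zero, show i + (j + 7 * i - i) = j + 7 * i by omega] at this
    rw [this]
    exact hDall _
  have hidx : T.index = (S : Subgroup G).index := Subgroup.index_comap_of_surjective _ hπ
  rw [eq_bot_iff]
  intro z hz
  rw [Subgroup.mem_bot]
  have hcop : (orderOf z).Coprime T.index := by
    obtain ⟨e, he⟩ := hZp ⟨z, hz⟩
    have hdvd := orderOf_dvd_of_pow_eq_one (show z ^ 2 ^ e = 1 from congrArg Subtype.val he)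
    refine Nat.Coprime.coprime_dvd_left hdvd (Nat.Coprime.pow_left _ ?_)
    rw [hidx, Nat.coprime_two_left, Nat.odd_iff, ← Nat.two_dvd_ne_zero]
    exact S.not_dvd_index
  have := Schur.mem_commutator_of_index_coprime T (hZ hz)
    (by rw [hperf]; exact Subgroup.mem_top z) hcop
  rwa [hTcomm, Subgroup.mem_bot] at this

end CfsgLib.Inv53
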