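import Cfsg.Agent.Linear.SL2Sylow
import Cfsg.Agent.Linear.Perfect
import Cfsg.Agent.SL2Trace.Basic
import Cfsg.Agent.AutPSL.FieldAut
import Cfsg.Agent.AutPSL.AutOrder

/-!
# `PSL₂(q)` with abelian Sylow 2-subgroups

If every Sylow 2-subgroup of `PSL₂(q)` (`q` odd) is commutative, each is a four group, `q` is an odd
power of its prime, and an automorphism of 2-power order fixing a Sylow 2-subgroup pointwise is
conjugation by one of its elements.
-/

set_option autoImplicit false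
set_option linter.unusedSectionVars false
set_option linter.style.haveILetI false

namespace CfsgLib.Inv53

open Matrix
open scoped MatrixGroups

variable {F : Type*} [Field F] [Fintype F]

local notation "SLT" => Matrix.SpecialLinearGroup (Fin 2) F
local notation "PST" => Matrix.ProjectiveSpecialLinearGroup (Fin 2) F

theorem psl2_mk_eq_iff {a b : SLT} :
    (QuotientGroup.mk a : PST) = QuotientGroup.mk b ↔ b = a ∨ b = -a := by
  rw [QuotientGroup.eq, SL2Trace.mem_center_iff_eq, inv_mul_eq_iff_eq_mul, inv_mul_eq_iff_eq_mul,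
    mul_one, mul_neg, mul_one]

theorem psl2_mk_neg (a : SLT) : (QuotientGroup.mk (-a) : PST) = QuotientGroup.mk a :=
  psl2_mk_eq_iff.2 (Or.inr (neg_neg a).symm)

/-- Two anticommuting square roots of `-1` have only scalar centralizer. -/
theorem scalar_of_commute_quaternion (hF : Odd (Fintype.card F)) {i j : SLT}
    (hi : i * i = -1) (hji : j * i = -(i * j))
    {g : Matrix (Fin 2) (Fin 2) F} (h1 : i.1 * g = g * i.1) (h2 : j.1 * g = g * j.1) :
    ∃ a : F, g = a • 1 := by
  have h2F : (2 : F) ≠ 0 := Linear.two_ne_zero_of_odd hF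
  have hne : ∀ z : SLT, -z ≠ z := by
    intro z hz
    apply Linear.neg_one_ne_one hF
    calc (-1 : SLT) = -z * z⁻¹ := by rw [neg_mul, mul_inv_cancel]
      _ = 1 := by rw [hz, mul_inv_cancel]
  have hnc : i ∉ Subgroup.center SLT := fun hc => hne (i * j) (by
    rw [← hji]; exact Subgroup.mem_center_iff.1 hc j)
  obtain ⟨a, b, hab⟩ := Linear.exists_coord (SL2Trace.nonScalar_of_not_mem_center hnc) h1
  refine ⟨a, ?_⟩
  have hji' : j.1 * i.1 = -(i.1 * j.1) := congrArg Subtype.val hji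
  have h3 : b • (i.1 * j.1) + b • (i.1 * j.1) = 0 := by
    rw [hab, mul_add, add_mul, mul_smul_comm, mul_smul_comm, smul_mul_assoc, smul_mul_assoc,
      one_mul, mul_one, hji', smul_neg] at h2
    have h4 := add_left_cancel h2
    nth_rewrite 1 [← h4]
    exact neg_add_cancel _
  rw [← two_smul F (b • (i.1 * j.1)), smul_smul] at h3
  rcases smul_eq_zero.1 h3 with h | h
  · rw [hab, (mul_eq_zero.1 h).resolve_left h2F, zero_smul, add_zero]
  · have := congrArg Matrix.det h
    rw [Matrix.det_mul, i.2, j.2, Matrix.det_zero, one_mul] at this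
    exact absurd this one_ne_zero

/-- Commuting distinct involutions of `PSL₂` lift to anticommuting square roots of `-1`. -/
theorem exists_quaternion_lift (hF : Odd (Fintype.card F)) {u w : PST} (hu : u * u = 1)
    (hw : w * w = 1) (hu1 : u ≠ 1) (hw1 : w ≠ 1) (huw : u ≠ w) (hc : u * w = w * u) :
    ∃ i j : SLT, QuotientGroup.mk i = u ∧ QuotientGroup.mk j = w ∧ i * i = -1 ∧ j * j = -1 ∧
      j * i = -(i * j) := by
  have hsq : ∀ z : SLT, (QuotientGroup.mk z : PST) * QuotientGroup.mk z = 1 →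
      (QuotientGroup.mk z : PST) ≠ 1 → z * z = -1 := by
    intro z hz hz1
    rw [← QuotientGroup.mk_mul, QuotientGroup.eq_one_iff, SL2Trace.mem_center_iff_eq] at hz
    refine hz.resolve_left fun h => hz1 ?_
    have h' : z.1 * z.1 = 1 := congrArg Subtype.val h
    by_cases h1 : z = 1
    · rw [h1, QuotientGroup.mk_one]
    · rw [Linear.eq_neg_one_of_sq hF z h1 (by rw [pow_two, h]), psl2_mk_neg, QuotientGroup.mk_one]
  obtain ⟨i, rfl⟩ := QuotientGroup.mk_surjective u
  obtain ⟨j, rfl⟩ := QuotientGroup.mk_surjective w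
  have hij : (QuotientGroup.mk (i * j) : PST) ≠ 1 := by
    rw [QuotientGroup.mk_mul]
    intro h
    apply huw
    rw [mul_eq_one_iff_eq_inv] at h
    rw [h, inv_eq_of_mul_eq_one_right hw]
  have hi := hsq i hu hu1
  have hj := hsq j hw hw1
  have hk := hsq (i * j) (by
    rw [QuotientGroup.mk_mul]
    calc (QuotientGroup.mk i : PST) * QuotientGroup.mk j * (QuotientGroup.mk i * QuotientGroup.mk j)
        = QuotientGroup.mk i * QuotientGroup.mk j * (QuotientGroup.mk j * QuotientGroup.mk i) := by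
          rw [hc]
      _ = 1 := by rw [mul_assoc, ← mul_assoc (QuotientGroup.mk j : PST), hw, one_mul, hu]) hij
  refine ⟨i, j, rfl, rfl, hi, hj, ?_⟩
  calc j * i = -1 * (j * i) * -1 := by rw [neg_one_mul, mul_neg, mul_one, neg_neg]
    _ = i * i * (j * i) * (j * j) := by rw [hi, hj]
    _ = i * (i * j * (i * j)) * j := by simp only [mul_assoc]
    _ = -(i * j) := by rw [hk, mul_neg, mul_one, neg_mul]

/-- An element of `GL₂` inducing an automorphism fixing a four group pointwise induces conjugation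
by one of its elements. -/
theorem conjSL_fix_four (hF : Odd (Fintype.card F)) {u w : PST} (hu : u * u = 1)
    (hw : w * w = 1) (hu1 : u ≠ 1) (hw1 : w ≠ 1) (huw : u ≠ w) (hc : u * w = w * u)
    (g : GL (Fin 2) F) (hgu : AutPSL.toPSLAut (AutPSL.conjSL g) u = u)
    (hgw : AutPSL.toPSLAut (AutPSL.conjSL g) w = w) :
    ∃ x : PST, (x = 1 ∨ x = u ∨ x = w ∨ x = u * w) ∧
      AutPSL.toPSLAut (AutPSL.conjSL g) = MulAut.conj x := by
  obtain ⟨i, j, rfl, rfl, hi, hj, hji⟩ := exists_quaternion_lift hF hu hw hu1 hw1 huw hc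
  rw [AutPSL.toPSLAut_mk, eq_comm] at hgu hgw
  rw [psl2_mk_eq_iff] at hgu hgw
  have hinvi : i⁻¹ = -i := inv_eq_of_mul_eq_one_right (by rw [mul_neg, hi, neg_neg])
  have hinvj : j⁻¹ = -j := inv_eq_of_mul_eq_one_right (by rw [mul_neg, hj, neg_neg])
  have cii : MulAut.conj i i = i := by simp
  have cjj : MulAut.conj j j = j := by simp
  have cij : MulAut.conj i j = -j := by
    rw [MulAut.conj_apply, hinvi, mul_neg, mul_assoc, hji, mul_neg, ← mul_assoc, hi, neg_neg,
      neg_one_mul]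
  have cji : MulAut.conj j i = -i := by
    rw [MulAut.conj_apply, hinvj, hji, neg_mul, mul_neg, mul_assoc, hj, mul_neg, mul_one, neg_neg]
  have cneg : ∀ a b : SLT, MulAut.conj a (-b) = -(MulAut.conj a b) := by
    intro a b
    rw [MulAut.conj_apply, MulAut.conj_apply, mul_neg, neg_mul]
  obtain ⟨h, hh, h1, h2⟩ : ∃ h : SLT, ((QuotientGroup.mk h : PST) = 1 ∨
      (QuotientGroup.mk h : PST) = QuotientGroup.mk i ∨ (QuotientGroup.mk h : PST) = QuotientGroup.mk j ∨
      (QuotientGroup.mk h : PST) = QuotientGroup.mk i * QuotientGroup.mk j) ∧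
      MulAut.conj h i = AutPSL.conjSL g i ∧ MulAut.conj h j = AutPSL.conjSL g j := by
    rcases hgu with a | a <;> rcases hgw with b | b <;> rw [a, b]
    · exact ⟨1, Or.inl (QuotientGroup.mk_one _), by simp, by simp⟩
    · exact ⟨i, Or.inr (Or.inl rfl), cii, cij⟩
    · exact ⟨j, Or.inr (Or.inr (Or.inl rfl)), cji, cjj⟩
    · refine ⟨i * j, Or.inr (Or.inr (Or.inr (QuotientGroup.mk_mul _ _ _))), ?_, ?_⟩
      · rw [map_mul, MulAut.mul_apply, cji, cneg, cii]
      · rw [map_mul, MulAut.mul_apply, cjj, cij]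
  refine ⟨QuotientGroup.mk h, hh, ?_⟩
  let g' : GL (Fin 2) F := (Matrix.SpecialLinearGroup.toGL h)⁻¹ * g
  have hfix : ∀ z : SLT, MulAut.conj h z = AutPSL.conjSL g z → AutPSL.conjSL g' z = z := by
    intro z hz
    simp only [g', map_mul, map_inv, AutPSL.conjSL_toGL, MulAut.mul_apply]
    rw [← hz]
    exact (MulAut.conj h).symm_apply_apply z
  have hcomm : ∀ z : SLT, AutPSL.conjSL g' z = z → z.1 * g'.1 = g'.1 * z.1 := by
    intro z hz
    have h' := congrArg Subtype.val hz
    rw [AutPSL.conjSL_coe] at h'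
    calc z.1 * g'.1 = g'.1 * z.1 * (g'⁻¹).1 * g'.1 := by rw [h']
      _ = g'.1 * z.1 := by rw [mul_assoc, Units.inv_mul, mul_one]
  obtain ⟨a, ha⟩ := scalar_of_commute_quaternion hF hi hji (hcomm i (hfix i h1)) (hcomm j (hfix j h2))
  have htriv : AutPSL.conjSL g' = 1 := by
    ext1 z
    apply Subtype.ext
    rw [AutPSL.conjSL_coe]
    calc g'.1 * z.1 * (g'⁻¹).1 = z.1 * g'.1 * (g'⁻¹).1 := by
          congr 1
          rw [ha, smul_mul_assoc, mul_smul_comm, one_mul, mul_one]
      _ = z.1 := by rw [mul_assoc, Units.mul_inv, mul_one]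
  have hg : g = Matrix.SpecialLinearGroup.toGL h * g' := by simp [g']
  rw [hg, map_mul, htriv, mul_one, AutPSL.conjSL_toGL, AutPSL.toPSLAut_conj]

/-- An element of `PSL₂` commuting with a four group lies in it, up to the centre of `PSL₂`. -/
theorem mem_four_of_commute (hF : Odd (Fintype.card F)) {u w : PST} (hu : u * u = 1)
    (hw : w * w = 1) (hu1 : u ≠ 1) (hw1 : w ≠ 1) (huw : u ≠ w) (hc : u * w = w * u)
    {x : PST} (hxu : x * u = u * x) (hxw : x * w = w * x) :
    x = 1 ∨ x = u ∨ x = w ∨ x = u * w := by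
  obtain ⟨s, rfl⟩ := QuotientGroup.mk_surjective x
  have hfix : ∀ z : PST, (QuotientGroup.mk s : PST) * z = z * QuotientGroup.mk s →
      AutPSL.toPSLAut (AutPSL.conjSL (Matrix.SpecialLinearGroup.toGL s)) z = z := by
    intro z hz
    rw [AutPSL.conjSL_toGL, AutPSL.toPSLAut_conj, MulAut.conj_apply, hz, mul_inv_cancel_right]
  obtain ⟨y, hy, he⟩ := conjSL_fix_four hF hu hw hu1 hw1 huw hc _ (hfix u hxu) (hfix w hxw)
  obtain ⟨r, rfl⟩ := QuotientGroup.mk_surjective y
  rw [← AutPSL.toPSLAut_conj, AutPSL.conjSL_toGL] at he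
  obtain ⟨p, hp⟩ := CharP.exists F
  haveI : Fact p.Prime := ⟨CharP.char_is_prime F p⟩
  have he' := AutPSL.toPSLAut_injective p he
  have hmem : s⁻¹ * r ∈ Subgroup.center SLT := by
    rw [Subgroup.mem_center_iff]
    intro z
    have hz : s * z * s⁻¹ = r * z * r⁻¹ := DFunLike.congr_fun he' z
    calc z * (s⁻¹ * r) = s⁻¹ * (s * z * s⁻¹) * r := by group
      _ = s⁻¹ * r * z := by rw [hz]; group
  rw [QuotientGroup.eq.2 hmem]
  exact hy

/-- With commutative Sylow 2-subgroups, a Sylow 2-subgroup is a four group. -/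
theorem psl2_sylow_four (hF : Odd (Fintype.card F))
    (hab : ∀ S : Sylow 2 PST, IsMulCommutative (S : Subgroup PST)) (S : Sylow 2 PST) :
    Nat.card (S : Subgroup PST) = 4 ∧ ∃ u w : PST, u * u = 1 ∧ w * w = 1 ∧ u ≠ 1 ∧ w ≠ 1 ∧
      u ≠ w ∧ u * w = w * u ∧
      ∀ z : PST, z ∈ S ↔ z = 1 ∨ z = u ∨ z = w ∨ z = u * w := by
  haveI : Fact (Nat.Prime 2) := ⟨Nat.prime_two⟩
  obtain ⟨i, j, hi, hj, hji⟩ := Linear.exists_anticommuting_pair hF
  let u : PST := QuotientGroup.mk i
  let w : PST := QuotientGroup.mk j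
  have hne : ∀ z : SLT, -z ≠ z := by
    intro z hz
    apply Linear.neg_one_ne_one hF
    calc (-1 : SLT) = -z * z⁻¹ := by rw [neg_mul, mul_inv_cancel]
      _ = 1 := by rw [hz, mul_inv_cancel]
  have hu : u * u = 1 := by
    change (QuotientGroup.mk (i * i) : PST) = 1
    rw [hi, psl2_mk_neg]; rfl
  have hw : w * w = 1 := by
    change (QuotientGroup.mk (j * j) : PST) = 1
    rw [hj, psl2_mk_neg]; rfl
  have hcomm : u * w = w * u := psl2_mk_eq_iff.2 (Or.inr hji)
  have hne1 : ∀ z : SLT, z * z = -1 → (QuotientGroup.mk z : PST) ≠ 1 := by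
    intro z hz h
    rw [QuotientGroup.eq_one_iff, SL2Trace.mem_center_iff_eq] at h
    apply Linear.neg_one_ne_one hF
    rcases h with rfl | rfl <;> rw [← hz] <;> simp
  have hu1 : u ≠ 1 := hne1 i hi
  have hw1 : w ≠ 1 := hne1 j hj
  have huw : u ≠ w := fun h => by
    rcases psl2_mk_eq_iff.1 h with rfl | rfl
    · exact hne _ hji.symm
    · rw [neg_mul, mul_neg, neg_neg] at hji; exact hne (i * i) hji
  let H : Subgroup PST := Subgroup.zpowers u ⊔ Subgroup.zpowers w
  have hH : IsPGroup 2 H := by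
    intro ⟨z, hz⟩
    have hnorm : Subgroup.zpowers u ≤ Subgroup.normalizer (Subgroup.zpowers w : Set PST) := by
      rw [Subgroup.zpowers_le, Subgroup.mem_normalizer_iff]
      intro a
      have hcn : ∀ n : ℤ, u * w ^ n * u⁻¹ = w ^ n := fun n =>
        mul_inv_eq_iff_eq_mul.2 (Commute.zpow_right hcomm n).eq
      constructor
      · intro ha
        obtain ⟨n, rfl⟩ := Subgroup.mem_zpowers_iff.1 ha
        rw [hcn]; exact ha
      · intro ha
        obtain ⟨n, hn⟩ := Subgroup.mem_zpowers_iff.1 ha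
        have : a = w ^ n := by
          have := hcn n
          rw [hn] at this ⊢
          exact (mul_left_cancel (mul_right_cancel this)).symm
        rw [this]; exact Subgroup.mem_zpowers_iff.2 ⟨n, rfl⟩
    have hz' : z ∈ (↑(Subgroup.zpowers u ⊔ Subgroup.zpowers w) : Set PST) := hz
    rw [Subgroup.coe_mul_of_left_le_normalizer_right _ _ hnorm] at hz'
    obtain ⟨a, ha, b, hb, rfl⟩ := Set.mem_mul.1 hz'
    obtain ⟨m, rfl⟩ := Subgroup.mem_zpowers_iff.1 ha
    obtain ⟨n, rfl⟩ := Subgroup.mem_zpowers_iff.1 hb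
    refine ⟨1, Subtype.ext ?_⟩
    change (u ^ m * w ^ n) ^ 2 ^ 1 = 1
    rw [pow_one, ((Commute.zpow_zpow hcomm m n).mul_pow 2), ← zpow_natCast, ← zpow_natCast,
      zpow_comm u, zpow_comm w, zpow_natCast, zpow_natCast, pow_two, pow_two, hu, hw, _root_.one_zpow,
      _root_.one_zpow, one_mul]
  obtain ⟨S', hS'⟩ := hH.exists_le_sylow
  have huS : u ∈ S' := hS' (Subgroup.mem_sup_left (Subgroup.mem_zpowers u))
  have hwS : w ∈ S' := hS' (Subgroup.mem_sup_right (Subgroup.mem_zpowers w))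
  have hS'4 : Nat.card (S' : Subgroup PST) = 4 := by
    have hset : ((S' : Subgroup PST) : Set PST) = {1, u, w, u * w} := by
      ext z
      constructor
      · intro hz
        have hc := hab S'
        have hzu : z * u = u * z :=
          congrArg Subtype.val (hc.is_comm.comm (⟨z, hz⟩ : (S' : Subgroup PST)) ⟨u, huS⟩)
        have hzw : z * w = w * z :=
          congrArg Subtype.val (hc.is_comm.comm (⟨z, hz⟩ : (S' : Subgroup PST)) ⟨w, hwS⟩)
        simpa using mem_four_of_commute hF hu hw hu1 hw1 huw hcomm hzu hzw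
      · rintro (rfl | rfl | rfl | rfl)
        · exact one_mem _
        · exact huS
        · exact hwS
        · exact mul_mem huS hwS
    change Nat.card ((S' : Subgroup PST) : Set PST) = 4
    rw [hset, Nat.card_coe_set_eq]
    have e1 : u * w ≠ 1 := fun h => huw (by rw [mul_eq_one_iff_eq_inv] at h; rw [h, inv_eq_of_mul_eq_one_right hw])
    rw [Set.ncard_insert_of_notMem (by simp [Ne.symm hu1, Ne.symm hw1, Ne.symm e1]),
      Set.ncard_insert_of_notMem (by simp [huw, hw1]),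
      Set.ncard_pair (by simp [hu1])]
  let e := Sylow.equiv S' S
  let u' : PST := (e ⟨u, huS⟩ : (S : Subgroup PST))
  let w' : PST := (e ⟨w, hwS⟩ : (S : Subgroup PST))
  have hu' : u' * u' = 1 := by
    change (((e ⟨u, huS⟩ * e ⟨u, huS⟩ : (S : Subgroup PST))) : PST) = 1
    rw [← map_mul, show (⟨u, huS⟩ : (S' : Subgroup PST)) * ⟨u, huS⟩ = 1 from Subtype.ext hu, map_one]
    rfl
  have hw' : w' * w' = 1 := by
    change (((e ⟨w, hwS⟩ * e ⟨w, hwS⟩ : (S : Subgroup PST))) : PST) = 1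
    rw [← map_mul, show (⟨w, hwS⟩ : (S' : Subgroup PST)) * ⟨w, hwS⟩ = 1 from Subtype.ext hw, map_one]
    rfl
  have inj1 : ∀ a : (S' : Subgroup PST), (e a : PST) = 1 → (a : PST) = 1 := fun a h => by
    rw [← Subgroup.coe_one (S' : Subgroup PST)]
    exact congrArg Subtype.val (e.injective (Subtype.ext (by rw [map_one]; exact h)))
  have hu1' : u' ≠ 1 := fun h => hu1 (inj1 _ h)
  have hw1' : w' ≠ 1 := fun h => hw1 (inj1 _ h)
  have huw' : u' ≠ w' := fun h => huw (congrArg Subtype.val (e.injective (Subtype.ext h)))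
  have hc' : u' * w' = w' * u' := by
    change (((e ⟨u, huS⟩ * e ⟨w, hwS⟩ : (S : Subgroup PST))) : PST) =
      (((e ⟨w, hwS⟩ * e ⟨u, huS⟩ : (S : Subgroup PST))) : PST)
    rw [(hab S).is_comm.comm]
  refine ⟨by rw [← hS'4]; exact (Nat.card_congr e.toEquiv).symm, u', w', hu', hw', hu1', hw1', huw', hc', fun z => ?_⟩
  constructor
  · intro hz
    exact mem_four_of_commute hF hu' hw' hu1' hw1' huw' hc'
      (congrArg Subtype.val ((hab S).is_comm.comm (⟨z, hz⟩ : (S : Subgroup PST)) (e ⟨u, huS⟩)))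
      (congrArg Subtype.val ((hab S).is_comm.comm (⟨z, hz⟩ : (S : Subgroup PST)) (e ⟨w, hwS⟩)))
  · rintro (rfl | rfl | rfl | rfl)
    · exact one_mem _
    · exact (e ⟨u, huS⟩).2
    · exact (e ⟨w, hwS⟩).2
    · exact mul_mem (e ⟨u, huS⟩).2 (e ⟨w, hwS⟩).2

/-- With commutative Sylow 2-subgroups the degree of `F` over its prime field is odd. -/
theorem psl2_abelian_degree_odd (hF : Odd (Fintype.card F))
    (hab : ∀ S : Sylow 2 PST, IsMulCommutative (S : Subgroup PST)) :
    Odd (Nat.card (F ≃+* F)) := by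
  haveI : Fact (Nat.Prime 2) := ⟨Nat.prime_two⟩
  obtain ⟨p, hp⟩ := CharP.exists F
  obtain ⟨f, hpp, hcard⟩ := FiniteField.card F p
  haveI : Fact p.Prime := ⟨hpp⟩
  rw [AutPSL.card_ringEquiv hcard f.pos]
  by_contra hodd
  obtain ⟨k, hk⟩ := Nat.not_odd_iff_even.1 hodd
  obtain ⟨S⟩ : Nonempty (Sylow 2 PST) := inferInstance
  have h4 := (psl2_sylow_four hF hab S).1
  have hm : Fintype.card F = p ^ k * p ^ k := by rw [hcard, ← pow_add, ← hk]
  have hmodd : Odd (p ^ k) := by
    rw [hm] at hF; exact (Nat.odd_mul.1 hF).1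
  obtain ⟨m, hm'⟩ := hmodd
  have h16 : 16 ∣ Fintype.card F ^ 2 - 1 := by
    obtain ⟨c, hc⟩ := Nat.even_mul_succ_self m
    refine ⟨c * (4 * c + 1), ?_⟩
    have hq : Fintype.card F = 8 * c + 1 := by rw [hm, hm']; nlinarith [hc]
    rw [hq, show (8 * c + 1) ^ 2 = 16 * (c * (4 * c + 1)) + 1 by ring, Nat.add_sub_cancel]
  have hP := Linear.card_PSL_two_odd hF
  have hS := S.card_eq_multiplicity
  rw [h4] at hS
  have h8 : 2 ^ 3 ∣ Nat.card PST := by
    have : 16 ∣ 2 * Nat.card PST := by rw [hP]; exact Dvd.dvd.mul_left h16 _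
    omega
  have h3 := (Nat.Prime.pow_dvd_iff_le_factorization Nat.prime_two Nat.card_pos.ne').1 h8
  have h2 : (Nat.card PST).factorization 2 = 2 :=
    Nat.pow_right_injective (le_refl 2) (by simpa using hS.symm)
  omega

/-- A 2-power order automorphism of `PSL₂` fixing a (commutative) Sylow 2-subgroup pointwise is
conjugation by one of its elements. -/
theorem psl2_two_auto_inner (hF : Odd (Fintype.card F))
    (hab : ∀ S : Sylow 2 PST, IsMulCommutative (S : Subgroup PST)) (S : Sylow 2 PST)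
    (α : MulAut PST) {k : ℕ} (hk : α ^ 2 ^ k = 1) (hfix : ∀ s ∈ S, α s = s) :
    ∃ x ∈ S, α = MulAut.conj x := by
  obtain ⟨g, σ, γ, hγ, hα⟩ := AutPSL.exists_form le_rfl α
  obtain ⟨g', hg'⟩ : ∃ g' : GL (Fin 2) F,
      AutPSL.conjSL g * AutPSL.fieldSL σ * γ = AutPSL.conjSL g' * AutPSL.fieldSL σ := by
    rcases hγ with rfl | rfl
    · exact ⟨g, by rw [mul_one]⟩
    · obtain ⟨w, hw⟩ := AutPSL.invTransSL_fin_two (F := F)
      exact ⟨g * AutPSL.mapGL σ w, by
        rw [hw, mul_assoc, AutPSL.fieldSL_mul_conjSL, map_mul, mul_assoc]⟩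
  rw [hg'] at hα
  let d := Nat.card (F ≃+* F)
  have hpow : α ^ d = AutPSL.toPSLAut (AutPSL.conjSL (AutPSL.twNorm σ g' d)) := by
    rw [hα, ← map_pow, AutPSL.conjSL_fieldSL_pow, show σ ^ d = 1 from pow_card_eq_one', map_one,
      mul_one]
  obtain ⟨m, hm⟩ : ∃ m, (α ^ d) ^ m = α := by
    refine exists_pow_eq_self_of_coprime ?_
    obtain ⟨e, -, he⟩ := (Nat.dvd_prime_pow Nat.prime_two).1 (orderOf_dvd_of_pow_eq_one hk)
    rw [he]
    exact Nat.Coprime.pow_right _ (Nat.coprime_two_right.2 (psl2_abelian_degree_odd hF hab))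
  obtain ⟨-, u, w, hu, hw, hu1, hw1, huw, hc, hmem⟩ := psl2_sylow_four hF hab S
  rw [hpow, ← map_pow, ← map_pow] at hm
  obtain ⟨x, hx, he⟩ := conjSL_fix_four hF hu hw hu1 hw1 huw hc (AutPSL.twNorm σ g' d ^ m)
    (by rw [hm]; exact hfix u ((hmem u).2 (Or.inr (Or.inl rfl))))
    (by rw [hm]; exact hfix w ((hmem w).2 (Or.inr (Or.inr (Or.inl rfl)))))
  exact ⟨x, (hmem x).2 hx, by rw [← hm, he]⟩

end CfsgLib.Inv53
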