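import Cfsg.Agent.SL2Trace.Basic
import Cfsg.Agent.LinearElements.TwoByTwo

/-!
# Elements squaring to the involution in `SL₂(q)`, `q` odd
-/

set_option autoImplicit false

namespace CfsgLib.Inv53

open Matrix
open scoped MatrixGroups

variable {F : Type*} [Field F] [Fintype F]

omit [Fintype F] in
theorem sl2_trace_zero_iff (h2 : (2 : F) ≠ 0) {x : SL(2, F)} :
    ((x : Matrix (Fin 2) (Fin 2) F) * x = -1) ↔ (x : Matrix (Fin 2) (Fin 2) F).trace = 0 := by
  rw [CfsgLib.LinearElements.two_sq_eq, x.2, one_smul]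
  constructor
  · intro h
    have h' : (x : Matrix (Fin 2) (Fin 2) F).trace • (x : Matrix (Fin 2) (Fin 2) F) = 0 := by
      rw [← sub_add_cancel ((x : Matrix (Fin 2) (Fin 2) F).trace • (x : Matrix (Fin 2) (Fin 2) F)) 1, h,
        neg_add_cancel]
    rcases smul_eq_zero.1 h' with h'' | h''
    · exact h''
    · have := x.2
      rw [h''] at this
      simp at this
  · intro h; rw [h, zero_smul, zero_sub]

omit [Fintype F] in
theorem sl2_coe_ne_scalar (h2 : (2 : F) ≠ 0) {x : SL(2, F)}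
    (ht : (x : Matrix (Fin 2) (Fin 2) F).trace = 0) :
    CfsgLib.LinearElements.NonScalar (x : Matrix (Fin 2) (Fin 2) F) := by
  intro c hc
  have hd := x.2
  rw [hc] at ht hd
  simp at ht hd
  rcases ht with h | h
  · simp [h] at hd
  · exact h2 h

omit [Fintype F] in
theorem sl2_coe_neg_one : ((-1 : SL(2, F)) : Matrix (Fin 2) (Fin 2) F) = -1 := by simp

omit [Fintype F] in
theorem sl2_sq_eq_one {h2 : (2 : F) ≠ 0} {x : SL(2, F)} (h : x * x = 1) : x = 1 ∨ x = -1 := by
  set X := (x : Matrix (Fin 2) (Fin 2) F) with hX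
  have hXX : X * X = 1 := congrArg Subtype.val h
  rw [CfsgLib.LinearElements.two_sq_eq, x.2, one_smul, sub_eq_iff_eq_add, ← two_smul F (1 : Matrix (Fin 2) (Fin 2) F)] at hXX
  have hne : X.trace ≠ 0 := fun e => by
    rw [e, zero_smul] at hXX
    have h3 := congrFun (congrFun hXX 0) 0
    simp at h3
    exact h2 h3.symm
  have hs : X = ((X.trace)⁻¹ * 2) • (1 : Matrix (Fin 2) (Fin 2) F) := by
    rw [← smul_smul, ← hXX, smul_smul, inv_mul_cancel₀ hne, one_smul]
  set c := (X.trace)⁻¹ * 2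
  have hd : c ^ 2 = 1 := by
    have := x.2
    rw [← hX, hs] at this
    simpa [sq] using this
  rcases sq_eq_one_iff.1 hd with e | e
  · left; exact Subtype.ext (hs.trans (by rw [e, one_smul]; rfl))
  · right; exact Subtype.ext ((hs.trans (by rw [e, neg_smul, one_smul])).trans sl2_coe_neg_one.symm)

omit [Fintype F] in
theorem sl2_coe_sq {x : SL(2, F)} :
    x * x = -1 ↔ (x : Matrix (Fin 2) (Fin 2) F) * x = -1 :=
  ⟨fun h => (congrArg Subtype.val h).trans sl2_coe_neg_one,
    fun h => Subtype.ext (h.trans sl2_coe_neg_one.symm)⟩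

theorem sl2_isConj (h2 : (2 : F) ≠ 0) {x y : SL(2, F)} (hx : x * x = -1) (hy : y * y = -1) :
    IsConj x y := by
  rw [sl2_coe_sq, sl2_trace_zero_iff h2] at hx hy
  refine CfsgLib.SL2Trace.isConj_of_trace_eq x y (hx.trans hy.symm) ?_
  rw [hx]
  intro h
  have : (2 : F) * 2 = 0 := by linear_combination -h
  rcases mul_eq_zero.1 this with h' | h' <;> exact h2 h'

omit [Fintype F] in
theorem sl2_commute_eq (h2 : (2 : F) ≠ 0) {x y : SL(2, F)} (hx : x * x = -1) (hy : y * y = -1)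
    (h : x * y = y * x) : y = x ∨ y = x * -1 := by
  rw [sl2_coe_sq, sl2_trace_zero_iff h2] at hx hy
  have hns := sl2_coe_ne_scalar h2 hx
  obtain ⟨a, b, hab⟩ := CfsgLib.LinearElements.exists_eq_of_commute hns
    (M := (y : Matrix (Fin 2) (Fin 2) F))
    (congrArg Subtype.val h).symm
  have ha : a = 0 := by
    have := congrArg Matrix.trace hab
    rw [hy, Matrix.trace_add, Matrix.trace_smul, Matrix.trace_smul, hx] at this
    simp at this
    exact this.resolve_right h2
  rw [ha, zero_smul, zero_add] at hab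
  have hb : b ^ 2 = 1 := by
    have := y.2
    rw [hab, Matrix.det_smul, x.2] at this
    simpa using this
  rcases sq_eq_one_iff.1 hb with e | e
  · left; apply Subtype.ext; rw [hab, e, one_smul]
  · right
    refine Subtype.ext (hab.trans ?_)
    show _ = (x : Matrix (Fin 2) (Fin 2) F) * ((-1 : SL(2, F)) : Matrix (Fin 2) (Fin 2) F)
    rw [sl2_coe_neg_one, e, neg_smul, one_smul, mul_neg, mul_one]

theorem sl2_exists_invert (h2 : (2 : F) ≠ 0) {x : SL(2, F)} (hx : x * x = -1) :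
    ∃ u : SL(2, F), u * u = -1 ∧ u * x * u⁻¹ = x⁻¹ := by
  have hxi : x⁻¹ = -x := inv_eq_of_mul_eq_one_right (by rw [mul_neg, hx, neg_neg])
  have hx' : x⁻¹ * x⁻¹ = -1 := by rw [hxi, neg_mul_neg, hx]
  obtain ⟨g, hg⟩ := isConj_iff.1 (sl2_isConj h2 hx hx')
  refine ⟨g, ?_, hg⟩
  have hanti : (g : Matrix (Fin 2) (Fin 2) F) * x = -((x : Matrix (Fin 2) (Fin 2) F) * g) := by
    have := mul_inv_eq_iff_eq_mul.1 hg
    rw [hxi, neg_mul] at this
    have h3 := congrArg (fun z : SL(2, F) => (z : Matrix (Fin 2) (Fin 2) F)) this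
    simpa using h3
  rw [sl2_coe_sq, sl2_trace_zero_iff h2]
  have hinv : (x : Matrix (Fin 2) (Fin 2) F) * -(x : Matrix (Fin 2) (Fin 2) F) = 1 := by
    rw [mul_neg, sl2_coe_sq.1 hx, neg_neg]
  have h4 : (g : Matrix (Fin 2) (Fin 2) F) = -((x : Matrix (Fin 2) (Fin 2) F) * g * -(x : Matrix (Fin 2) (Fin 2) F)) := by
    rw [← neg_mul, ← hanti, mul_assoc, hinv, mul_one]
  have h5 : (g : Matrix (Fin 2) (Fin 2) F).trace = -(g : Matrix (Fin 2) (Fin 2) F).trace := by
    conv_lhs => rw [h4]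
    rw [Matrix.trace_neg, Matrix.trace_mul_comm, ← mul_assoc, neg_mul, sl2_coe_sq.1 hx, neg_neg, one_mul]
  have h6 : (2 : F) * (g : Matrix (Fin 2) (Fin 2) F).trace = 0 := by linear_combination h5
  exact (mul_eq_zero.1 h6).resolve_left h2

omit [Fintype F] in
theorem sl2_exists_sq (h2 : (2 : F) ≠ 0) : ∃ x : SL(2, F), x * x = -1 := by
  refine ⟨CfsgLib.SL2Trace.mkSL !![0, -1; 1, 0] (by simp [Matrix.det_fin_two]), ?_⟩
  rw [sl2_coe_sq, sl2_trace_zero_iff h2, CfsgLib.SL2Trace.coe_mkSL]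
  simp [Matrix.trace_fin_two]

/-- The facts about a subgroup isomorphic to `SL₂(q)`, `q` odd, with central involution `j`. -/
theorem sl2_subgroup_facts {G : Type*} [Group G] {L : Subgroup G} (e : ↥L ≃* SL(2, F))
    (hF : Odd (Fintype.card F)) {j : G} (hj : orderOf j = 2) (hjL : j ∈ L) :
    (∀ x ∈ L, x * x = 1 → x = 1 ∨ x = j) ∧ (∃ a ∈ L, a * a = j) ∧
    (∀ x ∈ L, ∀ y ∈ L, x * x = j → y * y = j → ∃ g ∈ L, g * x * g⁻¹ = y) ∧
    (∀ x ∈ L, ∀ y ∈ L, x * x = j → y * y = j → x * y = y * x → y = x ∨ y = x * j) ∧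
    (∀ a ∈ L, a * a = j → ∃ u ∈ L, u * u = j ∧ u * a * u⁻¹ = a⁻¹) := by
  have h2 : (2 : F) ≠ 0 := Ring.two_ne_zero fun hc => by
    have h1 := FiniteField.even_card_of_char_two hc
    rw [Nat.odd_iff] at hF
    omega
  have hj1 : j ≠ 1 := fun h => by rw [h, orderOf_one] at hj; omega
  have hjj : j * j = 1 := by rw [← sq, ← hj, pow_orderOf_eq_one]
  have hej : e ⟨j, hjL⟩ = -1 := by
    refine (sl2_sq_eq_one (h2 := h2) ?_).resolve_left ?_
    · rw [← map_mul, show (⟨j, hjL⟩ : L) * ⟨j, hjL⟩ = 1 from Subtype.ext hjj, map_one]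
    · intro h
      exact hj1 (congrArg Subtype.val (e.map_eq_one_iff.1 h))
  have hsq : ∀ x : L, (x : G) * x = j ↔ e x * e x = -1 := fun x => by
    rw [← map_mul, ← hej, e.injective.eq_iff, Subtype.ext_iff]
    rfl
  have hback : ∀ (s : SL(2, F)), s * s = -1 → ((e.symm s : L) : G) * (e.symm s : L) = j := fun s hs =>
    (hsq _).2 (by rw [e.apply_symm_apply, hs])
  refine ⟨fun x hx hxx => ?_, ?_, fun x hx y hy hxx hyy => ?_, fun x hx y hy hxx hyy hxy => ?_,
    fun a ha haa => ?_⟩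
  · rcases sl2_sq_eq_one (h2 := h2) (x := e ⟨x, hx⟩)
      (by rw [← map_mul, show (⟨x, hx⟩ : L) * ⟨x, hx⟩ = 1 from Subtype.ext hxx, map_one]) with h | h
    · exact Or.inl (congrArg Subtype.val (e.map_eq_one_iff.1 h))
    · exact Or.inr (congrArg Subtype.val (e.injective (h.trans hej.symm)))
  · obtain ⟨s, hs⟩ := sl2_exists_sq (F := F) h2
    exact ⟨_, (e.symm s).2, hback s hs⟩
  · obtain ⟨g, hg⟩ := isConj_iff.1 (sl2_isConj h2 ((hsq ⟨x, hx⟩).1 hxx) ((hsq ⟨y, hy⟩).1 hyy))
    refine ⟨(e.symm g : L), (e.symm g).2, ?_⟩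
    have h := congrArg e.symm hg
    simp only [map_mul, map_inv, MulEquiv.symm_apply_apply] at h
    exact congrArg Subtype.val h
  · rcases sl2_commute_eq h2 ((hsq ⟨x, hx⟩).1 hxx) ((hsq ⟨y, hy⟩).1 hyy)
      (by rw [← map_mul, ← map_mul]; exact congrArg e (Subtype.ext hxy)) with h | h
    · exact Or.inl (congrArg Subtype.val (e.injective h))
    · rw [← hej, ← map_mul] at h
      exact Or.inr (congrArg Subtype.val (e.injective h))
  · obtain ⟨u, hu, hua⟩ := sl2_exists_invert h2 ((hsq ⟨a, ha⟩).1 haa)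
    refine ⟨(e.symm u : L), (e.symm u).2, hback u hu, ?_⟩
    have h := congrArg e.symm hua
    simp only [map_mul, map_inv, MulEquiv.symm_apply_apply] at h
    exact congrArg Subtype.val h

end CfsgLib.Inv53

namespace CfsgLib.Inv53

open Matrix
open scoped MatrixGroups

variable {F : Type*} [Field F] [Fintype F]

/-- Only `±1` commutes with every element squaring to `-1`. -/
theorem sl2_center_of_commute (h2 : (2 : F) ≠ 0) {d : SL(2, F)}
    (h : ∀ x : SL(2, F), x * x = -1 → x * d = d * x) : d = 1 ∨ d = -1 := by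
  obtain ⟨w, hw⟩ := sl2_exists_sq (F := F) h2
  obtain ⟨u, hu, huw⟩ := sl2_exists_invert h2 hw
  have hwu : u * w ≠ w * u := by
    intro e
    have hns := sl2_coe_ne_scalar h2 ((sl2_trace_zero_iff h2).1 (sl2_coe_sq.1 hw))
    rw [e, mul_inv_cancel_right] at huw
    have h1 : w * w = 1 := eq_inv_iff_mul_eq_one.1 huw
    rw [hw] at h1
    have h3 := congrFun (congrFun (congrArg Subtype.val h1) 0) 0
    rw [sl2_coe_neg_one] at h3
    simp at h3
    exact h2 (by linear_combination -h3)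
  obtain ⟨a, b, hab⟩ := CfsgLib.LinearElements.exists_eq_of_commute
    (sl2_coe_ne_scalar h2 ((sl2_trace_zero_iff h2).1 (sl2_coe_sq.1 hw)))
    (M := (d : Matrix (Fin 2) (Fin 2) F)) (congrArg Subtype.val (h w hw)).symm
  have hb : b = 0 := by
    by_contra hb
    apply hwu
    have h1 : (u : Matrix (Fin 2) (Fin 2) F) * d = (d : Matrix (Fin 2) (Fin 2) F) * u :=
      congrArg Subtype.val (h u hu)
    rw [hab, mul_add, add_mul, Matrix.mul_smul, Matrix.smul_mul, mul_one, one_mul, Matrix.mul_smul,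
      Matrix.smul_mul, add_right_inj] at h1
    exact Subtype.ext (smul_right_injective _ hb h1)
  rw [hb, zero_smul, add_zero] at hab
  have ha : a ^ 2 = 1 := by
    have := d.2
    rw [hab, Matrix.det_smul] at this
    simpa using this
  rcases sq_eq_one_iff.1 ha with e | e
  · left; exact Subtype.ext (hab.trans (by rw [e, one_smul]; rfl))
  · right; exact Subtype.ext ((hab.trans (by rw [e, neg_smul, one_smul])).trans sl2_coe_neg_one.symm)

/-- Only `1` and `j` in `L ≅ SL₂(q)` commute with every element squaring to `j`. -/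
theorem sl2_subgroup_centralizer {G : Type*} [Group G] {L : Subgroup G} (e : ↥L ≃* SL(2, F))
    (hF : Odd (Fintype.card F)) {j : G} (hj : orderOf j = 2) (hjL : j ∈ L) {d : G} (hd : d ∈ L)
    (h : ∀ x ∈ L, x * x = j → x * d = d * x) : d = 1 ∨ d = j := by
  have h2 : (2 : F) ≠ 0 := Ring.two_ne_zero fun hc => by
    have h1 := FiniteField.even_card_of_char_two hc
    rw [Nat.odd_iff] at hF
    omega
  have hj1 : j ≠ 1 := fun h => by rw [h, orderOf_one] at hj; omega
  have hjj : j * j = 1 := by rw [← sq, ← hj, pow_orderOf_eq_one]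
  have hej : e ⟨j, hjL⟩ = -1 := by
    refine (sl2_sq_eq_one (h2 := h2) ?_).resolve_left ?_
    · rw [← map_mul, show (⟨j, hjL⟩ : L) * ⟨j, hjL⟩ = 1 from Subtype.ext hjj, map_one]
    · intro h
      exact hj1 (congrArg Subtype.val (e.map_eq_one_iff.1 h))
  have hcom : ∀ x : SL(2, F), x * x = -1 → x * e ⟨d, hd⟩ = e ⟨d, hd⟩ * x := by
    intro x hx
    have h1 : e.symm x * e.symm x = ⟨j, hjL⟩ := e.injective (by rw [map_mul, e.apply_symm_apply, hej, hx])
    have h3 := h _ (e.symm x).2 (congrArg Subtype.val h1)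
    have h4 : e (e.symm x * ⟨d, hd⟩) = e (⟨d, hd⟩ * e.symm x) := congrArg e (Subtype.ext h3)
    rwa [map_mul, map_mul, e.apply_symm_apply] at h4
  rcases sl2_center_of_commute h2 hcom with h' | h'
  · exact Or.inl (congrArg Subtype.val (e.map_eq_one_iff.1 h'))
  · exact Or.inr (congrArg Subtype.val (e.injective (h'.trans hej.symm)))

end CfsgLib.Inv53
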