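import Mathlib.GroupTheory.Sylow
import Mathlib.GroupTheory.Nilpotent
import Mathlib.GroupTheory.Subgroup.Centralizer
import Mathlib.GroupTheory.Index
import Mathlib.Tactic

/-!
# Small general lemmas used for the statements S3171–S3249
-/

namespace CfsgLib.Inv53

variable {G : Type*} [Group G]

theorem mem_map_conj_iff {H : Subgroup G} {g x : G} :
    x ∈ H.map (MulAut.conj g).toMonoidHom ↔ g⁻¹ * x * g ∈ H := by
  constructor
  · rintro ⟨y, hy, rfl⟩
    simpa [MulAut.conj_apply, mul_assoc] using hy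
  · intro h
    exact ⟨g⁻¹ * x * g, h, by simp [MulAut.conj_apply, mul_assoc]⟩

theorem conj_mem_map_conj {H : Subgroup G} {g x : G} (hx : x ∈ H) :
    g * x * g⁻¹ ∈ H.map (MulAut.conj g).toMonoidHom :=
  ⟨x, hx, rfl⟩

theorem map_conj_map_conj (g h : G) (H : Subgroup G) :
    (H.map (MulAut.conj h).toMonoidHom).map (MulAut.conj g).toMonoidHom =
      H.map (MulAut.conj (g * h)).toMonoidHom := by
  ext x
  simp [mul_assoc]

theorem map_conj_one (H : Subgroup G) : H.map (MulAut.conj (1 : G)).toMonoidHom = H := by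
  ext x; simp [mem_map_conj_iff]

theorem map_conj_mono {H K : Subgroup G} (h : H ≤ K) (g : G) :
    H.map (MulAut.conj g).toMonoidHom ≤ K.map (MulAut.conj g).toMonoidHom :=
  Subgroup.map_mono h

theorem card_map_conj (g : G) (H : Subgroup G) :
    Nat.card (H.map (MulAut.conj g).toMonoidHom) = Nat.card H :=
  (Nat.card_congr (H.equivMapOfInjective _ (MulAut.conj g).injective).toEquiv).symm

theorem mem_normalizer_iff_map_conj {H : Subgroup G} {g : G} :
    g ∈ Subgroup.normalizer (H : Set G) ↔ H.map (MulAut.conj g).toMonoidHom = H := by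
  constructor
  · intro hg
    ext x
    rw [mem_map_conj_iff]
    exact (Subgroup.mem_normalizer_iff''.1 hg x).symm
  · intro h
    rw [Subgroup.mem_normalizer_iff'']
    intro x
    rw [← mem_map_conj_iff, h]

theorem map_conj_sylow {p : ℕ} (P : Sylow p G) (g : G) :
    ∃ Q : Sylow p G, (Q : Subgroup G) = (P : Subgroup G).map (MulAut.conj g).toMonoidHom :=
  ⟨g • P, by
    ext x
    rw [mem_map_conj_iff]
    rw [Sylow.coe_subgroup_smul, Subgroup.mem_pointwise_smul_iff_inv_smul_mem, ← map_inv,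
      MulAut.smul_def, MulAut.conj_apply, inv_inv]⟩

/-- A maximal `p`-subgroup `P` of `K` absorbs every `p`-subgroup of `K` up to conjugation in `K`. -/
theorem exists_conj_le_of_pGroup [Finite G] {p : ℕ} [Fact p.Prime] {K P Q : Subgroup G}
    (hP : IsPGroup p P) (hPK : P ≤ K) (hmax : ¬ p ∣ P.relIndex K)
    (hQ : IsPGroup p Q) (hQK : Q ≤ K) :
    ∃ k ∈ K, Q.map (MulAut.conj k).toMonoidHom ≤ P := by
  classical
  let P0 : Sylow p K := (hP.comap_subtype (K := K)).toSylow (by simpa [Subgroup.relIndex] using hmax)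
  obtain ⟨R, hR⟩ := (hQ.comap_subtype (K := K)).exists_le_sylow
  obtain ⟨k, hk⟩ := MulAction.exists_smul_eq K R P0
  refine ⟨k, k.2, ?_⟩
  rintro x ⟨q, hq, rfl⟩
  have h1 : (⟨q, hQK hq⟩ : K) ∈ (R : Subgroup K) := hR (by simpa [Subgroup.mem_subgroupOf] using hq)
  have h2 : k * ⟨q, hQK hq⟩ * k⁻¹ ∈ ((k • R : Sylow p K) : Subgroup K) := by
    rw [Sylow.coe_subgroup_smul, Subgroup.mem_pointwise_smul_iff_inv_smul_mem, ← map_inv,
      MulAut.smul_def, MulAut.conj_apply, inv_inv]
    simpa [mul_assoc] using h1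
  rw [hk] at h2
  have h3 : ((k : G) * q * (k : G)⁻¹) ∈ P := by
    simpa [P0, IsPGroup.toSylow_coe, Subgroup.mem_subgroupOf] using h2
  exact h3

end CfsgLib.Inv53

namespace CfsgLib.Inv53

variable {G : Type*} [Group G]

theorem mem_center_map_iff {S : Subgroup G} {x : G} :
    x ∈ (Subgroup.center S).map S.subtype ↔ x ∈ S ∧ ∀ s ∈ S, s * x = x * s := by
  constructor
  · rintro ⟨z, hz, rfl⟩
    exact ⟨z.2, fun s hs => congrArg Subtype.val (Subgroup.mem_center_iff.1 hz ⟨s, hs⟩)⟩
  · rintro ⟨hx, h⟩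
    exact ⟨⟨x, hx⟩, Subgroup.mem_center_iff.2 fun s => Subtype.ext (h s s.2), rfl⟩

theorem isPGroup_sup_zpowers [Finite G] {p : ℕ} [Fact p.Prime] {P : Subgroup G}
    (hP : IsPGroup p P) {x : G} (hx : IsPGroup p (Subgroup.zpowers x))
    (hcomm : ∀ a ∈ P, a * x = x * a) : IsPGroup p ↥(P ⊔ Subgroup.zpowers x) := by
  refine hP.to_sup_of_normal_right' hx fun a ha => ?_
  rw [Subgroup.mem_normalizer_iff'']
  intro y
  have key : ∀ y ∈ Subgroup.zpowers x, a⁻¹ * y * a = y := by
    rintro _ ⟨k, rfl⟩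
    have : Commute a (x ^ k) := Commute.zpow_right (hcomm a ha) k
    simp only
    rw [mul_assoc, ← this.eq, inv_mul_cancel_left]
  constructor
  · intro hy; rw [key y hy]; exact hy
  · intro hy
    obtain ⟨k, hk⟩ := hy
    have : Commute a (x ^ k) := Commute.zpow_right (hcomm a ha) k
    have hy' : y = x ^ k := by
      have := congrArg (fun z => a * z * a⁻¹) hk
      simp only at this
      rw [(Commute.zpow_right (hcomm a ha) k).eq, mul_inv_cancel_right] at this
      simpa [mul_assoc] using this.symm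
    exact ⟨k, hy'.symm⟩

end CfsgLib.Inv53

namespace CfsgLib.Inv53

variable {G : Type*} [Group G]

/-- A nontrivial normal subgroup of a finite `p`-group contains a nontrivial central element. -/
theorem exists_central_of_normal [Finite G] {p : ℕ} [Fact p.Prime] {P : Subgroup G} (hP : IsPGroup p P)
    (M : Subgroup P) [hM : M.Normal] (x : P) (hx : x ∈ M) (hx1 : x ≠ 1) :
    ∃ v : P, v ∈ M ∧ v ∈ Subgroup.center P ∧ v ≠ 1 := by
  let i : MulAction P M :=
    { smul := fun g a => ⟨g * a * g⁻¹, hM.conj_mem a a.2 g⟩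
      one_smul := fun a => Subtype.ext (by show 1 * (a : P) * 1⁻¹ = a; simp)
      mul_smul := fun g h a => Subtype.ext (by
        show g * h * (a : P) * (g * h)⁻¹ = g * (h * a * h⁻¹) * g⁻¹
        group) }
  have h1 : (1 : M) ∈ MulAction.fixedPoints P M := fun g => Subtype.ext (by
    show g * (1 : P) * g⁻¹ = 1
    group)
  have hdvd : p ∣ Nat.card M := by
    obtain ⟨n, hn⟩ := IsPGroup.iff_card.1 (hP.to_subgroup M)
    rcases n with _ | n
    · exfalso
      rw [pow_zero, Subgroup.card_eq_one] at hn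
      rw [hn, Subgroup.mem_bot] at hx
      exact hx1 hx
    · exact hn ▸ dvd_pow_self p (by simp)
  obtain ⟨v, hv, hv1⟩ := hP.exists_fixed_point_of_prime_dvd_card_of_fixed_point M hdvd h1
  refine ⟨v, v.2, Subgroup.mem_center_iff.2 fun g => ?_, fun h => hv1 (Subtype.ext h.symm)⟩
  have := congrArg Subtype.val (hv g)
  change g * (v : P) * g⁻¹ = v at this
  calc g * (v : P) = (g * v * g⁻¹) * g := by group
    _ = v * g := by rw [this]

/-- The trace of a Sylow subgroup `S ≤ N` on a subgroup `K` normalised by `N` is Sylow in `K`. -/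
theorem not_dvd_relIndex_inf [Finite G] {p : ℕ} [Fact p.Prime] (S : Sylow p G) {N K : Subgroup G}
    (hSN : (S : Subgroup G) ≤ N) (hKN : K ≤ N) (hnorm : N ≤ Subgroup.normalizer (K : Set G)) :
    ¬ p ∣ ((S : Subgroup G) ⊓ K).relIndex K := by
  let Q0 : Sylow p K := default
  set Q : Subgroup G := (Q0 : Subgroup K).map K.subtype with hQ
  have hQK : Q ≤ K := Subgroup.map_subtype_le _
  have hQrel : ¬ p ∣ Q.relIndex K := by
    rw [Subgroup.relIndex, Subgroup.subgroupOf,
      Subgroup.comap_map_eq_self_of_injective K.subtype_injective]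
    exact Q0.not_dvd_index
  obtain ⟨n, hn, hle⟩ := exists_conj_le_of_pGroup S.isPGroup' hSN
    (fun h => S.not_dvd_index (h.trans (Subgroup.relIndex_dvd_index_of_le hSN)))
    (Q0.isPGroup'.map K.subtype) (hQK.trans hKN)
  have hle' : Q.map (MulAut.conj n).toMonoidHom ≤ (S : Subgroup G) ⊓ K :=
    le_inf hle ((map_conj_mono hQK n).trans (mem_normalizer_iff_map_conj.1 (hnorm hn)).le)
  obtain ⟨k, hk, hle2⟩ := exists_conj_le_of_pGroup (Q0.isPGroup'.map K.subtype) hQK hQrel
    (S.isPGroup'.to_le (inf_le_left (b := K))) inf_le_right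
  have h1 := Subgroup.card_le_of_le hle'
  have h2 := Subgroup.card_le_of_le hle2
  rw [card_map_conj] at h1 h2
  have h3 : Nat.card ↥((S : Subgroup G) ⊓ K) = Nat.card Q := le_antisymm h2 h1
  intro h
  apply hQrel
  have e1 := (Q.subgroupOf K).index_mul_card
  have e2 := (((S : Subgroup G) ⊓ K).subgroupOf K).index_mul_card
  rw [Nat.card_congr (Subgroup.subgroupOfEquivOfLe hQK).toEquiv] at e1
  rw [Nat.card_congr (Subgroup.subgroupOfEquivOfLe (inf_le_right : (S : Subgroup G) ⊓ K ≤ K)).toEquiv,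
    h3, ← e1] at e2
  rwa [Subgroup.relIndex, ← Nat.eq_of_mul_eq_mul_right Nat.card_pos e2]

end CfsgLib.Inv53
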