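import Cfsg.Agent.Inv53.Constrained
import Cfsg.Agent.Inv53.Basic
import Cfsg.Agent.Coprime.Generation
import Cfsg.Prelude.Def_CaseTheorems
import Cfsg.Prelude.Def_OddOrderLocal
import Mathlib.GroupTheory.FixedPointFree

/-!
# 2-constrained subgroups and signalizers of odd order
-/

namespace CfsgLib.Inv53

open Cfsg Subgroup CfsgLib.PLocal

variable {G : Type*} [Group G]

/-- An elementary abelian subgroup of order at least 8, normal in `P`, from `SCN_3`. -/
theorem exists_elementary_of_scn [Finite G] {P A : Subgroup G} (hA : Cfsg.IsSCN P A)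
    (hA3 : ¬ Cfsg.PRankLE 2 2 ↥A) :
    ∃ E : Subgroup G, E ≤ P ∧ P ≤ normalizer (E : Set G) ∧ (∀ a ∈ E, ∀ b ∈ E, a * b = b * a) ∧
      (∀ a ∈ E, a * a = 1) ∧ 8 ≤ Nat.card E := by
  obtain ⟨hAP, hPA, hAC⟩ := hA
  have hcomm : ∀ a ∈ A, ∀ b ∈ A, a * b = b * a := fun a ha b hb =>
    (mem_centralizer_iff.1 ((hAC.ge ha).2) b hb).symm
  let E : Subgroup G :=
    { carrier := {a | a ∈ A ∧ a * a = 1}
      one_mem' := ⟨one_mem _, one_mul 1⟩
      mul_mem' := by
        rintro a b ⟨ha, ha2⟩ ⟨hb, hb2⟩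
        refine ⟨mul_mem ha hb, ?_⟩
        calc a * b * (a * b) = a * (b * a) * b := by group
          _ = a * (a * b) * b := by rw [hcomm a ha b hb]
          _ = (a * a) * (b * b) := by group
          _ = 1 := by rw [ha2, hb2, one_mul]
      inv_mem' := by
        rintro a ⟨ha, ha2⟩
        exact ⟨inv_mem ha, by rw [← mul_inv_rev, ha2, inv_one]⟩ }
  have hP : P ≤ normalizer (E : Set G) := by
    intro s hs
    have hN := mem_normalizer_iff.1 (hPA hs)
    rw [mem_normalizer_iff]
    intro a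
    show a ∈ A ∧ a * a = 1 ↔ s * a * s⁻¹ ∈ A ∧ s * a * s⁻¹ * (s * a * s⁻¹) = 1
    rw [← hN a, show s * a * s⁻¹ * (s * a * s⁻¹) = s * (a * a) * s⁻¹ by group, mul_inv_eq_one,
      mul_eq_left]
  refine ⟨E, fun a ha => hAP ha.1, hP, fun a ha b hb => hcomm a ha.1 b hb.1, fun a ha => ha.2, ?_⟩
  obtain ⟨B, hBc, hB2, hB⟩ : ∃ B : Subgroup A, IsMulCommutative B ∧ (∀ b ∈ B, b ^ 2 = 1) ∧
      2 ^ 2 < Nat.card B := by
    by_contra h
    push Not at h
    exact hA3 fun B h1 h2 => h B h1 h2
  have hp : IsPGroup 2 B := fun b => ⟨1, Subtype.ext (by simpa using hB2 b b.2)⟩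
  obtain ⟨k, hk⟩ := (IsPGroup.iff_card (p := 2)).1 hp
  have hk3 : 3 ≤ k := by
    by_contra h
    have : Nat.card B ≤ 2 ^ 2 := hk ▸ Nat.pow_le_pow_right two_pos (by omega)
    omega
  calc 8 = 2 ^ 3 := rfl
    _ ≤ 2 ^ k := Nat.pow_le_pow_right two_pos hk3
    _ = Nat.card B := hk.symm
    _ = Nat.card (B.map A.subtype) := (Subgroup.card_map_of_injective A.subtype_injective).symm
    _ ≤ Nat.card E := Subgroup.card_le_of_le (by
        rintro _ ⟨b, hb, rfl⟩
        refine ⟨b.2, ?_⟩
        have := congrArg Subtype.val (hB2 b hb)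
        simpa [sq] using this)

/-- An involution acting fixed-point-freely on a subgroup inverts it, and the subgroup is abelian. -/
theorem inverts_of_fixedPointFree [Finite G] {X : Subgroup G} {z : G} (hz : z * z = 1)
    (hzX : ∀ x ∈ X, z * x * z⁻¹ ∈ X) (hfree : ∀ x ∈ X, Commute z x → x = 1) :
    (∀ x ∈ X, z * x * z⁻¹ = x⁻¹) ∧ ∀ x ∈ X, ∀ y ∈ X, x * y = y * x := by
  let φ : X →* X :=
    { toFun := fun x => ⟨z * x * z⁻¹, hzX x x.2⟩
      map_one' := Subtype.ext (by simp)
      map_mul' := fun a b => Subtype.ext (by simp [mul_assoc]) }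
  have hfpf : MonoidHom.FixedPointFree φ := fun x hx =>
    Subtype.ext (hfree x x.2 (mul_inv_eq_iff_eq_mul.1 (congrArg Subtype.val hx)))
  have hinv : Function.Involutive φ := fun x => Subtype.ext (by
    show z * (z * x * z⁻¹) * z⁻¹ = x
    rw [inv_eq_of_mul_eq_one_right hz, show z * (z * x * z) * z = (z * z) * x * (z * z) by group, hz,
      one_mul, mul_one])
  exact ⟨fun x hx => congrArg Subtype.val (congrFun (MonoidHom.FixedPointFree.coe_eq_inv_of_involutive hfpf hinv) ⟨x, hx⟩),
    fun x hx y hy => congrArg Subtype.val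
      (MonoidHom.FixedPointFree.commute_all_of_involutive hfpf hinv ⟨x, hx⟩ ⟨y, hy⟩).eq⟩

/-- `O_p(H)` as a subgroup of `G` contains its centraliser in `H`, for constrained core-free `H`. -/
theorem mem_pCore_of_centralizes [Finite G] {p : ℕ} [Fact p.Prime] {H : Subgroup G}
    (hc : IsPConstrained p H) (hb : pPrimeCore p H = ⊥) {x : G} (hx : x ∈ H)
    (h : ∀ q ∈ (pCore p H).map H.subtype, q * x = x * q) : x ∈ (pCore p H).map H.subtype := by
  refine ⟨⟨x, hx⟩, centralizer_pCore_le hc hb ?_, rfl⟩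
  rw [mem_centralizer_iff]
  intro q hq
  exact Subtype.ext (h q ⟨q, hq, rfl⟩)

/-- An odd-order subgroup of a 2-constrained core-free `H` centralised by an involution `v ∈ H` and
normalised by a subgroup `R` of index at most 2 in a Sylow 2-subgroup is trivial. -/
theorem eq_bot_of_normalized_large [Finite G] (S : Sylow 2 G) {H X R : Subgroup G}
    (hc : IsPConstrained 2 H) (hb : pPrimeCore 2 H = ⊥) (hXH : X ≤ H) (hX : Odd (Nat.card X))
    (hR : R ≤ (S : Subgroup G)) (hRH : R ≤ H) (hRX : R ≤ normalizer (X : Set G))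
    (hRi : Nat.card (S : Subgroup G) ≤ 2 * Nat.card R) : X = ⊥ := by
  haveI : Fact (Nat.Prime 2) := ⟨Nat.prime_two⟩
  set Q := (pCore 2 H).map H.subtype with hQ
  have hQH : Q ≤ H := map_subtype_le _
  have hQp : IsPGroup 2 Q := (isPGroup_pCore 2 H).map _
  have hHQ : H ≤ normalizer (Q : Set G) := (normal_subgroupOf_iff_le_normalizer hQH).1 (by
    rw [hQ, Subgroup.subgroupOf, comap_map_eq_self_of_injective H.subtype_injective]
    infer_instance)
  have hXp : (Nat.card X).Coprime 2 := Nat.coprime_two_right.2 hX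
  -- `Q ∩ R` has index at most two in `Q`
  have hidx : (Q ⊓ R).relIndex Q ≤ 2 := by
    obtain ⟨T, hT⟩ := (hQp.to_sup_of_normal_left' (S.isPGroup'.to_le hR) (hRH.trans hHQ)).exists_le_sylow
    have h1 : R.relIndex Q ≤ R.relIndex (Q ⊔ R) :=
      relIndex_le_of_le_right le_sup_left (index_ne_zero_of_finite)
    rw [inf_comm, inf_relIndex_right]
    refine h1.trans ?_
    have h2 := card_mul_relIndex (le_sup_right : R ≤ Q ⊔ R)
    have h3 : Nat.card ↥(Q ⊔ R) ≤ Nat.card (S : Subgroup G) :=
      (Subgroup.card_le_of_le hT).trans (Nat.card_congr (Sylow.equiv S T).toEquiv).ge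
    have h4 : Nat.card R * R.relIndex (Q ⊔ R) ≤ Nat.card R * 2 := by
      rw [h2, mul_comm _ 2]; omega
    exact Nat.le_of_mul_le_mul_left h4 Nat.card_pos
  -- `X` centralises `Q ∩ R`
  have hfix : ∀ q ∈ Q ⊓ R, ∀ x ∈ X, q * x = x * q := by
    intro q hq x hx
    have h1 : q * x * q⁻¹ * x⁻¹ ∈ Q ⊓ X := by
      refine ⟨?_, mul_mem ((mem_normalizer_iff.1 (hRX hq.2) x).1 hx) (X.inv_mem hx)⟩
      rw [mul_assoc q, mul_assoc q]
      exact mul_mem hq.1 ((mem_normalizer_iff.1 (hHQ (hXH hx)) q⁻¹).1 (Q.inv_mem hq.1))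
    rw [disjoint_of_isPGroup_of_coprime hQp hXp, mem_bot, mul_inv_eq_one, mul_inv_eq_iff_eq_mul] at h1
    exact h1
  have hXC : X ≤ centralizer (Q : Set G) := by
    refine CfsgLib.Coprime.le_centralizer_of_commutator_commutator_eq_bot (hXH.trans hHQ) ?_ ?_
    · obtain ⟨k, hk⟩ := (IsPGroup.iff_card (p := 2)).1 hQp
      rw [hk]; exact hXp.pow_right k
    have hQX : ⁅Q, X⁆ ≤ Q ⊓ R := by
      rw [commutator_le]
      intro q hq x hx
      rw [commutatorElement_def]
      have hb' : x * q⁻¹ * x⁻¹ ∈ Q := (mem_normalizer_iff.1 (hHQ (hXH hx)) q⁻¹).1 (inv_mem hq)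
      rw [mul_assoc q, mul_assoc q]
      by_cases h12 : (Q ⊓ R).relIndex Q = 2
      · have h2 : ((Q ⊓ R).subgroupOf Q).index = 2 := h12
        have key := mul_mem_iff_of_index_two (a := (⟨q, hq⟩ : Q)) (b := ⟨_, hb'⟩) h2
        simp only [mem_subgroupOf, Subgroup.coe_mul] at key
        refine key.2 ⟨fun hq' => ?_, fun hq' => ?_⟩
        · rw [← hfix q⁻¹ (inv_mem hq') x hx, mul_inv_cancel_right]
          exact inv_mem hq'
        · have h3 := hfix _ hq' x hx
          have h4 : x * q⁻¹ * x⁻¹ = q⁻¹ := by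
            apply mul_left_cancel (a := x)
            rw [← h3]; group
          rw [h4] at hq'
          exact inv_inv q ▸ inv_mem hq'
      · have h1 : (Q ⊓ R).relIndex Q = 1 := by
          have h0 : (Q ⊓ R).relIndex Q ≠ 0 := index_ne_zero_of_finite
          omega
        exact relIndex_eq_one.1 h1 (mul_mem hq hb')
    rw [eq_bot_iff, commutator_le]
    intro q hq x hx
    rw [mem_bot, commutatorElement_def, hfix q (hQX hq) x hx]
    group
  rw [eq_bot_iff]
  intro x hx
  have h1 : x ∈ Q ⊓ X := ⟨mem_pCore_of_centralizes hc hb (hXH hx)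
    (fun q hq => mem_centralizer_iff.1 (hXC hx) q hq), hx⟩
  rwa [disjoint_of_isPGroup_of_coprime hQp hXp] at h1

end CfsgLib.Inv53

namespace CfsgLib.Inv53

open Cfsg Subgroup CfsgLib.PLocal

variable {G : Type*} [Group G]

/-- In a 2-group `P` normalising an elementary abelian `E` of order at least 4 inside `P` there are a
central involution `z ∈ E` and `v ∈ E` outside `⟨z⟩` whose centraliser has index at most 2. -/
theorem exists_central_pair [Finite G] {P E : Subgroup G} (hP : IsPGroup 2 P) (hEP : E ≤ P)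
    (hPE : P ≤ normalizer (E : Set G)) (hE2 : ∀ a ∈ E, a * a = 1)
    (hEc : 4 ≤ Nat.card E) :
    ∃ z ∈ E, ∃ v ∈ E, z ≠ 1 ∧ v ≠ 1 ∧ v ≠ z ∧ (∀ s ∈ P, s * z = z * s) ∧
      Nat.card P ≤ 2 * Nat.card ↥(P ⊓ centralizer ({v} : Set G)) := by
  classical
  haveI : Fact (Nat.Prime 2) := ⟨Nat.prime_two⟩
  haveI : (E.subgroupOf P).Normal := (normal_subgroupOf_iff_le_normalizer hEP).2 hPE
  obtain ⟨a, ha, ha1⟩ := (bot_or_exists_ne_one E).resolve_left (fun h => by
    rw [h, card_bot] at hEc; omega)
  obtain ⟨z, hzE, hzc, hz1⟩ := exists_central_of_normal hP (E.subgroupOf P) ⟨a, hEP ha⟩ ha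
    (fun h => ha1 (congrArg Subtype.val h))
  have hzc' : ∀ s ∈ P, s * (z : G) = z * s := fun s hs =>
    congrArg Subtype.val (mem_center_iff.1 hzc ⟨s, hs⟩)
  have hz2 : (z : G) * z = 1 := hE2 _ hzE
  let i : MulAction P E :=
    { smul := fun s e => ⟨s * e * (s : G)⁻¹, (mem_normalizer_iff.1 (hPE s.2) e).1 e.2⟩
      one_smul := fun e => Subtype.ext (by show (1 : P).1 * (e : G) * (1 : P).1⁻¹ = e; simp)
      mul_smul := fun s t e => Subtype.ext (by
        show ((s * t : P) : G) * e * ((s * t : P) : G)⁻¹ = s * (t * e * (t : G)⁻¹) * (s : G)⁻¹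
        push_cast; group) }
  -- pairs `{e, e z}` are permuted; a third one is fixed
  let R : Setoid E :=
    { r := fun x y => (x : G) = y ∨ (x : G) = y * z
      iseqv := ⟨fun x => Or.inl rfl,
        fun {x y} h => h.imp Eq.symm (fun h => by rw [h, mul_assoc, hz2, mul_one]),
        fun {x y w} h h' => by
          rcases h with h | h <;> rcases h' with h' | h'
          · exact Or.inl (h.trans h')
          · exact Or.inr (h.trans h')
          · exact Or.inr (by rw [h, h'])
          · exact Or.inl (by rw [h, h', mul_assoc, hz2, mul_one])⟩ }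
  let Q := Quotient R
  have hcompat : ∀ (s : P) (x y : E), R.r x y → R.r (s • x) (s • y) := by
    intro s x y h
    rcases h with h | h
    · exact Or.inl (by show (s : G) * x * (s : G)⁻¹ = s * y * (s : G)⁻¹; rw [h])
    · refine Or.inr ?_
      show (s : G) * x * (s : G)⁻¹ = s * y * (s : G)⁻¹ * z
      rw [h]
      calc (s : G) * (y * z) * (s : G)⁻¹ = s * y * ((z : G) * (s : G)⁻¹) := by group
        _ = s * y * ((s : G)⁻¹ * z) := by rw [hzc' _ (inv_mem s.2)]
        _ = _ := by group
  let j : MulAction P Q :=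
    { smul := fun s => Quotient.map (fun e => s • e) (hcompat s)
      one_smul := fun q => Quotient.inductionOn q fun e =>
        (congrArg (Quotient.mk R) (one_smul P e) : Quotient.mk R ((1 : P) • e) = _)
      mul_smul := fun s t q => Quotient.inductionOn q fun e =>
        (congrArg (Quotient.mk R) (mul_smul s t e) : Quotient.mk R ((s * t) • e) = _) }
  have hdvd : 2 ∣ Nat.card Q := by
    let f : Q ≃ E ⧸ (zpowers (z : G)).subgroupOf E := Quotient.congrRight (fun x y => by
      show ((x : G) = y ∨ (x : G) = y * z) ↔ _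
      rw [QuotientGroup.leftRel_apply, mem_subgroupOf]
      push_cast
      rw [inv_eq_of_mul_eq_one_right (hE2 _ x.2)]
      constructor
      · rintro (h | h)
        · rw [h, hE2 _ y.2]; exact one_mem _
        · rw [h, mul_assoc, ← hzc' _ (hEP y.2), ← mul_assoc, hE2 _ y.2, one_mul]
          exact mem_zpowers _
      · intro h
        obtain ⟨k, hk⟩ := h
        simp only at hk
        have hxy : (x : G) = (z : G) ^ k * y := by
          rw [hk, mul_assoc, hE2 _ y.2, mul_one]
        rcases Int.even_or_odd' k with ⟨r, rfl | rfl⟩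
        · left
          rw [hxy, zpow_mul, zpow_two, hz2, one_zpow, one_mul]
        · right
          rw [hxy, zpow_add, zpow_mul, zpow_two, hz2, one_zpow, one_mul, zpow_one, hzc' _ (hEP y.2)])
    rw [Nat.card_congr f]
    have h := ((zpowers (z : G)).subgroupOf E).index_mul_card
    have hzo : Nat.card ((zpowers (z : G)).subgroupOf E) = 2 := by
      rw [Nat.card_congr (subgroupOfEquivOfLe (zpowers_le.2 (show (z : G) ∈ E from hzE))).toEquiv, Nat.card_zpowers]
      exact orderOf_eq_prime (by rw [sq, hz2]) (fun h => hz1 (Subtype.ext h))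
    obtain ⟨k, hk⟩ := (IsPGroup.iff_card (p := 2)).1 (hP.to_le hEP)
    rw [hzo, hk] at h
    rcases k with _ | _ | k
    · rw [hk] at hEc; simp at hEc
    · rw [hk] at hEc; simp at hEc
    · exact ⟨2 ^ k, by
        show ((zpowers (z : G)).subgroupOf E).index = _
        rw [pow_succ', pow_succ'] at h; omega⟩
  have hfix1 : Quotient.mk R (⟨1, one_mem _⟩ : E) ∈ MulAction.fixedPoints P Q := fun s =>
    Quotient.sound (Or.inl (by show (s : G) * 1 * (s : G)⁻¹ = 1; group))
  obtain ⟨q, hq, hq1⟩ := hP.exists_fixed_point_of_prime_dvd_card_of_fixed_point Q hdvd hfix1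
  obtain ⟨v, rfl⟩ := Quotient.exists_rep q
  have hv : (v : G) ≠ 1 ∧ (v : G) ≠ z := by
    constructor
    · intro h; exact hq1 (Quotient.sound (Or.inl h.symm))
    · intro h; exact hq1 (Quotient.sound (Or.inr (by
        show (1 : G) = v * z
        rw [h, hz2])))
  refine ⟨z, hzE, v, v.2, fun h => hz1 (Subtype.ext h), hv.1, hv.2, hzc', ?_⟩
  have h2 : ((P ⊓ centralizer ({(v : G)} : Set G)).subgroupOf P).index ≤ 2 := by
    show Nat.card (P ⧸ _) ≤ 2
    let g : P ⧸ (P ⊓ centralizer ({(v : G)} : Set G)).subgroupOf P → Bool :=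
      Quotient.lift (fun s : P => decide ((s : G) * v * (s : G)⁻¹ = v)) (by
        intro s t hst
        have hst' := (QuotientGroup.leftRel_apply.1 hst)
        rw [mem_subgroupOf] at hst'
        push_cast at hst'
        have h1 : (v : G) * ((s : G)⁻¹ * t) = (s : G)⁻¹ * t * v :=
          mem_centralizer_iff.1 hst'.2 v rfl
        have heq : (t : G) * v * (t : G)⁻¹ = s * v * (s : G)⁻¹ := by
          calc (t : G) * v * (t : G)⁻¹ = s * ((s : G)⁻¹ * t * v) * (t : G)⁻¹ := by group
            _ = s * v * (s : G)⁻¹ := by rw [← h1]; group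
        simp only [heq])
    have hg : Function.Injective g := by
      intro a b hab
      induction a using Quotient.inductionOn with | _ s =>
      induction b using Quotient.inductionOn with | _ t =>
      apply Quotient.sound
      show QuotientGroup.leftRel _ s t
      rw [QuotientGroup.leftRel_apply, mem_subgroupOf]
      push_cast
      refine ⟨mul_mem (P.inv_mem s.2) t.2, mem_centralizer_iff.2 fun _ hy => ?_⟩
      rw [Set.mem_singleton_iff.1 hy]
      have hs := Quotient.exact (hq s : Quotient.mk R (s • v) = Quotient.mk R v)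
      have ht := Quotient.exact (hq t : Quotient.mk R (t • v) = Quotient.mk R v)
      have heq : (s : G) * v * (s : G)⁻¹ = (t : G) * v * (t : G)⁻¹ := by
        change (decide _ = decide _) at hab
        rw [decide_eq_decide] at hab
        by_cases hcase : (s : G) * v * (s : G)⁻¹ = v
        · rw [hcase, hab.1 hcase]
        · exact (hs.resolve_left hcase).trans (ht.resolve_left (fun h => hcase (hab.2 h))).symm
      calc (v : G) * ((s : G)⁻¹ * t) = (s : G)⁻¹ * (s * v * (s : G)⁻¹) * t := by group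
        _ = (s : G)⁻¹ * t * v := by rw [heq]; group
    exact (Nat.card_le_card_of_injective g hg).trans (by simp)
  rw [← ((P ⊓ centralizer ({(v : G)} : Set G)).subgroupOf P).index_mul_card,
    Nat.card_congr (subgroupOfEquivOfLe (inf_le_left : P ⊓ centralizer ({(v : G)} : Set G) ≤ P)).toEquiv]
  exact Nat.mul_le_mul_right _ h2

/-- An odd-order subgroup normalised by a Sylow 2-subgroup with `SCN_3` is trivial when centralisers of
involutions lie in 2-constrained core-free subgroups. -/
theorem eq_bot_of_normalized_by_sylow [Finite G] (S : Sylow 2 G) {E X : Subgroup G}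
    (hES : E ≤ (S : Subgroup G)) (hSE : (S : Subgroup G) ≤ normalizer (E : Set G))
    (hE2 : ∀ a ∈ E, a * a = 1) (hEc : 4 ≤ Nat.card E)
    (hH : ∀ t : G, orderOf t = 2 → ∃ H : Subgroup G, centralizer ({t} : Set G) ≤ H ∧
      IsPConstrained 2 H ∧ pPrimeCore 2 H = ⊥)
    (hX : Odd (Nat.card X)) (hSX : (S : Subgroup G) ≤ normalizer (X : Set G)) : X = ⊥ := by
  haveI : Fact (Nat.Prime 2) := ⟨Nat.prime_two⟩
  have hEcomm : ∀ a ∈ E, ∀ b ∈ E, a * b = b * a := fun a ha b hb => by
    have h1 := inv_eq_of_mul_eq_one_right (hE2 _ (mul_mem ha hb))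
    rw [← h1, mul_inv_rev, inv_eq_of_mul_eq_one_right (hE2 a ha),
      inv_eq_of_mul_eq_one_right (hE2 b hb)]
  obtain ⟨z, hz, v, hv, hz1, hv1, hvz, hzc, hcard⟩ :=
    exists_central_pair S.isPGroup' hES hSE hE2 hEc
  let V : Subgroup G :=
    { carrier := {a | a = 1 ∨ a = z ∨ a = v ∨ a = z * v}
      one_mem' := Or.inl rfl
      mul_mem' := by
        have hz2 := hE2 z hz
        have hv2 := hE2 v hv
        have hzv := hEcomm z hz v hv
        have e1 : z * (z * v) = v := by rw [← mul_assoc, hz2, one_mul]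
        have e2 : v * (z * v) = z := by rw [hzv, ← mul_assoc, hv2, one_mul]
        have e3 : z * v * z = v := by rw [hzv, mul_assoc, hz2, mul_one]
        have e4 : z * v * v = z := by rw [mul_assoc, hv2, mul_one]
        have e5 : z * v * (z * v) = 1 := hE2 _ (mul_mem hz hv)
        rintro a b (rfl | rfl | rfl | rfl) (rfl | rfl | rfl | rfl) <;>
          simp only [Set.mem_ofPred_eq, one_mul, mul_one, hz2, hv2, ← hzv, e1, e2, e3, e4, e5,
            true_or, or_true]
      inv_mem' := by
        intro a ha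
        have : a ∈ E := by
          rcases ha with rfl | rfl | rfl | rfl
          exacts [one_mem _, hz, hv, mul_mem hz hv]
        rw [inv_eq_of_mul_eq_one_right (hE2 a this)]
        exact ha }
  have hVE : V ≤ E := by
    rintro a (rfl | rfl | rfl | rfl)
    exacts [one_mem _, hz, hv, mul_mem hz hv]
  haveI : IsMulCommutative V := ⟨⟨fun a b => Subtype.ext (hEcomm _ (hVE a.2) _ (hVE b.2))⟩⟩
  have hVnc : ¬ IsCyclic V := by
    intro h
    obtain ⟨g, hg⟩ := h.exists_generator
    have hmem : ∀ x : V, x = 1 ∨ x = g := by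
      intro x
      obtain ⟨k, rfl⟩ := hg x
      have h2 : g * g = 1 := Subtype.ext (hE2 _ (hVE g.2))
      rcases Int.even_or_odd' k with ⟨r, rfl | rfl⟩
      · left; simp only; rw [zpow_mul, zpow_two, h2, one_zpow]
      · right; simp only; rw [zpow_add, zpow_mul, zpow_two, h2, one_zpow, one_mul, zpow_one]
    rcases hmem ⟨z, Or.inr (Or.inl rfl)⟩ with h1 | h1
    · exact hz1 (congrArg Subtype.val h1)
    rcases hmem ⟨v, Or.inr (Or.inr (Or.inl rfl))⟩ with h2 | h2
    · exact hv1 (congrArg Subtype.val h2)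
    exact hvz (congrArg Subtype.val (h2.trans h1.symm))
  have hVS : V ≤ (S : Subgroup G) := hVE.trans hES
  have hVp : (Nat.card V).Coprime (Nat.card X) := by
    obtain ⟨k, hk⟩ := (IsPGroup.iff_card (p := 2)).1 (S.isPGroup'.to_le hVS)
    rw [hk]; exact Nat.Coprime.pow_left _ (Nat.coprime_two_left.2 hX)
  have hgen := CfsgLib.Coprime.le_of_forall_inf_centralizer_le hVnc (hVS.trans hSX) hVp (W := ⊥) ?_
  · exact le_bot_iff.1 hgen
  intro a ha ha1
  have hao : orderOf a = 2 := orderOf_eq_prime (by rw [sq, hE2 a (hVE ha)]) ha1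
  obtain ⟨H, hCH, hHc, hHb⟩ := hH a hao
  set R := (S : Subgroup G) ⊓ centralizer ({a} : Set G)
  have hRc : Nat.card (S : Subgroup G) ≤ 2 * Nat.card R := by
    rcases ha with rfl | rfl | rfl | rfl
    · exact absurd rfl ha1
    · have : R = (S : Subgroup G) := inf_eq_left.2 fun s hs => mem_centralizer_iff.2 fun _ hy => by
        rw [Set.mem_singleton_iff.1 hy]; exact (hzc s hs).symm
      rw [this]; omega
    · exact hcard
    · refine hcard.trans (Nat.mul_le_mul_left 2 (Subgroup.card_le_of_le ?_))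
      rintro s ⟨hs, hsv⟩
      refine ⟨hs, mem_centralizer_iff.2 fun _ hy => ?_⟩
      rw [Set.mem_singleton_iff.1 hy]
      exact ((show Commute s z from hzc s hs).mul_right
        (mem_centralizer_iff.1 hsv v rfl).symm).symm.eq
  have hodd : Odd (Nat.card ↥(X ⊓ centralizer ({a} : Set G))) :=
    hX.of_dvd_nat (Subgroup.card_dvd_of_le inf_le_left)
  have h := eq_bot_of_normalized_large S hHc hHb (inf_le_right.trans hCH) hodd inf_le_left
    (inf_le_right.trans hCH) (fun r hr => ?_) hRc
  · exact h.le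
  rw [mem_normalizer_iff]
  intro x
  have hr' : Commute r a := (mem_centralizer_iff.1 hr.2 a rfl).symm
  have hN := mem_normalizer_iff.1 (hSX hr.1) x
  simp only [mem_inf, ← hN, mem_centralizer_iff, Set.mem_singleton_iff, forall_eq]
  refine and_congr_right fun _ => ⟨fun h => ?_, fun h => ?_⟩
  · exact ((hr'.symm.mul_right (show Commute a x from h)).mul_right hr'.symm.inv_right).eq
  · have h2 := (hr'.symm.inv_right.mul_right (show Commute a (r * x * r⁻¹) from h)).mul_right hr'.symm
    simpa [mul_assoc] using h2.eq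

end CfsgLib.Inv53
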