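import Cfsg.Agent.PLocal.Constraint
import Cfsg.Agent.Coprime.PTimesQ
import Cfsg.Agent.Coprime.Action
import Mathlib.GroupTheory.Nilpotent

/-!
# p-constraint: passing to centralisers and normalisers of p-subgroups, and balance

* `isPConstrained_iff_of_surjective`: invariance under a kernel of order prime to p
* `isPConstrained_centralizer`: centralisers of p-subgroups of p-constrained groups are p-constrained
* `isPConstrained_of_le_pCore`: if `Q ≤ O_p(G)` and `C(Q)` is p-constrained then so is `G`
* `le_pPrimeCore_of_normalized`: balance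
-/

namespace CfsgLib.Inv53

open Cfsg Subgroup CfsgLib.PLocal
open scoped commutatorElement

variable {G : Type*} [Group G] {p : ℕ}

theorem map_pPrimeCore_of_surjective [Finite G] [Fact p.Prime] {H : Type*} [Group H] {f : G →* H}
    (hf : Function.Surjective f) (hker : (Nat.card f.ker).Coprime p) :
    (pPrimeCore p G).map f = pPrimeCore p H := by
  haveI : Finite H := Finite.of_surjective _ hf
  refine le_antisymm (map_pPrimeCore_le_of_surjective hf) ?_
  have hle : (pPrimeCore p H).comap f ≤ pPrimeCore p G := by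
    haveI : ((pPrimeCore p H).comap f).Normal := (inferInstance : (pPrimeCore p H).Normal).comap f
    apply le_pPrimeCore
    have h1 : ((pPrimeCore p H).comap f).index = (pPrimeCore p H).index :=
      index_comap_of_surjective _ hf
    have h2 : Nat.card f.ker * Nat.card H = Nat.card G := by
      rw [← f.ker.card_mul_index, index_ker, MonoidHom.range_eq_top_of_surjective f hf, card_top]
    have h3 := ((pPrimeCore p H).comap f).card_mul_index
    rw [h1, ← h2, ← (pPrimeCore p H).card_mul_index, ← mul_assoc] at h3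
    rw [Nat.eq_of_mul_eq_mul_right (Nat.pos_of_ne_zero index_ne_zero_of_finite) h3]
    exact hker.mul_left (coprime_card_pPrimeCore p H)
  intro y hy
  obtain ⟨x, rfl⟩ := hf y
  exact ⟨x, hle hy, rfl⟩

/-- A surjection with kernel of order prime to `p` preserves and reflects `p`-constraint. -/
theorem isPConstrained_iff_of_surjective [Finite G] [Fact p.Prime] {H : Type*} [Group H]
    {f : G →* H} (hf : Function.Surjective f) (hker : (Nat.card f.ker).Coprime p) :
    IsPConstrained p G ↔ IsPConstrained p H := by
  haveI : Finite H := Finite.of_surjective _ hf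
  let φ : G →* H ⧸ pPrimeCore p H := (QuotientGroup.mk' (pPrimeCore p H)).comp f
  have hφ : Function.Surjective φ := (QuotientGroup.mk'_surjective _).comp hf
  have hkφ : φ.ker = pPrimeCore p G := by
    rw [← MonoidHom.comap_ker, QuotientGroup.ker_mk', ← map_pPrimeCore_of_surjective hf hker,
      comap_map_eq, sup_eq_left]
    exact le_pPrimeCore hker
  let e : G ⧸ pPrimeCore p G ≃* H ⧸ pPrimeCore p H :=
    (QuotientGroup.quotientMulEquivOfEq hkφ.symm).trans
      (QuotientGroup.quotientKerEquivOfSurjective φ hφ)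
  have e1 := isPConstrained_iff (p := p) (G := G)
  have e2 := isPConstrained_iff (p := p) (G := H)
  rw [e1, e2, ← map_pCore_equiv (p := p) e,
    show centralizer (((pCore p (G ⧸ pPrimeCore p G)).map e.toMonoidHom :
        Subgroup (H ⧸ pPrimeCore p H)) : Set (H ⧸ pPrimeCore p H)) =
      (centralizer (pCore p (G ⧸ pPrimeCore p G) : Set (G ⧸ pPrimeCore p G))).map e.toMonoidHom by
        ext y
        obtain ⟨x, rfl⟩ := e.surjective y
        simp only [mem_centralizer_iff, Subgroup.coe_map, Set.forall_mem_image, SetLike.mem_coe,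
          MulEquiv.coe_toMonoidHom, Subgroup.mem_map, e.injective.eq_iff, exists_eq_right]
        exact forall₂_congr fun a _ => by rw [← map_mul, ← map_mul, e.injective.eq_iff]]
  exact (Subgroup.map_le_map_iff_of_injective e.injective).symm

theorem pPrimeCore_eq_bot_of_centralizer_pCore_le [Finite G] [Fact p.Prime]
    (h : centralizer (pCore p G : Set G) ≤ pCore p G) : pPrimeCore p G = ⊥ := by
  rw [← inf_eq_right.mpr ((pPrimeCore_le_centralizer_pCore p G).trans h)]
  exact disjoint_of_isPGroup_of_coprime (isPGroup_pCore p G) (coprime_card_pPrimeCore p G)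

theorem isPConstrained_of_centralizer_pCore_le [Finite G] [Fact p.Prime]
    (h : centralizer (pCore p G : Set G) ≤ pCore p G) : IsPConstrained p G := by
  intro P
  have hb := pPrimeCore_eq_bot_of_centralizer_pCore_le h
  have hP := sylow_pPrimePCore_sup P
  rw [hb, sup_bot_eq] at hP
  rw [hP, pPrimePCore_eq_pCore hb]
  exact h

theorem centralizer_pCore_le [Finite G] [Fact p.Prime] (h : IsPConstrained p G)
    (hb : pPrimeCore p G = ⊥) : centralizer (pCore p G : Set G) ≤ pCore p G := by
  let P : Sylow p (pPrimePCore p G) := default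
  have hP := sylow_pPrimePCore_sup P
  rw [hb, sup_bot_eq] at hP
  have := h P
  rwa [hP, pPrimePCore_eq_pCore hb] at this

theorem centralizer_pCore_le_quotient [Finite G] [Fact p.Prime] (h : IsPConstrained p G) :
    centralizer (pCore p (G ⧸ pPrimeCore p G) : Set (G ⧸ pPrimeCore p G)) ≤
      pCore p (G ⧸ pPrimeCore p G) := isPConstrained_iff.1 h

/-- Elements of order prime to `p` detect p-groups. -/
theorem isPGroup_of_forall_coprime [Finite G] [hp : Fact p.Prime] (K : Subgroup G)
    (h : ∀ x ∈ K, (orderOf x).Coprime p → x = 1) : IsPGroup p K := by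
  intro x
  obtain ⟨k, m, hm, hxm⟩ := Nat.exists_eq_pow_mul_and_not_dvd
    (isOfFinOrder_of_finite (x : G)).orderOf_pos.ne' p hp.out.ne_one
  refine ⟨k, Subtype.ext ?_⟩
  push_cast
  apply h _ (pow_mem x.2 _)
  rw [orderOf_pow' _ (pow_ne_zero _ hp.out.ne_zero), hxm, Nat.gcd_mul_right_left,
    Nat.mul_div_cancel_left _ (pow_pos hp.out.pos _)]
  exact not_dvd_iff_coprime.2 hm

/-- A group with trivial `p'`-core whose commutator subgroup is central is a `p`-group. -/
theorem isPGroup_of_commutator_le_center [Finite G] [hp : Fact p.Prime]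
    (hb : pPrimeCore p G = ⊥) (hc : commutator G ≤ Subgroup.center G) : IsPGroup p G := by
  haveI : Group.IsNilpotent G :=
    Subgroup.isNilpotent_of_ker_le_center (H := Abelianization G) Abelianization.of
      (by rw [Abelianization.ker_of]; exact hc)
  intro x
  suffices h : IsPGroup p (⊤ : Subgroup G) by
    obtain ⟨k, hk⟩ := h ⟨x, Subgroup.mem_top x⟩
    exact ⟨k, congrArg Subtype.val hk⟩
  apply isPGroup_of_forall_coprime
  intro y _ hy
  by_contra hy1
  obtain ⟨q, hq, hqy⟩ := Nat.exists_prime_and_dvd (fun h => hy1 (orderOf_eq_one_iff.1 h))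
  haveI := Fact.mk hq
  let Q : Sylow q G := default
  have hQn : (Q : Subgroup G).Normal :=
    Sylow.normal_of_normalizerCondition Group.normalizerCondition_of_isNilpotent Q
  have hqp : q ≠ p := fun h => by
    subst h
    exact (not_dvd_iff_coprime.1 hy) hqy
  have hQ : (Q : Subgroup G) ≤ pPrimeCore p G := by
    apply le_pPrimeCore
    obtain ⟨n, hn⟩ := IsPGroup.iff_card.1 Q.isPGroup'
    rw [hn]
    exact Nat.Coprime.pow_left _ ((Nat.coprime_primes hq hp.out).2 hqp)
  rw [hb, le_bot_iff] at hQ
  exact Q.ne_bot_of_dvd_card (hqy.trans (orderOf_dvd_natCard y)) hQ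

/-- A centraliser of a `p`-subgroup in a group with `C(O_p) ≤ O_p` has the same property. -/
theorem centralizer_pCore_le_centralizer [Finite G] [Fact p.Prime]
    (h : centralizer (pCore p G : Set G) ≤ pCore p G) {Q : Subgroup G} (hQ : IsPGroup p Q) :
    centralizer (pCore p (centralizer (Q : Set G)) : Set (centralizer (Q : Set G))) ≤
      pCore p (centralizer (Q : Set G)) := by
  set L := centralizer (Q : Set G) with hL
  have hR : (pCore p G).subgroupOf L ≤ pCore p L := pCore_subgroupOf_le L
  have hKp : IsPGroup p ↥(centralizer ((pCore p G).subgroupOf L : Set L)) := by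
    apply isPGroup_of_forall_coprime
    intro x hx hxo
    have hxQ : Subgroup.zpowers (x : G) ≤ centralizer (Q : Set G) := zpowers_le.2 x.2
    have hfix : pCore p G ⊓ centralizer (Q : Set G) ≤ centralizer (zpowers (x : G) : Set G) := by
      intro r hr
      rw [mem_centralizer_iff]
      rintro _ ⟨k, rfl⟩
      have h1 : ((⟨r, hr.2⟩ : L) * x : L) = x * ⟨r, hr.2⟩ :=
        mem_centralizer_iff.1 hx ⟨r, hr.2⟩ hr.1
      exact ((Commute.zpow_right (congrArg Subtype.val h1 : Commute r (x : G)) k).eq).symm
    have h2 := CfsgLib.Coprime.le_centralizer_of_inf_centralizer_le (U := pCore p G) (P := Q)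
      (Q := zpowers (x : G)) hQ (by rw [Nat.card_zpowers, Subgroup.orderOf_coe]; exact hxo)
      (isPGroup_pCore p G) (le_centralizer_iff.1 hxQ) (le_normalizer_of_normal) (le_normalizer_of_normal)
      hfix
    have h3 : (x : G) ∈ pCore p G := h (h2 (mem_zpowers _))
    obtain ⟨k, hk⟩ := isPGroup_pCore p G ⟨_, h3⟩
    have hk' : x ^ p ^ k = 1 := Subtype.ext (by
      have := congrArg Subtype.val hk
      simpa using this)
    exact orderOf_eq_one_iff.1 (Nat.eq_one_of_dvd_coprimes (hxo.pow_right k) dvd_rfl
      (orderOf_dvd_of_pow_eq_one hk'))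
  haveI : ((pCore p G).subgroupOf L).Normal := (inferInstance : (pCore p G).Normal).comap L.subtype
  calc centralizer (pCore p L : Set L)
      ≤ centralizer ((pCore p G).subgroupOf L : Set L) := centralizer_le hR
    _ ≤ pCore p L := le_pCore hKp

/-- Centralisers of `p`-subgroups of `p`-constrained groups are `p`-constrained. -/
theorem isPConstrained_centralizer [Finite G] [Fact p.Prime] (h : IsPConstrained p G)
    {Q : Subgroup G} (hQ : IsPGroup p Q) : IsPConstrained p ↥(centralizer (Q : Set G)) := by
  set N := pPrimeCore p G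
  set L := centralizer ((Q.map (QuotientGroup.mk' N) : Subgroup (G ⧸ N)) : Set (G ⧸ N)) with hL
  have hLc : IsPConstrained p L := isPConstrained_of_centralizer_pCore_le
    (centralizer_pCore_le_centralizer (centralizer_pCore_le_quotient h) (hQ.map _))
  have hmap : L = (centralizer (Q : Set G)).map (QuotientGroup.mk' N) :=
    centralizer_map_mk'_eq N (coprime_card_pPrimeCore p G) hQ
  let f := (QuotientGroup.mk' N).subgroupMap (centralizer (Q : Set G))
  rw [isPConstrained_iff_of_surjective (f := f) (MonoidHom.subgroupMap_surjective _ _) ?_]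
  · exact isPConstrained_congr (MulEquiv.subgroupCongr hmap) hLc
  · have hle : f.ker.map (centralizer (Q : Set G)).subtype ≤ N := by
      rintro _ ⟨x, hx, rfl⟩
      have := congrArg Subtype.val (MonoidHom.mem_ker.1 hx)
      exact (QuotientGroup.eq_one_iff _).1 this
    rw [← Subgroup.card_map_of_injective (centralizer (Q : Set G)).subtype_injective]
    exact coprime_card_of_le hle (coprime_card_pPrimeCore p G)

theorem centralizer_pCore_le_of_constrained [Finite G] [Fact p.Prime]
    (hb : pPrimeCore p G = ⊥) {Q : Subgroup G} (hQ : Q ≤ pCore p G)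
    (hC : IsPConstrained p ↥(centralizer (Q : Set G))) :
    centralizer (pCore p G : Set G) ≤ pCore p G := by
  set K := centralizer (pCore p G : Set G) with hK
  set M := centralizer (Q : Set G) with hM
  haveI hKn : K.Normal := by rw [hK]; infer_instance
  have hKM : K ≤ M := centralizer_le hQ
  have hKb : pPrimeCore p K = ⊥ := by
    rw [← map_eq_bot_iff_of_injective _ K.subtype_injective, ← le_bot_iff, ← hb]
    exact pPrimeCore_map_subtype_le K
  haveI : (K.subgroupOf M).Normal := hKn.comap M.subtype
  have hKO : K.subgroupOf M ⊓ pPrimeCore p M = ⊥ := by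
    set I := K.subgroupOf M ⊓ pPrimeCore p M
    let e := subgroupOfEquivOfLe hKM
    have h1 : (I.map M.subtype).subgroupOf K ≤ pPrimeCore p K := by
      haveI : ((I.map M.subtype).subgroupOf K).Normal := by
        refine ⟨fun n hn g => ?_⟩
        rw [mem_subgroupOf] at hn ⊢
        obtain ⟨m, hm, hmn⟩ := hn
        refine ⟨⟨(g : G), hKM g.2⟩ * m * ⟨(g : G), hKM g.2⟩⁻¹,
          (inferInstance : I.Normal).conj_mem m hm _, ?_⟩
        simp [← hmn]
      apply le_pPrimeCore
      rw [Nat.card_congr (subgroupOfEquivOfLe ?_).toEquiv,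
        Subgroup.card_map_of_injective M.subtype_injective]
      · exact coprime_card_of_le inf_le_right (coprime_card_pPrimeCore p M)
      · rintro _ ⟨m, hm, rfl⟩; exact hm.1
    rw [hKb, le_bot_iff, subgroupOf_eq_bot] at h1
    rw [← map_eq_bot_iff_of_injective _ M.subtype_injective, ← le_bot_iff]
    intro x hx
    have hxK : x ∈ K := by obtain ⟨m, hm, rfl⟩ := hx; exact hm.1
    exact h1.le_bot ⟨hx, hxK⟩
  -- pass to `M / O_{p'}(M)`
  set π := QuotientGroup.mk' (pPrimeCore p M)
  set K' := (K.subgroupOf M).map π with hK'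
  haveI hK'n : K'.Normal := Subgroup.Normal.map inferInstance π (QuotientGroup.mk'_surjective _)
  set R := pCore p (M ⧸ pPrimeCore p M)
  have hinj : ∀ x ∈ K.subgroupOf M, π x = 1 → x = 1 := fun x hx h1 => by
    have : x ∈ K.subgroupOf M ⊓ pPrimeCore p M := ⟨hx, (QuotientGroup.eq_one_iff x).1 h1⟩
    rwa [hKO, mem_bot] at this
  have hcen : ∀ a ∈ K' ⊓ R, ∀ b ∈ K', a * b = b * a := by
    -- the intersection comes from a normal `p`-subgroup of `K`
    set J := (K.subgroupOf M ⊓ R.comap π) with hJ
    have hJp : IsPGroup p J := by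
      intro x
      obtain ⟨k, hk⟩ := isPGroup_pCore p _ (⟨π x, x.2.2⟩ : R)
      refine ⟨k, Subtype.ext (hinj _ (pow_mem x.2.1 _) ?_)⟩
      simpa using congrArg Subtype.val hk
    haveI : J.Normal := inferInstance
    haveI : ((J.map M.subtype).subgroupOf K).Normal := by
      refine ⟨fun n hn g => ?_⟩
      rw [mem_subgroupOf] at hn ⊢
      obtain ⟨m, hm, hmn⟩ := hn
      refine ⟨⟨(g : G), hKM g.2⟩ * m * ⟨(g : G), hKM g.2⟩⁻¹,
        (inferInstance : J.Normal).conj_mem m hm _, ?_⟩
      simp [← hmn]
    have h2 : (J.map M.subtype).subgroupOf K ≤ pCore p K :=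
      le_pCore ((hJp.map M.subtype).comap_subtype)
    intro a ha b hb'
    obtain ⟨a', ha', rfl⟩ := ha.1
    obtain ⟨b', hb'', rfl⟩ := hb'
    have h3 : (⟨(a' : G), ha'⟩ : K) ∈ pCore p K := h2 (mem_subgroupOf.2 ⟨a', ⟨ha', ha.2⟩, rfl⟩)
    have h4 : (a' : G) ∈ pCore p G := pCore_map_subtype_le K ⟨_, h3, rfl⟩
    rw [← map_mul, ← map_mul]
    exact congrArg π (Subtype.ext (mem_centralizer_iff.1 (hb'' : (b' : G) ∈ K) _ h4))
  have hKR : ⁅K', R⁆ ≤ K' ⊓ R := le_inf (commutator_le_left _ _) (commutator_le_right _ _)
  have h0 : ⁅⁅K', R⁆, K'⁆ = ⊥ := by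
    rw [commutator_eq_bot_iff_le_centralizer]
    intro a ha
    exact mem_centralizer_iff.2 fun b hb' => (hcen a (hKR ha) b hb').symm
  have h3 : ⁅⁅K', K'⁆, R⁆ = ⊥ :=
    commutator_commutator_eq_bot_of_rotate h0 (by rw [commutator_comm R K', h0])
  have hKK : ⁅K', K'⁆ ≤ R := by
    rw [commutator_eq_bot_iff_le_centralizer] at h3
    exact h3.trans (centralizer_pCore_le_quotient hC)
  have hcK : commutator K ≤ Subgroup.center K := by
    rw [commutator_def, commutator_le]
    intro a _ b _
    rw [mem_center_iff]
    intro c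
    let i : K →* M ⧸ pPrimeCore p M := π.comp (inclusion hKM)
    have hi : Function.Injective i := by
      rw [injective_iff_map_eq_one]
      intro x hx
      exact inclusion_injective hKM (((hinj (inclusion hKM x) x.2 hx)).trans (map_one _).symm)
    apply hi
    have hmem : ∀ x : K, i x ∈ K' := fun x => ⟨inclusion hKM x, x.2, rfl⟩
    rw [map_mul, map_mul, map_commutatorElement]
    exact (hcen _ ⟨commutator_le_left K' K' (commutator_mem_commutator (hmem a) (hmem b)),
      hKK (commutator_mem_commutator (hmem a) (hmem b))⟩ _ (hmem c)).symm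
  exact le_pCore (isPGroup_of_commutator_le_center hKb hcK)

/-- If `Q ≤ O_p(G)` and `C(Q)` is `p`-constrained then `G` is `p`-constrained. -/
theorem isPConstrained_of_le_pCore [Finite G] [Fact p.Prime] {Q : Subgroup G} (hQ : Q ≤ pCore p G)
    (hC : IsPConstrained p ↥(centralizer (Q : Set G))) : IsPConstrained p G := by
  set N := pPrimeCore p G
  have hQp : IsPGroup p Q := (isPGroup_pCore p G).to_le hQ
  have hmap := centralizer_map_mk'_eq N (coprime_card_pPrimeCore p G) hQp
  let f := (QuotientGroup.mk' N).subgroupMap (centralizer (Q : Set G))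
  have hker : (Nat.card f.ker).Coprime p := by
    have hle : f.ker.map (centralizer (Q : Set G)).subtype ≤ N := by
      rintro _ ⟨x, hx, rfl⟩
      have := congrArg Subtype.val (MonoidHom.mem_ker.1 hx)
      exact (QuotientGroup.eq_one_iff _).1 this
    rw [← Subgroup.card_map_of_injective (centralizer (Q : Set G)).subtype_injective]
    exact coprime_card_of_le hle (coprime_card_pPrimeCore p G)
  rw [isPConstrained_iff_of_surjective (f := f) (MonoidHom.subgroupMap_surjective _ _) hker] at hC
  rw [isPConstrained_iff]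
  refine centralizer_pCore_le_of_constrained (Q := Q.map (QuotientGroup.mk' N))
    (pPrimeCore_quotient_pPrimeCore_eq_bot p G)
    ((map_mono hQ).trans (map_pCore_le_of_surjective (QuotientGroup.mk'_surjective _))) ?_
  exact isPConstrained_congr (MulEquiv.subgroupCongr hmap.symm) hC

/-- **Balance**: in a `p`-constrained group, a `p'`-subgroup centralised by a `p`-subgroup `A` and
normalised by `C(A)` lies in the `p'`-core. -/
theorem le_pPrimeCore_of_normalized [Finite G] [Fact p.Prime] (hc : IsPConstrained p G)
    {A X : Subgroup G} (hA : IsPGroup p A) (hX : (Nat.card X).Coprime p)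
    (hAX : A ≤ centralizer (X : Set G))
    (hn : centralizer (A : Set G) ≤ normalizer (X : Set G)) : X ≤ pPrimeCore p G := by
  set N := pPrimeCore p G
  set π := QuotientGroup.mk' N
  set R := pCore p (G ⧸ N)
  have hXm : (Nat.card (X.map π)).Coprime p := hX.coprime_dvd_left (card_map_dvd X π)
  have hnorm : centralizer ((A.map π : Subgroup (G ⧸ N)) : Set (G ⧸ N)) ≤
      normalizer ((X.map π : Subgroup (G ⧸ N)) : Set (G ⧸ N)) := by
    rw [centralizer_map_mk'_eq N (coprime_card_pPrimeCore p G) hA]
    exact (map_mono hn).trans (le_normalizer_map _)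
  have hAXm : A.map π ≤ centralizer ((X.map π : Subgroup (G ⧸ N)) : Set (G ⧸ N)) :=
    (map_mono hAX).trans ((map_centralizer_le_centralizer_image _ _).trans (by rw [coe_map]))
  have hfix : R ⊓ centralizer ((A.map π : Subgroup (G ⧸ N)) : Set (G ⧸ N)) ≤
      centralizer ((X.map π : Subgroup (G ⧸ N)) : Set (G ⧸ N)) := by
    intro r hr
    rw [mem_centralizer_iff]
    intro x hx
    have h1 : r * x * r⁻¹ * x⁻¹ ∈ R ⊓ X.map π := by
      refine ⟨?_, mul_mem ((mem_normalizer_iff.1 (hnorm hr.2) x).1 hx) ((X.map π).inv_mem hx)⟩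
      rw [mul_assoc r, mul_assoc r]
      exact mul_mem hr.1 ((inferInstance : R.Normal).conj_mem _ (R.inv_mem hr.1) x)
    rw [disjoint_of_isPGroup_of_coprime (isPGroup_pCore p _) hXm, mem_bot, mul_inv_eq_one,
      mul_inv_eq_iff_eq_mul] at h1
    exact h1.symm
  have h2 := CfsgLib.Coprime.le_centralizer_of_inf_centralizer_le (U := R) (hA.map π) hXm
    (isPGroup_pCore p _) hAXm le_normalizer_of_normal le_normalizer_of_normal hfix
  have h3 : X.map π ≤ ⊥ := by
    rw [← disjoint_of_isPGroup_of_coprime (isPGroup_pCore p (G ⧸ N)) hXm]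
    exact le_inf (h2.trans (centralizer_pCore_le_quotient hc)) le_rfl
  rwa [le_bot_iff, Subgroup.map_eq_bot_iff, QuotientGroup.ker_mk'] at h3

end CfsgLib.Inv53

namespace CfsgLib.Inv53

open Cfsg Subgroup CfsgLib.PLocal

variable {G : Type*} [Group G] {p : ℕ}

/-- If `T` and `C(T)` lie in a `p`-constrained subgroup, then `C(T)` is `p`-constrained. -/
theorem isPConstrained_centralizer_of_le [Finite G] [Fact p.Prime] {M T : Subgroup G}
    (hT : IsPGroup p T) (hTM : T ≤ M) (hCM : centralizer (T : Set G) ≤ M)
    (hM : IsPConstrained p M) : IsPConstrained p ↥(centralizer (T : Set G)) := by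
  have h := isPConstrained_centralizer hM (hT.comap_subtype (K := M))
  have he : centralizer ((T.comap M.subtype : Subgroup M) : Set M) =
      (centralizer (T : Set G)).subgroupOf M := by
    ext x
    simp only [mem_centralizer_iff, mem_subgroupOf, SetLike.mem_coe, mem_comap]
    constructor
    · intro h t ht
      exact congrArg Subtype.val (h ⟨t, hTM ht⟩ ht)
    · intro h t ht
      exact Subtype.ext (h t ht)
  exact isPConstrained_congr ((MulEquiv.subgroupCongr he).trans (subgroupOfEquivOfLe hCM)) h

/-- If `C(T)` is `p`-constrained then so is `N(T)`, for a `p`-subgroup `T`. -/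
theorem isPConstrained_normalizer [Finite G] [Fact p.Prime] {T : Subgroup G} (hT : IsPGroup p T)
    (hC : IsPConstrained p ↥(centralizer (T : Set G))) :
    IsPConstrained p ↥(normalizer (T : Set G)) := by
  set M := normalizer (T : Set G)
  haveI : (T.subgroupOf M).Normal := (normal_subgroupOf_iff_le_normalizer le_normalizer).2 le_rfl
  refine isPConstrained_of_le_pCore (Q := T.subgroupOf M) (le_pCore (hT.comap_subtype)) ?_
  have he : centralizer ((T.subgroupOf M : Subgroup M) : Set M) =
      (centralizer (T : Set G)).subgroupOf M := by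
    ext x
    simp only [mem_centralizer_iff, mem_subgroupOf, SetLike.mem_coe]
    constructor
    · intro h t ht
      exact congrArg Subtype.val (h ⟨t, le_normalizer ht⟩ ht)
    · intro h t ht
      exact Subtype.ext (h t ht)
  exact isPConstrained_congr
    ((MulEquiv.subgroupCongr he).trans (subgroupOfEquivOfLe (centralizer_le_normalizer _))).symm hC

/-- A nontrivial `p`-subgroup has an element of order `p` in its centre. -/
theorem exists_orderOf_eq_central [Finite G] [Fact p.Prime] {T : Subgroup G} (hT : IsPGroup p T)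
    (hT1 : T ≠ ⊥) : ∃ x ∈ T, orderOf x = p ∧ ∀ t ∈ T, t * x = x * t := by
  haveI : Nontrivial T := (nontrivial_iff_ne_bot T).2 hT1
  haveI := hT.center_nontrivial
  obtain ⟨k, hk⟩ := IsPGroup.iff_card.1 (hT.to_subgroup (Subgroup.center T))
  have hk0 : k ≠ 0 := by
    rintro rfl
    have := Finite.one_lt_card (α := Subgroup.center T)
    rw [hk, pow_zero] at this
    exact lt_irrefl _ this
  obtain ⟨x, hx⟩ := exists_prime_orderOf_dvd_card' p (hk ▸ dvd_pow_self p hk0)
  refine ⟨((x : T) : G), (x : T).2, ?_, fun t ht => ?_⟩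
  · rw [Subgroup.orderOf_coe, Subgroup.orderOf_coe, hx]
  · exact congrArg Subtype.val (mem_center_iff.1 x.2 ⟨t, ht⟩)

end CfsgLib.Inv53
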