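import Mathlib.GroupTheory.Transfer
import Mathlib.GroupTheory.Index
import Mathlib.GroupTheory.GroupAction.Quotient
import Mathlib.Tactic

/-!
# A transfer lemma: elements of large order outside a maximal subgroup of a Sylow 2-subgroup
-/

namespace CfsgLib.Inv53

open MulAction Subgroup

/-- If `x` has order `2 ^ n`, the elements of `S \ M` have order larger than `2 ^ (n-1)` and no
conjugate of `x` lies in the index-2 subgroup `M` of the Sylow 2-subgroup `S`, then `x` lies outside
a normal subgroup of index 2 (Thompson's transfer lemma for `n = 1`). -/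
theorem exists_index_two_notMem {G : Type*} [Group G] [Finite G] (S : Sylow 2 G) (M : Subgroup G)
    (hMS : M ≤ (S : Subgroup G)) (hM : M.relIndex (S : Subgroup G) = 2)
    {n : ℕ} (hn : 1 ≤ n) (hord : ∀ y ∈ (S : Subgroup G), y ∉ M → 2 ^ (n - 1) < orderOf y)
    {x : G} (hxn : orderOf x = 2 ^ n) (hno : ∀ g : G, g * x * g⁻¹ ∉ M) :
    ∃ H : Subgroup G, H.Normal ∧ H.index = 2 ∧ x ∉ H := by
  classical
  haveI : Fact (Nat.Prime 2) := ⟨Nat.prime_two⟩
  have hM2 : (M.subgroupOf (S : Subgroup G)).index = 2 := hM
  let φ : (S : Subgroup G) →* ℤˣ :=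
    { toFun := fun s => if s ∈ M.subgroupOf (S : Subgroup G) then 1 else -1
      map_one' := by simp
      map_mul' := fun a b => by
        by_cases ha : a ∈ M.subgroupOf (S : Subgroup G) <;>
          by_cases hb : b ∈ M.subgroupOf (S : Subgroup G) <;>
            simp [mul_mem_iff_of_index_two hM2, ha, hb] }
  let V := MonoidHom.transfer φ
  letI := (S : Subgroup G).fintypeQuotientOfFiniteIndex
  have hVx : V x = -1 := by
    show MonoidHom.transfer φ x = -1
    rw [MonoidHom.transfer_eq_prod_quotient_orbitRel_zpowers_quot]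
    have key : ∀ q : Quotient (orbitRel (zpowers x) (G ⧸ (S : Subgroup G))),
        φ ⟨q.out.out⁻¹ * x ^ Function.minimalPeriod (x • ·) q.out * q.out.out,
            QuotientGroup.out_conj_pow_minimalPeriod_mem (S : Subgroup G) x q.out⟩ =
          (-1) ^ Function.minimalPeriod (x • ·) q.out := by
      intro q
      have hper : Function.IsPeriodicPt (x • ·) (2 ^ n) q.out := by
        show (fun y => x • y)^[2 ^ n] q.out = q.out
        rw [smul_iterate, ← hxn, pow_orderOf_eq_one]; exact one_smul G q.out
      obtain ⟨k, hk, hrk⟩ := (Nat.dvd_prime_pow Nat.prime_two).1 hper.minimalPeriod_dvd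
      show (if _ then (1 : ℤˣ) else -1) = _
      rcases Nat.eq_zero_or_pos k with rfl | hkpos
      · simp only [hrk, pow_zero, pow_one]
        rw [if_neg]
        rw [Subgroup.mem_subgroupOf]
        simpa [hrk] using hno q.out.out⁻¹
      · have hev : Even (Function.minimalPeriod (x • ·) q.out) := hrk ▸ (Nat.even_pow.2 ⟨even_two, by omega⟩)
        rw [hev.neg_one_pow, if_pos]
        rw [Subgroup.mem_subgroupOf]
        by_contra hnm
        have hlt := hord _ (QuotientGroup.out_conj_pow_minimalPeriod_mem (S : Subgroup G) x q.out) hnm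
        generalize hr : Function.minimalPeriod (x • ·) q.out = r at hrk hlt
        have hy : orderOf (q.out.out⁻¹ * x ^ r * q.out.out) ∣ 2 ^ (n - 1) := by
          apply orderOf_dvd_of_pow_eq_one
          have h2 : 2 ^ n ∣ r * 2 ^ (n - 1) := by
            rw [hrk, ← pow_add]
            exact pow_dvd_pow 2 (by omega)
          obtain ⟨c, hc⟩ := h2
          have hx1 : (x ^ r) ^ (2 ^ (n - 1)) = 1 := by
            rw [← pow_mul, hc, pow_mul, ← hxn, pow_orderOf_eq_one, one_pow]
          simpa using (conj_pow (a := q.out.out⁻¹) (b := x ^ r) (i := 2 ^ (n - 1))).trans (by rw [hx1]; simp)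
        exact absurd (Nat.le_of_dvd (by positivity) hy) (not_le.2 hlt)
    rw [Fintype.prod_congr _ _ key, Finset.prod_pow_eq_pow_sum,
      ← Subgroup.index_eq_sum_minimalPeriod]
    exact (Nat.not_even_iff_odd.1 fun he => S.not_dvd_index he.two_dvd).neg_one_pow
  refine ⟨V.ker, inferInstance, ?_, by rw [MonoidHom.mem_ker, hVx]; decide⟩
  rw [Subgroup.index_ker]
  have hr : V.range = ⊤ := by
    rw [eq_top_iff]
    intro u _
    rcases Int.units_eq_one_or u with rfl | rfl
    · exact one_mem _
    · exact ⟨x, hVx⟩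
  rw [hr, Subgroup.card_top, Nat.card_eq_fintype_card]
  rfl

end CfsgLib.Inv53
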