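import Cfsg.Agent.Classification.CyclicNormalAbelian
import Cfsg.Agent.TwoGroups.Models
import Cfsg.Agent.TwoGroupsQ.UniqueInvolution
import Cfsg.Prelude.Def_CaseTheorems
import Mathlib

/-!
# 2-groups with an involution whose centraliser has order four
-/

set_option autoImplicit false

namespace CfsgLib.Inv53

open Subgroup

variable {S : Type*} [Group S] [Finite S]

omit [Finite S] in
theorem orderOf_conj' (g a : S) : orderOf (g * a * g⁻¹) = orderOf a :=
  (MulAut.conj g).orderOf_eq a

theorem dihedral_or_quasi_of_cyclic_index_two {a x : S} {m : ℕ} (hm : 2 ≤ m)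
    (ha : orderOf a = 2 ^ m) (hx : x * x = 1) (hxa : x ∉ zpowers a)
    (hcov : ∀ g, g ∈ zpowers a ∨ g * x ∈ zpowers a) (hnc : x * a * x⁻¹ ≠ a)
    (h : x * a * x⁻¹ = a⁻¹ ∨ x * a * x⁻¹ = a ^ 2 ^ (m - 1) * a⁻¹) :
    (∃ n : ℕ, Nonempty (S ≃* DihedralGroup n)) ∨ Cfsg.IsQuasiDihedral S := by
  have hidx : (zpowers a).index = 2 := by
    rw [index_eq_two_iff]
    refine ⟨x, fun g => ?_⟩
    rcases hcov g with hg | hg
    · exact Or.inr ⟨hg, fun h' => hxa (by simpa using mul_mem (inv_mem hg) h')⟩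
    · refine Or.inl ⟨hg, fun h' => hxa ?_⟩
      simpa using mul_mem (inv_mem h') hg
  have hcard : Nat.card S = 2 ^ m * 2 := by
    rw [← card_mul_index (zpowers a), hidx, Nat.card_zpowers, ha]
  have hcard' : Nat.card (⊤ : Subgroup S) = 2 * 2 ^ m := by rw [card_top, hcard, mul_comm]
  rcases h with h | h
  · left
    obtain ⟨e⟩ := CfsgLib.TwoGroups.nonempty_equiv_dihedral (H := ⊤) (mem_top a) (mem_top x) ha hx h
      hxa hcard'
    exact ⟨2 ^ m, ⟨topEquiv.symm.trans e⟩⟩
  · right
    by_cases hm2 : m = 2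
    · subst hm2
      exfalso; apply hnc
      rw [h]
      simp only [show 2 ^ (2 - 1) = 2 from rfl, sq, mul_inv_cancel_right]
    refine ⟨m, by omega, by rw [hcard, pow_succ], a, x, ha, ?_, ?_⟩
    · haveI : Fact (Nat.Prime 2) := ⟨Nat.prime_two⟩
      exact orderOf_eq_prime (by rw [sq]; exact hx) fun e => hxa (e ▸ one_mem _)
    · rw [h, pow_sub a Nat.one_le_two_pow, pow_one]

omit [Finite S] in
theorem eq_or_mul_mem_of_card {x : S} (hx : x * x = 1) (A : Subgroup S) (hxA : x ∉ A)
    (hC : Nat.card ↥(centralizer ({x} : Set S)) = 4) :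
    (∀ f₁ ∈ A, ∀ f₂ ∈ A, x * f₁ = f₁ * x → x * f₂ = f₂ * x → f₁ ≠ 1 → f₂ ≠ 1 → f₁ = f₂) ∧
    (∀ f₀ ∈ A, x * f₀ = f₀ * x → f₀ ≠ 1 → ∀ h, x * h = h * x → h ∈ A ∨ h * x ∈ A) := by
  haveI : Finite ↥(centralizer ({x} : Set S)) := Nat.finite_of_card_ne_zero (by omega)
  set C := centralizer ({x} : Set S) with hCdef
  have hmem : ∀ h : S, h ∈ C ↔ x * h = h * x := fun h => by
    rw [hCdef, mem_centralizer_singleton_iff, eq_comm]
  haveI : Fintype ↥C := Fintype.ofFinite _
  constructor
  · intro f₁ h₁ f₂ h₂ c₁ c₂ n₁ n₂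
    by_contra hne
    let F := (A ⊓ C).subgroupOf C
    have hle : Nat.card F ∣ 4 := hC ▸ card_subgroup_dvd_card F
    have hFne : Nat.card F ≠ 4 := fun e => hxA (by
      have ht : F = ⊤ := eq_top_of_card_eq F (e.trans hC.symm)
      have : (⟨x, (hmem x).2 rfl⟩ : C) ∈ F := ht ▸ mem_top _
      exact this.1)
    have h3 : 3 ≤ Nat.card F := by
      classical
      rw [Nat.card_eq_fintype_card, ← Finset.card_univ]
      let t₁ : F := ⟨⟨f₁, (hmem f₁).2 c₁⟩, h₁, (hmem f₁).2 c₁⟩
      let t₂ : F := ⟨⟨f₂, (hmem f₂).2 c₂⟩, h₂, (hmem f₂).2 c₂⟩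
      have e12 : t₁ ≠ t₂ := fun e => hne (congrArg (fun t : F => ((t : C) : S)) e)
      have e10 : t₁ ≠ 1 := fun e => n₁ (congrArg (fun t : F => ((t : C) : S)) e)
      have e20 : t₂ ≠ 1 := fun e => n₂ (congrArg (fun t : F => ((t : C) : S)) e)
      exact le_trans (le_of_eq (by simp [e12, e10.symm, e20.symm]))
        (Finset.card_le_univ ({1, t₁, t₂} : Finset F))
    have h4 := Nat.le_of_dvd (by norm_num) hle
    have : Nat.card F = 3 := by omega
    rw [this] at hle
    exact absurd hle (by norm_num)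
  · intro f₀ h₀ c₀ n₀ h hh
    let F := A.subgroupOf C
    have hle : Nat.card F ∣ 4 := hC ▸ card_subgroup_dvd_card F
    have hF1 : Nat.card F ≠ 1 := fun e => n₀ (by
      have ht := card_eq_one.1 e
      have : (⟨f₀, (hmem f₀).2 c₀⟩ : C) ∈ F := h₀
      rw [ht, Subgroup.mem_bot] at this
      exact congrArg Subtype.val this)
    have hFne : Nat.card F ≠ 4 := fun e => hxA (by
      have ht : F = ⊤ := eq_top_of_card_eq F (e.trans hC.symm)
      have : (⟨x, (hmem x).2 rfl⟩ : C) ∈ F := ht ▸ mem_top _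
      exact this)
    have h2 : Nat.card F = 2 := by
      have := Nat.le_of_dvd (by norm_num) hle
      have : Nat.card F ≠ 3 := fun e => by rw [e] at hle; norm_num at hle
      have : 0 < Nat.card F := Nat.card_pos
      omega
    have hidx : F.index = 2 := by
      have := card_mul_index F
      rw [h2, hC] at this
      omega
    have key := mul_mem_iff_of_index_two hidx (a := (⟨h, (hmem h).2 hh⟩ : C))
      (b := ⟨x, (hmem x).2 rfl⟩)
    by_cases hA : h ∈ A
    · exact Or.inl hA
    · exact Or.inr (key.2 (iff_of_false hA hxA))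

omit [Finite S] in
/-- An abelian 2-subgroup on which the involution has at most one non-trivial fixed point has one
involution, unless it has order at most four. -/
theorem unique_involution_of_fixed {x : S} (hx : x * x = 1) {A : Subgroup S} [Finite A]
    (hA : IsPGroup 2 A) (hcomm : ∀ a ∈ A, ∀ b ∈ A, a * b = b * a)
    (hxA : ∀ a ∈ A, x * a * x⁻¹ ∈ A) (hbig : 4 < Nat.card A)
    (hfix : ∀ f₁ ∈ A, ∀ f₂ ∈ A, x * f₁ = f₁ * x → x * f₂ = f₂ * x → f₁ ≠ 1 → f₂ ≠ 1 → f₁ = f₂) :
    ∀ w ∈ A, w * w = 1 → w ≠ 1 → x * w = w * x := by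
  have hxi : x⁻¹ = x := inv_eq_of_mul_eq_one_right hx
  have hinv : ∀ c : S, x * (x * c * x) * x = c := fun c => by
    calc x * (x * c * x) * x = (x * x) * c * (x * x) := by simp only [mul_assoc]
      _ = c := by rw [hx, one_mul, mul_one]
  have hfixmul : ∀ a ∈ A, a * (x * a * x) ∈ A ∧ x * (a * (x * a * x)) = (a * (x * a * x)) * x := by
    intro a ha
    have h' : x * a * x ∈ A := by have := hxA a ha; rwa [hxi] at this
    refine ⟨mul_mem ha h', ?_⟩
    calc x * (a * (x * a * x)) = (x * a * x) * (x * (x * a * x) * x) * x := by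
          simp only [mul_assoc, hx, mul_one]
          rw [← mul_assoc x x, hx, one_mul]
      _ = (a * (x * a * x)) * x := by rw [hinv, hcomm _ h' _ ha]
  intro w hw hw2 hw1
  by_contra hwx
  have hconj : ∀ a b : S, x * (a * b) * x = (x * a * x) * (x * b * x) := fun a b => by
    calc x * (a * b) * x = x * a * (x * x) * b * x := by rw [hx, mul_one, ← mul_assoc x a b]
      _ = _ := by simp only [mul_assoc]
  set f := w * (x * w * x) with hfdef
  obtain ⟨hfA, hfx⟩ := hfixmul w hw
  have hxw : x * w * x ∈ A := by have := hxA w hw; rwa [hxi] at this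
  have hf1 : f ≠ 1 := fun e => hwx (by
    have h1 : x * w * x = w := by
      rw [eq_inv_of_mul_eq_one_right e, ← mul_left_cancel_iff (a := w), mul_inv_cancel, hw2]
    calc x * w = x * w * (x * x) := by rw [hx, mul_one]
      _ = (x * w * x) * x := by rw [← mul_assoc]
      _ = w * x := by rw [h1])
  -- φ takes only two values
  have hphi : ∀ a ∈ A, a * (x * a * x) = 1 ∨ a * (x * a * x) = f := by
    intro a ha
    by_cases h1 : a * (x * a * x) = 1
    · exact Or.inl h1
    · exact Or.inr (hfix _ (hfixmul a ha).1 f hfA (hfixmul a ha).2 hfx h1 hf1)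
  have hff : f * f = 1 := by
    have h1 : (x * w * x) * (x * w * x) = 1 := by rw [← hconj, hw2, mul_one, hx]
    calc f * f = w * ((x * w * x) * w) * (x * w * x) := by rw [hfdef]; simp only [mul_assoc]
      _ = (w * w) * ((x * w * x) * (x * w * x)) := by
          rw [hcomm _ hxw _ hw]; simp only [mul_assoc]
      _ = 1 := by rw [hw2, h1, one_mul]
  -- some element with non-trivial square
  obtain ⟨a, ha, ha2⟩ : ∃ a ∈ A, a * a ≠ 1 := by
    by_contra hall
    push Not at hall
    haveI : Fintype A := Fintype.ofFinite _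
    classical
    have : ∀ a : A, (a : S) = 1 ∨ (a : S) = w ∨ (a : S) = f ∨ (a : S) = w * f := by
      rintro ⟨a, ha⟩
      have key : ∀ c ∈ A, c * (x * c * x) = 1 → c = 1 ∨ c = f := by
        intro c hc h1
        by_cases hc1 : c = 1
        · exact Or.inl hc1
        refine Or.inr (hfix c hc f hfA ?_ hfx hc1 hf1)
        have h2 : x * c * x = c := by
          rw [eq_inv_of_mul_eq_one_right h1, eq_comm, ← mul_eq_one_iff_eq_inv]
          exact hall c hc
        calc x * c = x * c * (x * x) := by rw [hx, mul_one]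
          _ = (x * c * x) * x := by rw [← mul_assoc]
          _ = c * x := by rw [h2]
      rcases hphi a ha with e | e
      · rcases key a ha e with e' | e'
        · exact Or.inl e'
        · exact Or.inr (Or.inr (Or.inl e'))
      · have hxa' : x * a * x ∈ A := by have := hxA a ha; rwa [hxi] at this
        have h1 : (w * a) * (x * (w * a) * x) = 1 := by
          rw [hconj, show w * a * (x * w * x * (x * a * x)) = (w * (x * w * x)) * (a * (x * a * x)) by
            rw [show w * a * (x * w * x * (x * a * x)) = w * (a * (x * w * x)) * (x * a * x) by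
              simp only [mul_assoc], hcomm a ha _ hxw]
            simp only [mul_assoc], e, ← hfdef, hff]
        have h2 : ∀ c, w * a = c → a = w * c := fun c hc => by
          rw [← hc, ← mul_assoc, hw2, one_mul]
        rcases key _ (mul_mem hw ha) h1 with e' | e'
        · exact Or.inr (Or.inl ((h2 1 e').trans (mul_one w)))
        · exact Or.inr (Or.inr (Or.inr (h2 f e')))
    have hle : Nat.card A ≤ 4 := by
      rw [Nat.card_eq_fintype_card, ← Finset.card_univ]
      refine le_trans (Finset.card_le_card (t := ({1, ⟨w, hw⟩, ⟨f, hfA⟩,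
        ⟨w * f, mul_mem hw hfA⟩} : Finset A)) fun a _ => ?_) Finset.card_le_four
      rcases this a with e | e | e | e <;> simp [Subtype.ext_iff, e]
    omega
  -- an element of order four inverted by x
  obtain ⟨u, hu, hu2, huinv⟩ : ∃ u ∈ A, u * u ≠ 1 ∧ u * (x * u * x) = 1 := by
    rcases hphi a ha with e | e
    · exact ⟨a, ha, ha2, e⟩
    · refine ⟨w * a, mul_mem hw ha, ?_, ?_⟩
      · rw [show w * a * (w * a) = (w * w) * (a * a) by
          rw [show w * a * (w * a) = w * (a * w) * a by simp only [mul_assoc], hcomm a ha w hw]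
          simp only [mul_assoc], hw2, one_mul]
        exact ha2
      · have hxa' : x * a * x ∈ A := by have := hxA a ha; rwa [hxi] at this
        rw [hconj, show w * a * (x * w * x * (x * a * x)) = (w * (x * w * x)) * (a * (x * a * x)) by
          rw [show w * a * (x * w * x * (x * a * x)) = w * (a * (x * w * x)) * (x * a * x) by
            simp only [mul_assoc], hcomm a ha _ hxw]
          simp only [mul_assoc], e, ← hfdef, hff]
  obtain ⟨j, hj⟩ := IsPGroup.iff_orderOf.1 hA ⟨u, hu⟩
  rw [← Subgroup.orderOf_coe] at hj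
  simp only at hj
  have hj2 : 2 ≤ j := by
    by_contra hlt
    apply hu2
    rw [← sq, ← orderOf_dvd_iff_pow_eq_one, hj]
    exact (Nat.pow_dvd_pow 2 (show j ≤ 1 by omega)).trans (dvd_of_eq (pow_one 2))
  set v := u ^ 2 ^ (j - 2) with hv
  have hv4 : orderOf v = 4 := by
    rw [hv, orderOf_pow_of_dvd (pow_ne_zero _ two_ne_zero) (hj ▸ Nat.pow_dvd_pow 2 (Nat.sub_le j 2)),
      hj, Nat.pow_div (Nat.sub_le j 2) two_pos, show j - (j - 2) = 2 by omega]
    norm_num
  have hvA : v ∈ A := pow_mem hu _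
  have hvinv : x * v * x = v⁻¹ := by
    have h1 : x * u * x⁻¹ = u⁻¹ := by rw [hxi]; exact eq_inv_of_mul_eq_one_right huinv
    have h2 : x * v * x⁻¹ = v⁻¹ := by rw [hv, ← conj_pow, h1, inv_pow]
    rwa [hxi] at h2
  have hvv1 : v * v ≠ 1 := fun e => by
    have := Nat.le_of_dvd two_pos (orderOf_dvd_of_pow_eq_one (x := v) (n := 2) (by rw [sq]; exact e))
    omega
  have hfv : v * v = f := by
    refine hfix _ (mul_mem hvA hvA) f hfA ?_ hfx hvv1 hf1
    have h4 : v * v * (v * v) = 1 := by
      have := pow_orderOf_eq_one v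
      rw [hv4] at this
      rw [← this]; simp only [pow_succ, pow_zero, one_mul, mul_assoc]
    have h5 : x * (v * v) * x = v * v := by
      rw [hconj, hvinv, ← mul_inv_rev, eq_comm, ← mul_eq_one_iff_eq_inv]; exact h4
    calc x * (v * v) = x * (v * v) * (x * x) := by rw [hx, mul_one]
      _ = (x * (v * v) * x) * x := by simp only [mul_assoc]
      _ = _ := by rw [h5]
  have hxwx : x * w * x = w * f := by rw [hfdef, ← mul_assoc, hw2, one_mul]
  have hvw : x * (v * w) * x = v * w := by
    rw [hconj, hvinv, hxwx, ← hfv, hcomm w hw _ (mul_mem hvA hvA), mul_assoc v v w, inv_mul_cancel_left]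
  have hvwx : x * (v * w) = v * w * x := by
    calc x * (v * w) = x * (v * w) * (x * x) := by rw [hx, mul_one]
      _ = (x * (v * w) * x) * x := by simp only [mul_assoc]
      _ = _ := by rw [hvw]
  by_cases hvw1 : v * w = 1
  · rw [eq_inv_of_mul_eq_one_right hvw1, ← mul_inv_rev, inv_eq_one] at hw2
    exact hvv1 hw2
  · have := hfix _ (mul_mem hvA hw) f hfA hvwx hfx hvw1 hf1
    rw [← hfv] at this
    rw [mul_left_cancel this] at hw2
    exact hvv1 hw2

/-- With a self-centralising cyclic normal subgroup inverted (up to the central involution) by an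
involution with centraliser of order four, the group is generated by the two. -/
theorem mem_or_mul_mem_of_inverting {a x : S} {m : ℕ} {s : ℤ} (hm : 3 ≤ m) (ha : orderOf a = 2 ^ m)
    (hx : x * x = 1) (hxa : x ∉ zpowers a) (hn : ∀ g : S, g * a * g⁻¹ ∈ zpowers a)
    (hsc : ∀ g : S, Commute g a → g ∈ zpowers a)
    (hs : x * a * x⁻¹ = a ^ s) (hs' : s = -1 ∨ s = 2 ^ (m - 1) - 1)
    (hcl : ∀ h, x * h = h * x → h ∈ zpowers a ∨ h * x ∈ zpowers a) :
    ∀ g : S, g ∈ zpowers a ∨ g * x ∈ zpowers a := by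
  haveI : Fact (Nat.Prime 2) := ⟨Nat.prime_two⟩
  have heq : ∀ p q : ℤ, a ^ p = a ^ q ↔ (2 : ℤ) ^ m ∣ q - p := fun p q => by
    rw [zpow_eq_zpow_iff_modEq, ha, Int.modEq_iff_dvd]; push_cast; rfl
  have hxi : x⁻¹ = x := inv_eq_of_mul_eq_one_right hx
  have hsj : ∀ j : ℤ, x * a ^ j * x⁻¹ = a ^ (s * j) := fun j => by
    rw [← conj_zpow, hs, ← zpow_mul]
  -- the four is a divisor of the order and of the parameter
  have h4m : (4 : ℤ) ∣ 2 ^ m := ⟨2 ^ (m - 2), by
    rw [show (4 : ℤ) = 2 ^ 2 by norm_num, ← pow_add]; congr 1; omega⟩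
  have h2m : (2 : ℤ) ∣ 2 ^ m := (dvd_trans (by norm_num) h4m)
  -- commutators with x lie in ⟨a⟩
  have hi : ∀ g : S, ∃ i : ℤ, g * x * g⁻¹ = a ^ i * x := by
    intro g
    obtain ⟨r, hr⟩ := hn g
    simp only at hr
    have hgen : a ∈ zpowers (a ^ r) := by
      have h1 : zpowers (a ^ r) = zpowers a := by
        refine eq_of_le_of_card_ge (zpowers_le.2 (zpow_mem (mem_zpowers a) r)) (le_of_eq ?_)
        rw [Nat.card_zpowers, Nat.card_zpowers, hr, orderOf_conj']
      exact h1.symm ▸ mem_zpowers a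
    have hc : Commute (g * x * g⁻¹ * x) (a ^ r) := by
      have h1 : x * a ^ r * x⁻¹ = g * a ^ s * g⁻¹ := by
        rw [hsj, ← conj_zpow, ← hr, ← zpow_mul, mul_comm]
      have h2 : x * a ^ s * x⁻¹ = a := by
        have h3 : x * (x * a * x⁻¹) * x⁻¹ = a := by
          calc x * (x * a * x⁻¹) * x⁻¹ = (x * x) * a * (x * x)⁻¹ := by
                rw [mul_inv_rev]; simp only [mul_assoc]
            _ = a := by rw [hx]; simp
        rwa [hs] at h3
      have h4 : (g * x * g⁻¹ * x) * a ^ r * (g * x * g⁻¹ * x)⁻¹ = a ^ r := by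
        calc (g * x * g⁻¹ * x) * a ^ r * (g * x * g⁻¹ * x)⁻¹
            = g * x * g⁻¹ * (x * a ^ r * x⁻¹) * (g * x⁻¹ * g⁻¹) := by
              simp only [mul_inv_rev, inv_inv, mul_assoc]
          _ = g * (x * a ^ s * x⁻¹) * g⁻¹ := by rw [h1]; group
          _ = a ^ r := by rw [h2, hr]
      exact mul_inv_eq_iff_eq_mul.1 h4
    obtain ⟨k, hk⟩ := hgen
    simp only at hk
    have hca : Commute (g * x * g⁻¹ * x) a := by
      have h5 := hc.zpow_right k
      rwa [hk] at h5
    obtain ⟨i, hi⟩ := hsc _ hca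
    simp only at hi
    exact ⟨i, by rw [hi, mul_assoc _ x x, hx, mul_one]⟩
  -- conjugates of x by powers of a
  have hconjx : ∀ j : ℤ, a ^ j * x * (a ^ j)⁻¹ = a ^ (j * (1 - s)) * x := fun j => by
    have h1 : x * (a ^ j)⁻¹ = a ^ (-(s * j)) * x := by
      rw [← zpow_neg, ← mul_neg, ← hsj, inv_mul_cancel_right]
    rw [mul_assoc, h1, ← mul_assoc, ← zpow_add]
    congr 2
    ring
  have heven : ∀ g : S, ∀ i : ℤ, g * x * g⁻¹ = a ^ i * x → 2 ∣ i →
      g ∈ zpowers a ∨ g * x ∈ zpowers a := by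
    rintro g i hgx ⟨t, rfl⟩
    obtain ⟨j, hj⟩ : ∃ j : ℤ, (2 : ℤ) ^ m ∣ 2 * t - j * (1 - s) := by
      rcases hs' with rfl | rfl
      · exact ⟨t, 0, by ring⟩
      · refine ⟨t * (1 + 2 ^ (m - 2)), t * 2 ^ (m - 3), ?_⟩
        have e1 : (2 : ℤ) ^ (m - 1) = 2 * 2 ^ (m - 2) := by rw [← pow_succ']; congr 1; omega
        have e2 : (2 : ℤ) ^ (m - 2) = 2 * 2 ^ (m - 3) := by rw [← pow_succ']; congr 1; omega
        have e3 : (2 : ℤ) ^ m = 4 * 2 ^ (m - 2) := by
          rw [show (4 : ℤ) = 2 ^ 2 by norm_num, ← pow_add]; congr 1; omega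
        rw [e1, e3, e2]; ring
    have h1 : a ^ j * x * (a ^ j)⁻¹ = g * x * g⁻¹ := by rw [hconjx, hgx, (heq _ _).2 hj]
    have h2 : x * ((a ^ j)⁻¹ * g) = ((a ^ j)⁻¹ * g) * x := by
      calc x * ((a ^ j)⁻¹ * g) = (a ^ j)⁻¹ * (a ^ j * x * (a ^ j)⁻¹) * g := by group
        _ = (a ^ j)⁻¹ * (g * x * g⁻¹) * g := by rw [h1]
        _ = _ := by group
    rcases hcl _ h2 with h | h
    · left
      have := mul_mem (zpow_mem (mem_zpowers a) j) h
      rwa [mul_inv_cancel_left] at this
    · right
      have := mul_mem (zpow_mem (mem_zpowers a) j) h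
      rwa [mul_assoc, mul_inv_cancel_left] at this
  intro g
  obtain ⟨i, hgi⟩ := hi g
  by_cases hev : (2 : ℤ) ∣ i
  · exact heven g i hgi hev
  exfalso
  -- `(a^i x)^2 = 1`
  have hs1 : s = -1 := by
    rcases hs' with h | h
    · exact h
    exfalso
    have h1 : (a ^ i * x) * (a ^ i * x) = 1 := by
      rw [← hgi]
      calc (g * x * g⁻¹) * (g * x * g⁻¹) = g * (x * x) * g⁻¹ := by group
        _ = 1 := by rw [hx]; group
    have h2 : a ^ (i + s * i) = a ^ (0 : ℤ) := by
      rw [zpow_add, ← hsj, hxi, zpow_zero]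
      rw [← h1]; simp only [mul_assoc]
    rw [heq, h] at h2
    apply hev
    have e3 : (2 : ℤ) ^ m = 2 ^ (m - 1) * 2 := by rw [← pow_succ]; congr 1; omega
    rw [e3, show (0 : ℤ) - (i + (2 ^ (m - 1) - 1) * i) = 2 ^ (m - 1) * (-i) by ring,
      mul_dvd_mul_iff_left (pow_ne_zero _ two_ne_zero), dvd_neg] at h2
    exact h2
  subst hs1
  obtain ⟨g, r, hgi, hr, hr4⟩ : ∃ (g : S) (r : ℤ), g * x * g⁻¹ = a ^ i * x ∧ g * a * g⁻¹ = a ^ r ∧
      (4 : ℤ) ∣ r - 1 := by
    obtain ⟨r, hr⟩ := hn g
    simp only at hr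
    have hodd : ¬ (2 : ℤ) ∣ r := by
      rintro ⟨c, rfl⟩
      have h1 : (g * a * g⁻¹) ^ 2 ^ (m - 1) = 1 := by
        rw [← hr, ← zpow_natCast, ← zpow_mul, ← zpow_zero a, heq]
        refine ⟨-c, ?_⟩
        push_cast
        have e3 : (2 : ℤ) ^ m = 2 ^ (m - 1) * 2 := by rw [← pow_succ]; congr 1; omega
        rw [e3]; ring
      have h3 := orderOf_dvd_of_pow_eq_one h1
      rw [orderOf_conj', ha, Nat.pow_dvd_pow_iff_le_right (by norm_num)] at h3
      omega
    by_cases h4 : (4 : ℤ) ∣ r - 1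
    · exact ⟨g, r, hgi, hr.symm, h4⟩
    · refine ⟨g * x, -r, ?_, ?_, by omega⟩
      · rw [← hgi]; group
      · calc g * x * a * (g * x)⁻¹ = g * (x * a * x⁻¹) * g⁻¹ := by group
          _ = a ^ (-r) := by rw [hs, ← conj_zpow, ← hr, zpow_neg, zpow_neg, zpow_one]
  have hg2x : (g * g) * x * (g * g)⁻¹ = a ^ (i * (r + 1)) * x := by
    calc (g * g) * x * (g * g)⁻¹ = g * (g * x * g⁻¹) * g⁻¹ := by group
      _ = (g * a ^ i * g⁻¹) * (g * x * g⁻¹) := by
        conv_lhs => rw [hgi]
        group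
      _ = _ := by rw [← conj_zpow, hr, hgi, ← zpow_mul, ← mul_assoc, ← zpow_add]; congr 2; ring
  have hg2a : (g * g) * a * (g * g)⁻¹ = a ^ (r * r) := by
    calc (g * g) * a * (g * g)⁻¹ = g * (g * a * g⁻¹) * g⁻¹ := by group
      _ = _ := by rw [hr, ← conj_zpow, hr, ← zpow_mul]
  rcases heven _ _ hg2x (Dvd.dvd.mul_left (by omega) i) with hk | hk
  · obtain ⟨k, hk⟩ := hk
    simp only at hk
    have hkg : g * a ^ k * g⁻¹ = a ^ k := by rw [hk]; group
    rw [← conj_zpow, hr, ← zpow_mul, heq] at hkg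
    rw [← hk, hconjx] at hg2x
    have h2 := (heq _ _).1 (mul_right_cancel hg2x)
    have hkodd : ¬ (2 : ℤ) ∣ k := by
      rintro ⟨c, rfl⟩
      apply hev
      obtain ⟨d, hd⟩ := h4m.trans h2
      obtain ⟨e, he⟩ := hr4
      rw [show r = 4 * e + 1 by omega] at hd
      have : 2 * i = 4 * (d + c - i * e) := by linarith
      omega
    have h3 : (2 : ℤ) ^ m ∣ r - 1 := by
      have h5 : (2 : ℤ) ^ m ∣ k * (r - 1) := by
        have := dvd_neg.2 hkg
        rwa [show -(k - r * k) = k * (r - 1) by ring] at this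
      refine IsCoprime.dvd_of_dvd_mul_left ?_ h5
      exact ((Int.prime_two.coprime_iff_not_dvd).2 hkodd).pow_left
    have hga : Commute g a := by
      have h6 : a ^ r = a ^ (1 : ℤ) := ((heq 1 r).2 h3).symm
      rw [zpow_one] at h6
      exact mul_inv_eq_iff_eq_mul.1 (hr.trans h6)
    obtain ⟨j, rfl⟩ := hsc g hga
    simp only at hgi
    rw [hconjx] at hgi
    apply hev
    have h7 := h2m.trans ((heq _ _).1 (mul_right_cancel hgi))
    omega
  · obtain ⟨k, hk⟩ := hk
    simp only at hk
    have h1 : (g * g) * a * (g * g)⁻¹ = a ^ (-1 : ℤ) := by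
      have h2 : g * g = a ^ k * x := by rw [hk, mul_assoc, hx, mul_one]
      rw [h2, mul_inv_rev, show a ^ k * x * a * (x⁻¹ * (a ^ k)⁻¹) = a ^ k * (x * a * x⁻¹) * (a ^ k)⁻¹ by
        simp only [mul_assoc], hs]
      group
    rw [hg2a, heq] at h1
    obtain ⟨d, hd⟩ := h4m.trans h1
    obtain ⟨e, he⟩ := hr4
    rw [show r = 4 * e + 1 by omega] at hd
    have : (4 * e + 1) * (4 * e + 1) = 4 * (4 * e * e + 2 * e) + 1 := by ring
    omega

/-- A finite 2-group with an involution whose centraliser has order four. -/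
theorem dihedral_quasi_or_four (hS : IsPGroup 2 S) (x : S) (hxo : orderOf x = 2)
    (hC : Nat.card ↥(centralizer ({x} : Set S)) = 4) :
    (∃ n : ℕ, Nonempty (S ≃* DihedralGroup n)) ∨ Cfsg.IsQuasiDihedral S ∨ Nat.card S = 4 := by
  haveI : Fact (Nat.Prime 2) := ⟨Nat.prime_two⟩
  by_cases hS4 : Nat.card S = 4
  · exact Or.inr (Or.inr hS4)
  have hx : x * x = 1 := by rw [← sq, ← hxo, pow_orderOf_eq_one]
  have hx1 : x ≠ 1 := fun e => by rw [e, orderOf_one] at hxo; omega
  have hxi : x⁻¹ = x := inv_eq_of_mul_eq_one_right hx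
  have hnotcen : ¬ ∀ g, x * g = g * x := by
    intro h
    apply hS4
    rw [← hC, show centralizer ({x} : Set S) = ⊤ from
      (eq_top_iff' _).2 fun g => mem_centralizer_singleton_iff.2 (h g).symm, card_top]
  suffices h : ∃ (a : S) (m : ℕ), 2 ≤ m ∧ orderOf a = 2 ^ m ∧ x ∉ zpowers a ∧
      (∀ g, g ∈ zpowers a ∨ g * x ∈ zpowers a) ∧
      (x * a * x⁻¹ = a⁻¹ ∨ x * a * x⁻¹ = a ^ 2 ^ (m - 1) * a⁻¹) by
    obtain ⟨a, m, hm, ha, hxa, hcov, hrel⟩ := h
    have hnc : x * a * x⁻¹ ≠ a := by
      intro he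
      apply hnotcen
      have h1 : Commute x a := mul_inv_eq_iff_eq_mul.1 he
      intro g
      rcases hcov g with hg | hg
      · obtain ⟨i, rfl⟩ := hg
        exact (h1.zpow_right i).eq
      · obtain ⟨i, hi⟩ := hg
        simp only at hi
        have : g = a ^ i * x := by rw [hi, mul_assoc, hx, mul_one]
        rw [this]
        exact ((h1.zpow_right i).mul_right (Commute.refl x)).eq
    rcases dihedral_or_quasi_of_cyclic_index_two hm ha hx hxa hcov hnc hrel with h | h
    · exact Or.inl h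
    · exact Or.inr (Or.inl h)
  -- a maximal abelian normal subgroup
  obtain ⟨A, ⟨hAn, hAc⟩, hmax⟩ := Set.Finite.exists_maximalFor (fun B : Subgroup S => Nat.card B)
    {B : Subgroup S | B.Normal ∧ IsMulCommutative B} (Set.toFinite _)
    ⟨⊥, inferInstance, inferInstance⟩
  have hmax' : ∀ B : Subgroup S, B.Normal → IsMulCommutative B → A ≤ B → B = A := fun B h1 h2 hle =>
    (eq_of_le_of_card_ge hle (hmax ⟨h1, h2⟩ (card_le_of_le hle))).symm
  have hsc := CfsgLib.Classification.CyclicNormal.self_centralizing hS hAn hAc hmax'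
  have hcomm : ∀ a ∈ A, ∀ b ∈ A, a * b = b * a := fun a ha b hb =>
    congrArg Subtype.val (hAc.is_comm.comm ⟨a, ha⟩ ⟨b, hb⟩)
  obtain ⟨k, hk⟩ := IsPGroup.iff_card.1 (hS.to_subgroup A)
  by_cases hbig : 4 < Nat.card A
  · have hk3 : 3 ≤ k := by
      by_contra hlt
      have := Nat.pow_le_pow_right two_pos (show k ≤ 2 by omega)
      omega
    have hxA : x ∉ A := fun hxA => by
      have h1 : A ≤ centralizer ({x} : Set S) := fun a ha =>
        mem_centralizer_singleton_iff.2 (hcomm a ha x hxA)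
      have := card_le_of_le h1
      omega
    obtain ⟨hfix, hcl⟩ := eq_or_mul_mem_of_card hx A hxA hC
    have hinv := unique_involution_of_fixed hx (hS.to_subgroup A) hcomm
      (fun a ha => hAn.conj_mem a ha x) hbig hfix
    have hu : CfsgLib.TwoGroupsQ.HasUniqueOrderP A 2 :=
      CfsgLib.TwoGroupsQ.hasUniqueOrderP_two fun p q hp hp1 hq hq1 => by
        rw [sq] at hp hq
        have hp' : (p : S) * p = 1 := congrArg Subtype.val hp
        have hq' : (q : S) * q = 1 := congrArg Subtype.val hq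
        have hp1' : (p : S) ≠ 1 := fun e => hp1 (Subtype.ext e)
        have hq1' : (q : S) ≠ 1 := fun e => hq1 (Subtype.ext e)
        exact Subtype.ext (hfix _ p.2 _ q.2 (hinv _ p.2 hp' hp1') (hinv _ q.2 hq' hq1') hp1' hq1')
    rcases CfsgLib.TwoGroupsQ.isCyclic_or_quaternion (hS.to_subgroup A) hu with hcyc | ⟨-, n, hn1, ⟨e⟩⟩
    swap
    · exfalso
      haveI : NeZero (2 ^ n) := ⟨by positivity⟩
      have h1 : (QuaternionGroup.a 1 : QuaternionGroup (2 ^ n)) * QuaternionGroup.xa 0 =
          QuaternionGroup.xa 0 * QuaternionGroup.a 1 := by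
        apply e.symm.injective
        rw [map_mul, map_mul]; exact hAc.is_comm.comm _ _
      simp only [QuaternionGroup.a_mul_xa, QuaternionGroup.xa_mul_a, QuaternionGroup.xa.injEq] at h1
      haveI : Fact (1 < 2 * 2 ^ n) := ⟨by have := Nat.one_le_two_pow (n := n); omega⟩
      have h2 : ((2 : ℕ) : ZMod (2 * 2 ^ n)) = 0 := by
        push_cast
        linear_combination -h1
      rw [ZMod.natCast_eq_zero_iff] at h2
      have := Nat.le_of_dvd two_pos h2
      have : 2 ≤ 2 ^ n := Nat.le_self_pow (by omega) 2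
      omega
    obtain ⟨g₀, hg₀⟩ := hcyc.exists_generator
    set a := (g₀ : S) with haDef
    have hAeq : A = zpowers a := by
      refine le_antisymm (fun c hc => ?_) (zpowers_le.2 g₀.2)
      obtain ⟨i, hi⟩ := hg₀ ⟨c, hc⟩
      exact ⟨i, by simpa using congrArg Subtype.val hi⟩
    have ha : orderOf a = 2 ^ k := by rw [← hk, hAeq, Nat.card_zpowers]
    rw [hAeq] at hxA hAn hsc hfix hcl hinv
    set z := a ^ 2 ^ (k - 1) with hz
    have hzo : orderOf z = 2 := by
      rw [hz, orderOf_pow_of_dvd (pow_ne_zero _ two_ne_zero) (ha ▸ Nat.pow_dvd_pow 2 (Nat.sub_le k 1)),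
        ha, Nat.pow_div (Nat.sub_le k 1) two_pos, show k - (k - 1) = 1 by omega, pow_one]
    have hz1 : z ≠ 1 := fun e => by rw [e, orderOf_one] at hzo; omega
    have hzx : x * z = z * x := hinv z (pow_mem (mem_zpowers a) _)
      (by rw [← sq, ← hzo, pow_orderOf_eq_one]) hz1
    have hphi : x * a * x⁻¹ = a⁻¹ ∨ x * a * x⁻¹ = z * a⁻¹ := by
      have hxa' := hAn.conj_mem a (mem_zpowers a) x
      have hc : a * (x * a * x⁻¹) = x * a * x⁻¹ * a := by
        obtain ⟨i, hi⟩ := hxa'
        simp only at hi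
        rw [← hi]; exact ((Commute.refl a).zpow_right i).eq
      have hfx : x * (a * (x * a * x⁻¹)) = a * (x * a * x⁻¹) * x := by
        conv_rhs => rw [hc]
        simp only [hxi, mul_assoc]
      by_cases h1 : a * (x * a * x⁻¹) = 1
      · exact Or.inl (eq_inv_of_mul_eq_one_right h1)
      · refine Or.inr ?_
        have h2 := hfix _ (mul_mem (mem_zpowers a) hxa') z (pow_mem (mem_zpowers a) _) hfx hzx h1 hz1
        rw [← h2, hc, mul_inv_cancel_right]
    refine ⟨a, k, by omega, ha, hxA, ?_, hphi⟩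
    have hsc' : ∀ g : S, Commute g a → g ∈ zpowers a := fun g hg => hsc g fun c hc => by
      obtain ⟨i, rfl⟩ := hc
      exact hg.zpow_right i
    have hcl' := hcl z (pow_mem (mem_zpowers a) _) hzx hz1
    rcases hphi with h | h
    · exact mem_or_mul_mem_of_inverting (s := -1) hk3 ha hx hxA
        (fun g => hAn.conj_mem a (mem_zpowers a) g) hsc' (by rw [h, zpow_neg_one]) (Or.inl rfl) hcl'
    · refine mem_or_mul_mem_of_inverting (s := 2 ^ (k - 1) - 1) hk3 ha hx hxA
        (fun g => hAn.conj_mem a (mem_zpowers a) g) hsc' ?_ (Or.inr rfl) hcl'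
      rw [h, hz, zpow_sub, zpow_one, show (2 : ℤ) ^ (k - 1) = ((2 ^ (k - 1) : ℕ) : ℤ) by push_cast; rfl,
        zpow_natCast]
  · -- the small case: S has order eight
    have hidx : Nat.card S ≤ 8 := by
      classical
      haveI : Fintype A := Fintype.ofFinite _
      let _ : MulAction S A := MulAction.compHom _ (MulAut.conjNormal (H := A))
      have hker : ∀ g : S, (∀ a : A, g • a = a) → g ∈ A := fun g hg => hsc g fun a ha => by
        have := congrArg Subtype.val (hg ⟨a, ha⟩)
        exact mul_inv_eq_iff_eq_mul.1 this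
      let f : S →* Equiv.Perm {a : A // a ≠ 1} :=
        { toFun := fun g =>
            { toFun := fun a => ⟨g • a.1, fun e => a.2 (by
                have h1 := congrArg (fun t : A => g⁻¹ • t) e
                simp only [inv_smul_smul] at h1
                rw [h1]; exact map_one (MulAut.conjNormal (H := A) g⁻¹))⟩
              invFun := fun a => ⟨g⁻¹ • a.1, fun e => a.2 (by
                have h1 := congrArg (fun t : A => g • t) e
                simp only [smul_inv_smul] at h1
                rw [h1]; exact map_one (MulAut.conjNormal (H := A) g))⟩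
              left_inv := fun a => Subtype.ext (inv_smul_smul g a.1)
              right_inv := fun a => Subtype.ext (smul_inv_smul g a.1) }
          map_one' := by ext a; simp
          map_mul' := fun g h => by ext a; simp [mul_smul] }
      have hkerle : f.ker ≤ A := fun g hg => hker g fun a => by
        by_cases ha : a = 1
        · subst ha; exact map_one (MulAut.conjNormal (H := A) g)
        · have h1 : f g = 1 := hg
          exact congrArg Subtype.val (congrArg (fun σ : Equiv.Perm {a : A // a ≠ 1} => σ ⟨a, ha⟩) h1)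
      have hr : Nat.card f.range ∣ (Nat.card A - 1).factorial := by
        have h1 := card_subgroup_dvd_card f.range
        rw [Nat.card_perm] at h1
        have h2 : Nat.card {a : A // a ≠ 1} = Nat.card A - 1 := by
          rw [Nat.card_eq_fintype_card, Nat.card_eq_fintype_card, Fintype.card_subtype_compl,
            Fintype.card_subtype_eq]
        rwa [h2] at h1
      have h6 : Nat.card f.range ∣ 6 :=
        hr.trans (Nat.factorial_dvd_factorial (show Nat.card A - 1 ≤ 3 by omega))
      obtain ⟨j, hj⟩ := IsPGroup.iff_card.1 (hS.of_surjective f.rangeRestrict f.rangeRestrict_surjective)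
      have hr2 : Nat.card f.range ≤ 2 := by
        by_contra hlt
        have hj2 : 2 ≤ j := by
          by_contra h
          have := Nat.pow_le_pow_right two_pos (show j ≤ 1 by omega)
          omega
        rw [hj] at h6
        exact absurd ((Nat.pow_dvd_pow 2 hj2).trans h6) (by norm_num)
      rw [← card_mul_index f.ker, index_ker]
      exact le_trans (Nat.mul_le_mul (card_le_of_le hkerle) hr2) (by omega)
    have hS8 : Nat.card S = 8 := by
      obtain ⟨n, hn⟩ := IsPGroup.iff_card.1 hS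
      have h4 : 4 ∣ Nat.card S := hC ▸ card_subgroup_dvd_card _
      have : 0 < Nat.card S := Nat.card_pos
      rcases h4 with ⟨c, hc⟩
      omega
    obtain ⟨a, ha2⟩ : ∃ a : S, a * a ≠ 1 := by
      by_contra hall
      push Not at hall
      exact hnotcen fun g => by
        have hi : ∀ t : S, t⁻¹ = t := fun t => inv_eq_of_mul_eq_one_right (hall t)
        rw [← hi (x * g), mul_inv_rev, hi x, hi g]
    have ha : orderOf a = 4 := by
      have hd : orderOf a ∣ 2 ^ 3 := by rw [show 2 ^ 3 = Nat.card S by omega]; exact orderOf_dvd_natCard a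
      obtain ⟨j, hj3, hj⟩ := (Nat.dvd_prime_pow Nat.prime_two).1 hd
      have : j ≠ 3 := fun e => by
        subst e
        apply hnotcen
        have ht : zpowers a = ⊤ := eq_top_of_card_eq _ (by rw [Nat.card_zpowers, hj, hS8]; rfl)
        intro g
        obtain ⟨p, hp⟩ := (ht ▸ mem_top x : x ∈ zpowers a)
        obtain ⟨q, hq⟩ := (ht ▸ mem_top g : g ∈ zpowers a)
        rw [← hp, ← hq]; exact (Commute.zpow_zpow_self a p q).eq
      have : 2 ≤ j := by
        by_contra hlt
        apply ha2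
        rw [← sq, ← orderOf_dvd_iff_pow_eq_one, hj]
        exact (Nat.pow_dvd_pow 2 (show j ≤ 1 by omega)).trans (dvd_of_eq (pow_one 2))
      rw [hj, show j = 2 by omega]; norm_num
    have hidx2 : (zpowers a).index = 2 := by
      have := card_mul_index (zpowers a)
      rw [Nat.card_zpowers, ha, hS8] at this
      omega
    haveI hnorm : (zpowers a).Normal := normal_of_index_eq_two hidx2
    have ha4 : a ^ 4 = 1 := by rw [← ha, pow_orderOf_eq_one]
    have hpow : ∀ g ∈ zpowers a, g = 1 ∨ g = a ∨ g = a ^ 2 ∨ g = a⁻¹ := by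
      rintro g ⟨i, rfl⟩
      have e : a ^ i = a ^ (i % 4) := by
        rw [zpow_eq_zpow_iff_modEq, ha]
        exact (Int.mod_modEq i 4).symm
      have h0 := Int.emod_nonneg i (show (4 : ℤ) ≠ 0 by norm_num)
      have h4 := Int.emod_lt_of_pos i (show (0 : ℤ) < 4 by norm_num)
      have h3 : a ^ (3 : ℤ) = a⁻¹ := by
        rw [← zpow_neg_one, zpow_eq_zpow_iff_modEq, ha]; rfl
      show a ^ i = 1 ∨ a ^ i = a ∨ a ^ i = a ^ 2 ∨ a ^ i = a⁻¹
      rw [e]
      obtain h | h | h | h : i % 4 = 0 ∨ i % 4 = 1 ∨ i % 4 = 2 ∨ i % 4 = 3 := by omega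
      · exact Or.inl (by rw [h, zpow_zero])
      · exact Or.inr (Or.inl (by rw [h, zpow_one]))
      · exact Or.inr (Or.inr (Or.inl (by rw [h, zpow_two, sq])))
      · exact Or.inr (Or.inr (Or.inr (by rw [h, h3])))
    have hxa : x ∉ zpowers a := by
      intro hxa
      apply hnotcen
      intro g
      have hgx := hnorm.conj_mem x hxa g
      have h2 : ∀ t ∈ zpowers a, t * t = 1 → t ≠ 1 → t = a ^ 2 := by
        intro t ht htt ht1
        rcases hpow t ht with e | e | e | e
        · exact absurd e ht1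
        · exact absurd (e ▸ htt) ha2
        · exact e
        · exact absurd (by rw [e, ← mul_inv_rev, inv_eq_one] at htt; exact htt) ha2
      have h3 : g * x * g⁻¹ = x := (h2 _ hgx
        (by rw [show g * x * g⁻¹ * (g * x * g⁻¹) = g * (x * x) * g⁻¹ by group, hx]; group)
        (fun e => hx1 (by
          calc x = g⁻¹ * (g * x * g⁻¹) * g := by group
            _ = 1 := by rw [e]; group))).trans (h2 x hxa hx hx1).symm
      exact (mul_inv_eq_iff_eq_mul.1 h3).symm
    refine ⟨a, 2, le_rfl, by rw [ha]; norm_num, hxa, fun g => ?_, ?_⟩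
    · by_cases hg : g ∈ zpowers a
      · exact Or.inl hg
      · exact Or.inr ((mul_mem_iff_of_index_two hidx2).2 (iff_of_false hg hxa))
    · rcases hpow _ (hnorm.conj_mem a (mem_zpowers a) x) with e | e | e | e
      · exfalso
        apply ha2
        have : a = 1 := by
          calc a = x⁻¹ * (x * a * x⁻¹) * x := by group
            _ = 1 := by rw [e]; group
        rw [this, one_mul]
      · right
        rw [e, show 2 ^ (2 - 1) = 2 from rfl, sq, mul_inv_cancel_right]
      · exfalso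
        have h1 : orderOf (x * a * x⁻¹) = orderOf a := orderOf_conj' ..
        rw [e, orderOf_pow' a two_ne_zero, ha] at h1
        norm_num at h1
      · exact Or.inl e

end CfsgLib.Inv53
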