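import Cfsg.Agent.S3183
import Cfsg.Agent.PLocal.Cores

/-!
# Isolated involutions and the odd core
-/

set_option autoImplicit false

namespace CfsgLib.Inv53

variable {G : Type*} [Group G] [Finite G]

/-- From the conclusion of the Z*-theorem: all conjugates agree modulo the odd core. -/
theorem mk_conj_eq_of_commutator_mem {u : G}
    (h : ∃ N : Subgroup G, N.Normal ∧ Odd (Nat.card N) ∧ ∀ g : G, (u * g * u⁻¹ * g⁻¹) ∈ N) (g : G) :
    (QuotientGroup.mk (s := Cfsg.oddCore G) (g * u * g⁻¹)) =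
      QuotientGroup.mk (s := Cfsg.oddCore G) u := by
  obtain ⟨N, hN, hodd, hmem⟩ := h
  haveI := hN
  have hle : N ≤ Cfsg.oddCore G := CfsgLib.PLocal.le_pPrimeCore (Nat.coprime_two_right.2 hodd)
  rw [QuotientGroup.eq]
  apply hle
  have h1 := hN.conj_mem _ (hmem g) u⁻¹
  rwa [show (g * u * g⁻¹)⁻¹ * u = u⁻¹ * (u * g * u⁻¹ * g⁻¹) * u⁻¹⁻¹ by group]

/-- The involution of a cyclic characteristic subgroup of `S` is isolated in `S` when Sylow
2-intersections are central. -/
theorem isolated_of_cyclic_characteristic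
    (hCI : ∀ S T : Sylow 2 G, S ≠ T → ∃ U : Sylow 2 G,
      (S : Subgroup G) ⊓ (T : Subgroup G) ≤ (Subgroup.center ↥(U : Subgroup G)).map (U : Subgroup G).subtype)
    (S : Sylow 2 G) (C : Subgroup ↥(S : Subgroup G)) (hCc : IsCyclic ↥C) (hCh : C.Characteristic)
    (c : ↥(S : Subgroup G)) (hc : c ∈ C) (hc2 : orderOf c = 2) :
    ∀ g : G, g * (c : G) * g⁻¹ ∈ (S : Subgroup G) → g * (c : G) * g⁻¹ = c := by
  haveI : Fact (Nat.Prime 2) := ⟨Nat.prime_two⟩
  have hfix : ∀ n : G, (S : Subgroup G).map (MulAut.conj n).toMonoidHom = (S : Subgroup G) →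
      n * (c : G) * n⁻¹ = c := by
    intro n hn
    let φ : ↥(S : Subgroup G) ≃* ↥(S : Subgroup G) :=
      (Subgroup.equivMapOfInjective (S : Subgroup G) (MulAut.conj n).toMonoidHom
        (MulAut.conj n).injective).trans (MulEquiv.subgroupCongr hn)
    have hφ : (φ c : G) = n * (c : G) * n⁻¹ := rfl
    have hmem : φ c ∈ C := by
      have h1 := hCh.fixed φ
      have : c ∈ C.comap φ.toMonoidHom := h1.symm ▸ hc
      exact this
    have hord : orderOf (φ c) = 2 := by rw [MulEquiv.orderOf_eq, hc2]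
    haveI : Fintype C := Fintype.ofFinite _
    have huniq : (⟨φ c, hmem⟩ : C) = ⟨c, hc⟩ := by
      classical
      have hd : 2 ∣ Fintype.card C := by
        have := orderOf_dvd_natCard (⟨c, hc⟩ : C)
        rwa [Subgroup.orderOf_mk, hc2, Nat.card_eq_fintype_card] at this
      have h2 := IsCyclic.card_orderOf_eq_totient (α := C) hd
      rw [Nat.totient_two] at h2
      obtain ⟨t, ht⟩ := Finset.card_eq_one.1 h2
      have e1 : (⟨φ c, hmem⟩ : C) ∈ ({t} : Finset C) := by
        rw [← ht]; simp [Subgroup.orderOf_mk, hord]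
      have e2 : (⟨c, hc⟩ : C) ∈ ({t} : Finset C) := by
        rw [← ht]; simp [Subgroup.orderOf_mk, hc2]
      exact (Finset.mem_singleton.1 e1).trans (Finset.mem_singleton.1 e2).symm
    rw [← hφ]
    exact congrArg (fun t : C => ((t : ↥(S : Subgroup G)) : G)) huniq
  intro g hg
  obtain ⟨T, hT⟩ := map_conj_sylow S g
  by_cases hTS : T = S
  · exact hfix g (by rw [← hT, hTS])
  set d := g * (c : G) * g⁻¹ with hd
  have hdT : d ∈ (T : Subgroup G) := by rw [hT]; exact ⟨c, c.2, rfl⟩
  obtain ⟨hdS, hdT'⟩ := ((Cfsg.Agent.S3183.result hCI S).2 T hTS) ⟨hg, hdT⟩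
  have hcent : ∀ U : Subgroup G, d ∈ (Subgroup.center ↥U).map U.subtype →
      U ≤ Subgroup.centralizer ({d} : Set G) := fun U hU u hu =>
    Subgroup.mem_centralizer_singleton_iff.2 ((mem_center_map_iff.1 hU).2 u hu)
  obtain ⟨h, hhK, hle⟩ := exists_conj_le_of_pGroup S.isPGroup' (hcent _ hdS)
    (fun h => S.not_dvd_index (h.trans (Subgroup.relIndex_dvd_index_of_le (hcent _ hdS))))
    T.isPGroup' (hcent _ hdT')
  have heq : (S : Subgroup G).map (MulAut.conj (h * g)).toMonoidHom = (S : Subgroup G) := by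
    rw [← map_conj_map_conj, ← hT]
    exact Subgroup.eq_of_le_of_card_ge hle (by
      rw [card_map_conj]; exact (Nat.card_congr (Sylow.equiv T S).toEquiv).ge)
  have h1 : h * d = d * h := Subgroup.mem_centralizer_singleton_iff.1 hhK
  calc d = h * d * h⁻¹ := by rw [h1, mul_inv_cancel_right]
    _ = (h * g) * (c : G) * (h * g)⁻¹ := by rw [hd]; group
    _ = c := hfix _ heq

end CfsgLib.Inv53
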