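import Cfsg.Agent.Linear.Basic
import Cfsg.Agent.SL2Trace.Basic
import Cfsg.Agent.LinearElements.TwoByTwo
import Cfsg.Prelude.Def_Classical
import Mathlib

/-!
# Counting facts for sections of `GL₅(2)`
-/

set_option autoImplicit false

namespace CfsgLib.Inv53

open Matrix
open scoped MatrixGroups Pointwise

theorem card_GL_five_two : Nat.card (GL (Fin 5) (ZMod 2)) = 9999360 := by
  rw [Matrix.card_GL_field, ZMod.card]
  simp [Fin.prod_univ_succ]

/-- `GL₅(2)` has no element of order nine. -/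
theorem gl_five_two_orderOf_ne_nine (g : GL (Fin 5) (ZMod 2)) : orderOf g ≠ 9 := by
  intro hg
  haveI : Fact (Nat.Prime 3) := ⟨Nat.prime_three⟩
  set A : Matrix (Fin 5) (Fin 5) (ZMod 2) :=
    !![0, 1, 0, 0, 0; 1, 1, 0, 0, 0; 0, 0, 1, 0, 0; 0, 0, 0, 1, 0; 0, 0, 0, 0, 1] with hA
  set B : Matrix (Fin 5) (Fin 5) (ZMod 2) :=
    !![0, 1, 0, 0, 0; 1, 1, 0, 0, 0; 0, 0, 0, 1, 0; 0, 0, 1, 1, 0; 0, 0, 0, 0, 1] with hB
  have hA3 : A * (A * A) = 1 ∧ (A * A) * A = 1 := by rw [hA]; decide +kernel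
  have hB3 : B * (B * B) = 1 ∧ (B * B) * B = 1 := by rw [hB]; decide +kernel
  have htr : A.trace = 0 ∧ (A * A).trace = 0 ∧ B.trace = 1 := by rw [hA, hB]; decide +kernel
  let a : GL (Fin 5) (ZMod 2) := ⟨A, A * A, hA3.1, hA3.2⟩
  let b : GL (Fin 5) (ZMod 2) := ⟨B, B * B, hB3.1, hB3.2⟩
  have key : ∀ c : GL (Fin 5) (ZMod 2), c ^ 3 = 1 → c ≠ 1 →
      ∃ h, h * c * h⁻¹ = g ^ 3 ∨ h * c * h⁻¹ = g ^ 6 := by
    intro c hc3 hc1
    obtain ⟨P⟩ : Nonempty (Sylow 3 (GL (Fin 5) (ZMod 2))) := inferInstance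
    have hgp : IsPGroup 3 (Subgroup.zpowers g) := IsPGroup.of_card (n := 2) (by rw [Nat.card_zpowers, hg]; rfl)
    have hidx : ¬ 3 ∣ (Subgroup.zpowers g).index := by
      have := Subgroup.card_mul_index (Subgroup.zpowers g)
      rw [Nat.card_zpowers, hg, card_GL_five_two] at this
      omega
    let Q : Sylow 3 (GL (Fin 5) (ZMod 2)) := hgp.toSylow hidx
    have hcp : IsPGroup 3 (Subgroup.zpowers c) :=
      IsPGroup.of_card (n := 1) (by rw [Nat.card_zpowers, orderOf_eq_prime hc3 hc1, pow_one])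
    obtain ⟨R, hR⟩ := hcp.exists_le_sylow
    obtain ⟨h, hh⟩ := MulAction.exists_smul_eq (GL (Fin 5) (ZMod 2)) R Q
    have hmem : h * c * h⁻¹ ∈ Subgroup.zpowers g := by
      have h1 : c ∈ (R : Subgroup (GL (Fin 5) (ZMod 2))) := hR (Subgroup.mem_zpowers c)
      have h2 : MulAut.conj h • c ∈ MulAut.conj h • (R : Subgroup (GL (Fin 5) (ZMod 2))) :=
        Subgroup.smul_mem_pointwise_smul _ _ _ h1
      rw [← Sylow.coe_subgroup_smul, hh] at h2
      exact h2
    obtain ⟨i, hi⟩ := hmem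
    simp only at hi
    refine ⟨h, ?_⟩
    have h3 : (g ^ i) ^ 3 = 1 := by rw [hi, conj_pow, hc3, mul_one, mul_inv_cancel]
    have h4 : (3 : ℤ) ∣ i := by
      rw [← zpow_natCast, ← _root_.zpow_mul, ← orderOf_dvd_iff_zpow_eq_one, hg] at h3
      omega
    have h5 : g ^ i = g ^ (i % 9) := by
      rw [zpow_eq_zpow_iff_modEq, hg]; exact (Int.mod_modEq i 9).symm
    have h6 : g ^ i ≠ 1 := fun e => hc1 (by
      rw [e] at hi
      calc c = h⁻¹ * (h * c * h⁻¹) * h := by group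
        _ = 1 := by rw [← hi]; group)
    obtain e | e | e : i % 9 = 0 ∨ i % 9 = 3 ∨ i % 9 = 6 := by omega
    · exact absurd (by rw [h5, e, zpow_zero]) h6
    · exact Or.inl (by rw [← hi, h5, e]; rfl)
    · exact Or.inr (by rw [← hi, h5, e]; rfl)
  have htrc : ∀ h c : GL (Fin 5) (ZMod 2), Matrix.trace ((h * c * h⁻¹ : GL (Fin 5) (ZMod 2)) : Matrix (Fin 5) (Fin 5) (ZMod 2))
      = Matrix.trace (c : Matrix (Fin 5) (Fin 5) (ZMod 2)) := fun h c => by
    rw [Units.val_mul, Units.val_mul, Matrix.trace_units_conj]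
  have ha3 : a ^ 3 = 1 := Units.ext (by
    rw [Units.val_pow_eq_pow_val, pow_succ, sq]; exact hA3.2)
  have hb3 : b ^ 3 = 1 := Units.ext (by
    rw [Units.val_pow_eq_pow_val, pow_succ, sq]; exact hB3.2)
  have ha1 : a ≠ 1 := fun e => by
    have : A 0 0 = 1 := by rw [show A = 1 from congrArg Units.val e]; rfl
    exact absurd this (by rw [hA]; decide)
  have hb1 : b ≠ 1 := fun e => by
    have : B 0 0 = 1 := by rw [show B = 1 from congrArg Units.val e]; rfl
    exact absurd this (by rw [hB]; decide)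
  obtain ⟨h, hh⟩ := key a ha3 ha1
  obtain ⟨k, hk⟩ := key b hb3 hb1
  -- the square of a has the same trace as a
  have hsq : ∀ x : GL (Fin 5) (ZMod 2), h * a * h⁻¹ = x →
      (x : Matrix (Fin 5) (Fin 5) (ZMod 2)).trace = 0 ∧ ((x ^ 2 : GL (Fin 5) (ZMod 2)) : Matrix (Fin 5) (Fin 5) (ZMod 2)).trace = 0 := by
    rintro x rfl
    refine ⟨(htrc h a).trans htr.1, ?_⟩
    rw [conj_pow, htrc, Units.val_pow_eq_pow_val, sq]
    exact htr.2.1
  have h3and6 : ((g ^ 3 : GL (Fin 5) (ZMod 2)) : Matrix (Fin 5) (Fin 5) (ZMod 2)).trace = 0 ∧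
      ((g ^ 6 : GL (Fin 5) (ZMod 2)) : Matrix (Fin 5) (Fin 5) (ZMod 2)).trace = 0 := by
    rcases hh with e | e <;> obtain ⟨e1, e2⟩ := hsq _ e
    · exact ⟨e1, by rwa [← pow_mul] at e2⟩
    · refine ⟨?_, e1⟩
      rw [← pow_mul, show (6 * 2 : ℕ) = 9 + 3 from rfl, pow_add, ← hg, pow_orderOf_eq_one, one_mul] at e2
      exact e2
  have h7 : B.trace = 0 := by
    rcases hk with e | e <;> have := htrc k b <;> rw [e] at this
    · exact this.symm.trans h3and6.1
    · exact this.symm.trans h3and6.2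
  rw [htr.2.2] at h7
  exact one_ne_zero h7

/-- `PSL₂(8)` has an element of order nine. -/
theorem psl_two_eight_exists_orderOf_nine {F : Type*} [Field F] [Fintype F] (hF : Fintype.card F = 8) :
    ∃ x : Matrix.ProjectiveSpecialLinearGroup (Fin 2) F, orderOf x = 9 := by
  classical
  haveI : Fact (Nat.Prime 2) := ⟨Nat.prime_two⟩
  haveI : Fact (Nat.Prime 7) := ⟨by norm_num⟩
  haveI : CharP F 2 := charP_of_card_eq_prime_pow (p := 2) (f := 3) hF
  have h2 : (2 : F) = 0 := CharTwo.two_eq_zero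
  obtain ⟨t, ht⟩ : ∃ t : F, t ^ 3 + t + 1 = 0 := by
    obtain ⟨z, hz⟩ := exists_prime_orderOf_dvd_card' (G := Fˣ) 7
      (by rw [Nat.card_eq_fintype_card, Fintype.card_units, hF])
    have hz7 : ((z : F)) ^ 7 = 1 := by
      rw [← Units.val_pow_eq_pow_val, ← hz, pow_orderOf_eq_one, Units.val_one]
    have hz1 : (z : F) ≠ 1 := fun e => by
      rw [Units.val_eq_one] at e; rw [e, orderOf_one] at hz; omega
    have hprod : ((z : F) - 1) * (((z : F) ^ 3 + z + 1) * ((z : F) ^ 3 + (z : F) ^ 2 + 1)) = 0 := by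
      linear_combination hz7 + ((z : F) ^ 4 - (z : F) ^ 3) * h2
    rcases mul_eq_zero.1 hprod with e | e
    · exact absurd (sub_eq_zero.1 e) hz1
    rcases mul_eq_zero.1 e with e' | e'
    · exact ⟨_, e'⟩
    · refine ⟨(z : F)⁻¹, ?_⟩
      have hz0 : (z : F) ≠ 0 := z.ne_zero
      field_simp
      linear_combination e'
  set g := CfsgLib.SL2Trace.mkSL (F := F) !![0, 1; 1, t] (by
    simp [Matrix.det_fin_two]; linear_combination -h2) with hgdef
  set M := (g : Matrix (Fin 2) (Fin 2) F)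
  have hM : M = !![0, 1; 1, t] := rfl
  have hM3 : M * M * M = !![t, t ^ 2 + 1; t ^ 2 + 1, t ^ 3] := by
    rw [hM, Matrix.mul_fin_two, Matrix.mul_fin_two]
    ext i j; fin_cases i <;> fin_cases j <;> simp <;> first | linear_combination t * h2 | linear_combination -t * h2 | ring
  have hne : t ^ 2 + 1 ≠ 0 := fun e => by
    have h3 : (1 : F) = 0 := by linear_combination ht - t * e
    exact one_ne_zero h3
  set h := g ^ 3 with hh
  have hcoe : (h : Matrix (Fin 2) (Fin 2) F) = !![t, t ^ 2 + 1; t ^ 2 + 1, t ^ 3] := by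
    rw [← hM3, hh, pow_succ, sq]; rfl
  have htr : (h : Matrix (Fin 2) (Fin 2) F).trace = 1 := by
    rw [hcoe, Matrix.trace_fin_two]; simp; linear_combination ht - h2
  have hh3 : h ^ 3 = 1 := by
    have e := CfsgLib.LinearElements.two_sq_eq (h : Matrix (Fin 2) (Fin 2) F)
    rw [htr, h.2, one_smul, one_smul] at e
    rw [pow_succ, sq]
    apply Subtype.ext
    show (h : Matrix (Fin 2) (Fin 2) F) * h * h = 1
    rw [e, sub_mul, one_mul, e]
    have hneg : ∀ N : Matrix (Fin 2) (Fin 2) F, -N = N := fun N => by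
      ext i j; exact CharTwo.neg_eq _
    calc (h : Matrix (Fin 2) (Fin 2) F) - 1 - h = -1 := by abel
      _ = 1 := hneg 1
  refine ⟨QuotientGroup.mk g, ?_⟩
  apply orderOf_eq_prime_pow (p := 3) (n := 1) (hp := ⟨Nat.prime_three⟩)
  · rw [pow_one, ← QuotientGroup.mk_pow, QuotientGroup.eq_one_iff, ← hh,
      Matrix.SpecialLinearGroup.mem_center_iff]
    rintro ⟨r, -, hr⟩
    have := congrFun (congrFun hr 0) 1
    rw [hcoe] at this
    simp at this
    exact hne this.symm
  · rw [show 3 ^ (1 + 1) = 3 * 3 by norm_num, pow_mul, ← QuotientGroup.mk_pow, ← QuotientGroup.mk_pow,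
      ← hh, hh3, QuotientGroup.mk_one]

/-- The diagonal unitary subgroup shows that `(q + 1) ^ 2` divides three times `|PSU₃(q)|`. -/
theorem psu_three_sq_dvd {F : Type*} [Field F] [Fintype F] {q : ℕ} (hq : Fintype.card F = q ^ 2)
    (hqodd : Even q) : (q + 1) ^ 2 ∣ 3 * Nat.card (Cfsg.PSU 3 F q) := by
  classical
  have hq0 : q ≠ 0 := fun e => by
    rw [e] at hq; exact absurd hq (by simp [Fintype.card_ne_zero])
  let μ : Subgroup Fˣ := (powMonoidHom (q + 1)).ker
  have hμ : Nat.card μ = q + 1 := by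
    rw [IsCyclic.card_powMonoidHom_ker, Nat.card_eq_fintype_card, Fintype.card_units, hq]
    refine Nat.gcd_eq_right ⟨q - 1, ?_⟩
    obtain ⟨r, rfl⟩ : ∃ r, q = r + 1 := ⟨q - 1, by omega⟩
    simp; ring_nf; omega
  have hμmem : ∀ a : μ, ((a : Fˣ) : F) * ((a : Fˣ) : F) ^ q = 1 := fun a => by
    have h : (a : Fˣ) ^ (q + 1) = 1 := a.2
    rw [← pow_succ', ← Units.val_pow_eq_pow_val, h, Units.val_one]
  let d : μ × μ → Matrix (Fin 3) (Fin 3) F := fun p =>
    Matrix.diagonal ![((p.1 : Fˣ) : F), ((p.2 : Fˣ) : F), (((p.1 * p.2)⁻¹ : μ) : Fˣ)]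
  have hdet : ∀ p, (d p).det = 1 := fun p => by
    have h : ((p.1 * p.2)⁻¹ : μ) * (p.1 * p.2) = 1 := inv_mul_cancel _
    have h' := congrArg (fun z : μ => ((z : Fˣ) : F)) h
    simp only [Subgroup.coe_mul, Units.val_mul, Subgroup.coe_one, Units.val_one] at h'
    simp only [d, Matrix.det_diagonal, Fin.prod_univ_three]
    simp only [Matrix.cons_val_zero, Matrix.cons_val_one, Matrix.cons_val_two, Matrix.head_cons,
      Matrix.tail_cons, Matrix.cons_val]
    linear_combination h'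
  have hd : ∀ p u v, Cfsg.hermForm 3 F q ((d p).mulVec u) ((d p).mulVec v) = Cfsg.hermForm 3 F q u v := by
    intro p u v
    simp only [Cfsg.hermForm, d, Matrix.mulVec_diagonal, mul_pow]
    refine Finset.sum_congr rfl fun i _ => ?_
    rw [mul_mul_mul_comm]
    have h3 := hμmem (p.1 * p.2)⁻¹
    simp at h3
    fin_cases i <;> simp [hμmem, h3]
  have hmemd : ∀ p, (⟨d p, hdet p⟩ : Matrix.SpecialLinearGroup (Fin 3) F) ∈ Cfsg.SU 3 F q :=
    fun p u v => hd p u v
  let ψ : μ × μ →* Cfsg.SU 3 F q :=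
    { toFun := fun p => ⟨⟨d p, hdet p⟩, hmemd p⟩
      map_one' := by
        apply Subtype.ext; apply Subtype.ext
        show d 1 = 1
        simp only [d]
        rw [← Matrix.diagonal_one]
        congr 1
        funext i; fin_cases i <;> simp
      map_mul' := fun a b => by
        apply Subtype.ext; apply Subtype.ext
        show d (a * b) = d a * d b
        simp only [d, Matrix.diagonal_mul_diagonal]
        congr 1
        funext i; fin_cases i <;> simp <;> ring }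
  -- the cyclic permutation matrix
  let C : Matrix (Fin 3) (Fin 3) F := !![0, 1, 0; 0, 0, 1; 1, 0, 0]
  have hC : (⟨C, by simp [C, Matrix.det_fin_three]⟩ : Matrix.SpecialLinearGroup (Fin 3) F) ∈ Cfsg.SU 3 F q := by
    intro u v
    show Cfsg.hermForm 3 F q (C.mulVec u) (C.mulVec v) = Cfsg.hermForm 3 F q u v
    simp [Cfsg.hermForm, C, Matrix.mulVec, dotProduct, Fin.sum_univ_three]
    ring
  set θ := (QuotientGroup.mk' (Subgroup.center (Cfsg.SU 3 F q))).comp ψ with hθ
  have hker : Nat.card θ.ker ≤ 3 := by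
    haveI : Fintype (rootsOfUnity 3 F) := Fintype.ofFinite _
    have hmapto : ∀ p : θ.ker, ((p.1.1 : Fˣ)) ∈ rootsOfUnity 3 F ∧ p.1.2 = p.1.1 := by
      rintro ⟨⟨a, b⟩, hp⟩
      have hcen : ψ (a, b) ∈ Subgroup.center (Cfsg.SU 3 F q) := (QuotientGroup.eq_one_iff _).1 hp
      have h := congrArg (fun z : Cfsg.SU 3 F q => ((z : Matrix.SpecialLinearGroup (Fin 3) F) : Matrix (Fin 3) (Fin 3) F))
        (Subgroup.mem_center_iff.1 hcen ⟨_, hC⟩)
      have h' : C * d (a, b) = d (a, b) * C := h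
      have e01 := congrFun (congrFun h' 0) 1
      have e12 := congrFun (congrFun h' 1) 2
      simp [C, d, Matrix.mul_apply, Fin.sum_univ_three, Matrix.diagonal] at e01 e12
      have hab : b = a := Subtype.ext (Units.ext e01)
      refine ⟨?_, hab⟩
      subst hab
      rw [mem_rootsOfUnity']
      have h1 := hdet (b, b)
      simp only [d, Matrix.det_diagonal, Fin.prod_univ_three] at h1
      simp at h1 e12 ⊢
      field_simp at e12 ⊢
      linear_combination -e12
    refine le_trans (Nat.card_le_card_of_injective (fun p : θ.ker => (⟨_, (hmapto p).1⟩ : rootsOfUnity 3 F)) ?_) ?_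
    · intro p p' h
      have h1 : p.1.1 = p'.1.1 := Subtype.ext (congrArg (fun z : rootsOfUnity 3 F => (z : Fˣ)) h)
      exact Subtype.ext (Prod.ext h1 (by rw [(hmapto p).2, (hmapto p').2, h1]))
    · exact card_rootsOfUnity F 3
  have hmul : Nat.card θ.ker * Nat.card θ.range = (q + 1) ^ 2 := by
    rw [← Subgroup.index_ker, Subgroup.card_mul_index, Nat.card_prod, hμ, sq]
  have hk3 : Nat.card θ.ker ∣ 3 := by
    have hpos : 0 < Nat.card θ.ker := Nat.card_pos
    have hodd : Odd ((q + 1) ^ 2) := (hqodd.add_one).pow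
    have := Odd.of_dvd_nat hodd ⟨_, hmul.symm⟩
    interval_cases (Nat.card θ.ker) <;> simp_all [Nat.odd_iff]
  rw [← hmul]
  exact Nat.mul_dvd_mul hk3 (Subgroup.card_subgroup_dvd_card _)

end CfsgLib.Inv53
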