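import Cfsg.Agent.ZStar.ThirdMain
import Cfsg.Agent.BlocksLocal.Support
import Cfsg.Agent.Characters.GL23.Count
import Cfsg.Agent.Characters.Generalized
import Cfsg.Agent.Characters.Linear
import Cfsg.Agent.PrincipalBlock.Basic

/-!
# Characters induced from the section of an involution with centralizer of type `O.(C2 × A4)`

`ASection G` records an involution `a` whose centralizer `C` has a subgroup `Y` of index 4 with
`Y/O` cyclic of order 6, with two linear functions `m` (values `±1`, `m a = -1`) and `l` (cube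
roots of unity).  The functions `l ^ i * (1 - m)` on `Y` live on the section of `a`; the
generalized characters they induce give a contradiction in a simple group with an elementary
abelian subgroup of order 8 all whose involutions are conjugate (`ASection.false_of_simple`).
-/

set_option autoImplicit false
set_option linter.unusedSectionVars false
set_option linter.style.haveILetI false

namespace CfsgLib.Inv53

open Cfsg CfsgLib.Characters
open scoped ComplexConjugate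

universe u

/-- The data at an involution. -/
structure ASection (G : Type u) [Group G] where
  a : G
  r : G
  O : Subgroup G
  Y : Subgroup G
  l : G → ℂ
  m : G → ℂ
  ha : orderOf a = 2
  inv_conj : ∀ t : G, orderOf t = 2 → IsConj t a
  not_four : ∀ h : G, ¬ 4 ∣ orderOf h
  Y_le : Y ≤ Subgroup.centralizer ({a} : Set G)
  O_le : O ≤ Y
  O_conj : ∀ g ∈ Subgroup.centralizer ({a} : Set G), ∀ z ∈ O, g⁻¹ * z * g ∈ O
  O_odd : Odd (Nat.card O)
  a_mem : a ∈ Y
  r_mem : r ∈ Y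
  l_mul : ∀ x ∈ Subgroup.centralizer ({a} : Set G), ∀ y ∈ Subgroup.centralizer ({a} : Set G),
    l (x * y) = l x * l y
  m_mul : ∀ x ∈ Subgroup.centralizer ({a} : Set G), ∀ y ∈ Subgroup.centralizer ({a} : Set G),
    m (x * y) = m x * m y
  l_O : ∀ z ∈ O, l z = 1
  m_O : ∀ z ∈ O, m z = 1
  l_a : l a = 1
  m_a : m a = -1
  l_r : l r ≠ 1
  m_r : m r = 1
  m_sq : ∀ x ∈ Subgroup.centralizer ({a} : Set G), m x = 1 ∨ m x = -1
  l_cube : ∀ x ∈ Subgroup.centralizer ({a} : Set G), l x ^ 3 = 1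
  ker_Y : ∀ x ∈ Y, m x = 1 → l x = 1 → x ∈ O
  stab : ∀ x ∈ Y, l x ≠ 1 → ∀ g ∈ Subgroup.centralizer ({a} : Set G), g⁻¹ * x * g ∈ Y → g ∈ Y
  card_C : Nat.card (Subgroup.centralizer ({a} : Set G)) = 4 * Nat.card Y
  conj_Y : ∀ h ∈ Subgroup.centralizer ({a} : Set G), Odd (orderOf h) →
    ∃ g ∈ Subgroup.centralizer ({a} : Set G), g⁻¹ * h * g ∈ Y

namespace ASection

variable {G : Type u} [Group G] (D : ASection G)

/-- The centralizer of `a`. -/
abbrev C : Subgroup G := Subgroup.centralizer ({D.a} : Set G)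

theorem mem_C_iff {g : G} : g ∈ D.C ↔ g * D.a = D.a * g :=
  Subgroup.mem_centralizer_singleton_iff

theorem a_sq : D.a * D.a = 1 := by
  have := pow_orderOf_eq_one D.a
  rwa [D.ha, sq] at this

theorem a_inv : D.a⁻¹ = D.a := inv_eq_of_mul_eq_one_right D.a_sq

theorem a_C : D.a ∈ D.C := D.Y_le D.a_mem
theorem r_C : D.r ∈ D.C := D.Y_le D.r_mem

theorem l_one : D.l 1 = 1 := D.l_O 1 D.O.one_mem
theorem m_one : D.m 1 = 1 := D.m_O 1 D.O.one_mem

/-- `l` on the centralizer, as a homomorphism. -/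
def lHom : D.C →* ℂ where
  toFun x := D.l x
  map_one' := D.l_one
  map_mul' x y := D.l_mul x x.2 y y.2

/-- `m` on the centralizer, as a homomorphism. -/
def mHom : D.C →* ℂ where
  toFun x := D.m x
  map_one' := D.m_one
  map_mul' x y := D.m_mul x x.2 y y.2

theorem l_pow {x : G} (hx : x ∈ D.C) (k : ℕ) : D.l (x ^ k) = D.l x ^ k :=
  map_pow D.lHom ⟨x, hx⟩ k

theorem m_pow {x : G} (hx : x ∈ D.C) (k : ℕ) : D.m (x ^ k) = D.m x ^ k :=
  map_pow D.mHom ⟨x, hx⟩ k

theorem l_conj {x g : G} (hx : x ∈ D.C) (hg : g ∈ D.C) : D.l (g⁻¹ * x * g) = D.l x := by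
  rw [D.l_mul _ (mul_mem (inv_mem hg) hx) g hg, D.l_mul _ (inv_mem hg) x hx,
    mul_comm (D.l g⁻¹), mul_assoc, ← D.l_mul _ (inv_mem hg) g hg, inv_mul_cancel, D.l_one, mul_one]

theorem m_conj {x g : G} (hx : x ∈ D.C) (hg : g ∈ D.C) : D.m (g⁻¹ * x * g) = D.m x := by
  rw [D.m_mul _ (mul_mem (inv_mem hg) hx) g hg, D.m_mul _ (inv_mem hg) x hx,
    mul_comm (D.m g⁻¹), mul_assoc, ← D.m_mul _ (inv_mem hg) g hg, inv_mul_cancel, D.m_one, mul_one]

/-- The cube root of unity. -/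
def om : ℂ := D.l D.r

theorem om_cube : D.om ^ 3 = 1 := D.l_cube _ D.r_C

theorem om_sum : 1 + D.om + D.om ^ 2 = 0 := by
  have h : (D.om - 1) * (1 + D.om + D.om ^ 2) = 0 := by linear_combination D.om_cube
  exact (mul_eq_zero.1 h).resolve_left (sub_ne_zero.2 D.l_r)

theorem conj_om : conj D.om = D.om ^ 2 := by
  have hn : ‖D.om‖ = 1 := Complex.norm_eq_one_of_pow_eq_one D.om_cube three_ne_zero
  rw [← Complex.inv_eq_conj hn]
  exact inv_eq_of_mul_eq_one_right (by rw [← pow_succ']; exact D.om_cube)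

theorem om_pow_mod (e : ℕ) : D.om ^ e = D.om ^ (e % 3) := by
  conv_lhs => rw [← Nat.mod_add_div e 3, pow_add, pow_mul, D.om_cube, one_pow, mul_one]

theorem om_pow_sum (e : ℕ) : D.om ^ e + D.om ^ (2 * e) = if e % 3 = 0 then 2 else -1 := by
  rw [D.om_pow_mod e, D.om_pow_mod (2 * e), Nat.mul_mod]
  have h3 : e % 3 < 3 := Nat.mod_lt _ (by norm_num)
  have hs := D.om_sum
  interval_cases h : e % 3
  · norm_num
  · norm_num
    linear_combination hs
  · norm_num
    linear_combination hs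

/-- A transversal of `O` in the part of `Y` where `m = -1`, and its complement. -/
def rep (i k : ℕ) (z : D.O) : D.Y :=
  ⟨D.a ^ i * D.r ^ k * z, mul_mem (mul_mem (pow_mem D.a_mem i) (pow_mem D.r_mem k)) (D.O_le z.2)⟩

theorem l_rep (i k : ℕ) (z : D.O) : D.l (D.rep i k z) = D.om ^ k := by
  change D.l (D.a ^ i * D.r ^ k * z) = _
  rw [D.l_mul _ (mul_mem (pow_mem D.a_C i) (pow_mem D.r_C k)) _ (D.Y_le (D.O_le z.2)),
    D.l_mul _ (pow_mem D.a_C i) _ (pow_mem D.r_C k), D.l_O _ z.2, D.l_pow D.a_C, D.l_pow D.r_C,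
    D.l_a, one_pow, one_mul, mul_one]
  rfl

theorem m_rep (i k : ℕ) (z : D.O) : D.m (D.rep i k z) = (-1) ^ i := by
  change D.m (D.a ^ i * D.r ^ k * z) = _
  rw [D.m_mul _ (mul_mem (pow_mem D.a_C i) (pow_mem D.r_C k)) _ (D.Y_le (D.O_le z.2)),
    D.m_mul _ (pow_mem D.a_C i) _ (pow_mem D.r_C k), D.m_O _ z.2, D.m_pow D.a_C, D.m_pow D.r_C,
    D.m_a, D.m_r, one_pow, mul_one, mul_one]

theorem rep_bijective :
    Function.Bijective fun p : D.O × Fin 2 × Fin 3 => D.rep p.2.1 p.2.2 p.1 := by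
  haveI : Fact (Nat.Prime 3) := ⟨Nat.prime_three⟩
  have hord : orderOf D.om = 3 := orderOf_eq_prime D.om_cube D.l_r
  constructor
  · rintro ⟨z, i, k⟩ ⟨z', i', k'⟩ h
    dsimp only at h
    have hl : D.om ^ (k : ℕ) = D.om ^ (k' : ℕ) := by rw [← D.l_rep i k z, h, D.l_rep]
    have hm : (-1 : ℂ) ^ (i : ℕ) = (-1) ^ (i' : ℕ) := by rw [← D.m_rep i k z, h, D.m_rep]
    have hi : i = i' := by
      fin_cases i <;> fin_cases i' <;> first | rfl | (norm_num at hm)
    have hk : k = k' :=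
      Fin.ext (pow_injOn_Iio_orderOf (by rw [hord]; exact k.2) (by rw [hord]; exact k'.2) hl)
    subst hi hk
    have := congrArg (Subtype.val) h
    simp only [rep, mul_right_inj] at this
    rw [Subtype.ext this]
  · intro x
    obtain ⟨i, hi⟩ : ∃ i : Fin 2, D.m x = (-1) ^ (i : ℕ) := by
      rcases D.m_sq _ (D.Y_le x.2) with h | h
      · exact ⟨0, by simpa using h⟩
      · exact ⟨1, by simpa using h⟩
    obtain ⟨k, hk⟩ : ∃ k : Fin 3, D.l x = D.om ^ (k : ℕ) := by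
      have h : (D.l x - 1) * (D.l x - D.om) * (D.l x - D.om ^ 2) = 0 := by
        linear_combination D.l_cube _ (D.Y_le x.2) - D.om_cube - (D.l x ^ 2 - D.om * D.l x) * D.om_sum
      rcases mul_eq_zero.1 h with h | h
      · rcases mul_eq_zero.1 h with h | h
        · exact ⟨0, by simpa using sub_eq_zero.1 h⟩
        · exact ⟨1, by simpa using sub_eq_zero.1 h⟩
      · exact ⟨2, by simpa using sub_eq_zero.1 h⟩
    set u : G := D.a ^ (i : ℕ) * D.r ^ (k : ℕ) with hu
    have huY : u ∈ D.Y := mul_mem (pow_mem D.a_mem _) (pow_mem D.r_mem _)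
    have hv : u⁻¹ * x ∈ D.Y := mul_mem (inv_mem huY) x.2
    have hlu : D.l u = D.om ^ (k : ℕ) := by simpa [rep] using D.l_rep i k 1
    have hmu : D.m u = (-1) ^ (i : ℕ) := by simpa [rep] using D.m_rep i k 1
    have hml : D.m (u⁻¹ * x) = 1 := by
      have h := D.m_mul u (D.Y_le huY) _ (D.Y_le hv)
      rw [mul_inv_cancel_left, hi, hmu, eq_comm] at h
      exact (mul_eq_left₀ (pow_ne_zero _ (by norm_num))).1 h
    have hll : D.l (u⁻¹ * x) = 1 := by
      have h := D.l_mul u (D.Y_le huY) _ (D.Y_le hv)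
      rw [mul_inv_cancel_left, hk, hlu, eq_comm] at h
      exact (mul_eq_left₀ (pow_ne_zero _ fun h0 => by simpa [h0] using D.om_cube)).1 h
    exact ⟨⟨⟨_, D.ker_Y _ hv hml hll⟩, i, k⟩, Subtype.ext (mul_inv_cancel_left u (x : G))⟩

theorem card_Y : Nat.card D.Y = 6 * Nat.card D.O := by
  rw [← Nat.card_eq_of_bijective _ D.rep_bijective]
  simp only [Nat.card_prod, Nat.card_eq_fintype_card (α := Fin _), Fintype.card_fin]
  ring

/-- Sums over `Y` of functions supported where `m = -1`. -/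
theorem sum_Y [Fintype D.Y] [Fintype D.O] (F : D.Y → ℂ) (hF : ∀ x : D.Y, D.m x = 1 → F x = 0) :
    ∑ x, F x = ∑ z : D.O, (F (D.rep 1 0 z) + F (D.rep 1 1 z) + F (D.rep 1 2 z)) := by
  rw [← D.rep_bijective.sum_comp, Fintype.sum_prod_type]
  refine Finset.sum_congr rfl fun z _ => ?_
  have h0 : ∀ k, F (D.rep 0 k z) = 0 := fun k => hF _ (by rw [D.m_rep, pow_zero])
  simp [Fintype.sum_prod_type, Fin.sum_univ_succ, h0, add_assoc]

/-- The section of `a` in `Y`. -/
def Supp (x : G) : Prop := x ∈ D.Y ∧ D.m x = -1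

theorem supp_rep (k : ℕ) (z : D.O) : D.Supp (D.rep 1 k z) :=
  ⟨(D.rep 1 k z).2, by rw [D.m_rep, pow_one]⟩

theorem supp_a : D.Supp D.a := ⟨D.a_mem, D.m_a⟩

/-- An odd exponent killing the odd part of the section. -/
noncomputable def expo : ℕ := 3 * Nat.card D.O

theorem odd_expo : Odd D.expo := Odd.mul ⟨1, rfl⟩ D.O_odd

theorem pow_expo {x : G} (hx : D.Supp x) : x ^ D.expo = D.a := by
  have hxC := D.Y_le hx.1
  have hu : (D.a * x) ^ 3 ∈ D.O := by
    refine D.ker_Y _ (pow_mem (mul_mem D.a_mem hx.1) 3) ?_ ?_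
    · rw [D.m_pow (mul_mem D.a_C hxC), D.m_mul _ D.a_C _ hxC, D.m_a, hx.2]
      norm_num
    · rw [D.l_pow (mul_mem D.a_C hxC)]
      exact D.l_cube _ (mul_mem D.a_C hxC)
  have h1 : (D.a * x) ^ D.expo = 1 := by
    rw [expo, pow_mul]
    have := pow_card_eq_one' (G := D.O) (x := ⟨_, hu⟩)
    exact congrArg Subtype.val this
  have hc : Commute D.a x := (D.mem_C_iff.1 hxC).symm
  obtain ⟨k, hk⟩ := D.odd_expo
  have ha : D.a ^ D.expo = D.a := by
    rw [hk, pow_succ, pow_mul, sq, D.a_sq, one_pow, one_mul]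
  rw [hc.mul_pow, ha] at h1
  rw [← D.a_inv]
  exact eq_inv_of_mul_eq_one_right h1

theorem mem_C_of_supp {x g : G} (hx : D.Supp x) (hg : D.Supp (g⁻¹ * x * g)) : g ∈ D.C := by
  have h := D.pow_expo hg
  have e : (g⁻¹ * x * g) ^ D.expo = g⁻¹ * x ^ D.expo * g := by
    simpa using conj_pow (a := g⁻¹) (b := x) (i := D.expo)
  rw [e, D.pow_expo hx] at h
  rw [D.mem_C_iff]
  calc g * D.a = g * (g⁻¹ * D.a * g) := by rw [h]
    _ = D.a * g := by group

theorem two_dvd_of_supp {x : G} (hx : D.Supp x) : 2 ∣ orderOf x := by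
  rw [← D.ha, ← D.pow_expo hx]
  exact orderOf_pow_dvd _

theorem exists_conj_supp [Finite G] {h : G} (hh : 2 ∣ orderOf h) :
    ∃ g : G, D.Supp (g⁻¹ * h * g) := by
  obtain ⟨n, hn⟩ := hh
  have hn0 : 0 < n := by
    have := orderOf_pos h
    omega
  have hodd : Odd n := by
    by_contra hev
    obtain ⟨k, rfl⟩ := Nat.not_odd_iff_even.1 hev
    exact D.not_four h ⟨k, by rw [hn]; ring⟩
  have ht : orderOf (h ^ n) = 2 := by
    rw [orderOf_pow, hn, Nat.gcd_mul_left_left, Nat.mul_div_cancel _ hn0]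
  obtain ⟨c, hc⟩ := isConj_iff.1 (D.inv_conj _ ht)
  set h' := c * h * c⁻¹ with hh'
  have hpow : h' ^ n = D.a := by rw [hh', conj_pow, hc]
  have hC : h' ∈ D.C := by
    rw [D.mem_C_iff, ← hpow]
    exact (Commute.self_pow h' n).eq
  have hu : (D.a * h') ^ n = 1 := by
    obtain ⟨k, hk⟩ := hodd
    rw [(show Commute D.a h' from (D.mem_C_iff.1 hC).symm).mul_pow, hpow, hk, pow_succ, pow_mul, sq,
      D.a_sq, one_pow, one_mul, D.a_sq]
  have huodd : Odd (orderOf (D.a * h')) := hodd.of_dvd_nat (orderOf_dvd_of_pow_eq_one hu)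
  obtain ⟨g, hg, hY⟩ := D.conj_Y _ (mul_mem D.a_C hC) huodd
  have hga : g⁻¹ * h' * g = D.a * (g⁻¹ * (D.a * h') * g) := by
    have e : D.a * g⁻¹ = g⁻¹ * D.a :=
      ((show Commute g D.a from D.mem_C_iff.1 hg).inv_left).eq.symm
    calc g⁻¹ * h' * g = g⁻¹ * (D.a * D.a) * h' * g := by rw [D.a_sq, mul_one]
      _ = (g⁻¹ * D.a) * (D.a * h') * g := by group
      _ = (D.a * g⁻¹) * (D.a * h') * g := by rw [e]
      _ = _ := by group
  have hm1 : D.m (D.a * h') = 1 := by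
    rcases D.m_sq _ (mul_mem D.a_C hC) with h1 | h1
    · exact h1
    · have := D.m_pow (mul_mem D.a_C hC) n
      rw [hu, D.m_one, h1, hodd.neg_one_pow] at this
      norm_num at this
  refine ⟨c⁻¹ * g, ?_⟩
  rw [show (c⁻¹ * g)⁻¹ * h * (c⁻¹ * g) = g⁻¹ * h' * g by rw [hh']; group]
  refine ⟨by rw [hga]; exact mul_mem D.a_mem hY, ?_⟩
  rw [D.m_conj hC hg]
  have := D.m_mul _ D.a_C _ hC
  rw [hm1, D.m_a] at this
  linear_combination this

/-- The function `l ^ i * (1 - m)` on `Y`. -/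
def psi (i : ℕ) : D.Y → ℂ := fun x => D.l x ^ i * (1 - D.m x)

theorem isGen_psi (i : ℕ) : Cfsg.IsGeneralizedCharacter D.Y (D.psi i) := by
  let f : D.Y →* ℂˣ := (D.lHom.comp (Subgroup.inclusion D.Y_le)).toHomUnits ^ i
  let g : D.Y →* ℂˣ := f * (D.mHom.comp (Subgroup.inclusion D.Y_le)).toHomUnits
  have h : D.psi i = (fun x => (f x : ℂ)) - fun x => (g x : ℂ) := by
    funext x
    simp [psi, f, g, lHom, mHom, mul_sub]
  rw [h]
  exact isGen_sub (isGen_of_isIrr (isIrr_linChar f)) (isGen_of_isIrr (isIrr_linChar g))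

variable [Fintype G]

/-- The induced generalized character. -/
noncomputable def tau (i : ℕ) : G → ℂ := Cfsg.indFun D.Y (D.psi i)

theorem isGen_tau (i : ℕ) : Cfsg.IsGeneralizedCharacter G (D.tau i) :=
  isGen_indFun _ (D.isGen_psi i)

theorem isClass_tau (i : ℕ) : Cfsg.IsClassFunction G (D.tau i) := isClassFunction_indFun _ _

theorem tau_conj (i : ℕ) (h g : G) : D.tau i (g⁻¹ * h * g) = D.tau i h := by
  simpa using D.isClass_tau i h g⁻¹

/-- The multiplier of the induction. -/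
noncomputable def fac (x : G) : ℂ :=
  open Classical in if D.l x = 1 then 4 else 1

theorem tau_supp {x : G} (hx : D.Supp x) (i : ℕ) :
    D.tau i x = D.fac x * (2 * D.l x ^ i) := by
  classical
  have hxC := D.Y_le hx.1
  have hterm : ∀ g : G, Cfsg.extendByZero D.Y (D.psi i) (g⁻¹ * x * g) =
      if g ∈ D.C ∧ g⁻¹ * x * g ∈ D.Y then 2 * D.l x ^ i else 0 := by
    intro g
    by_cases hY : g⁻¹ * x * g ∈ D.Y
    · rw [extendByZero_of_mem D.Y _ hY]
      change D.l (g⁻¹ * x * g) ^ i * (1 - D.m (g⁻¹ * x * g)) = _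
      by_cases hg : g ∈ D.C
      · rw [if_pos ⟨hg, hY⟩, D.l_conj hxC hg, D.m_conj hxC hg, hx.2]
        ring
      · rw [if_neg fun h => hg h.1]
        rcases D.m_sq _ (D.Y_le hY) with h | h
        · rw [h, sub_self, mul_zero]
        · exact absurd (D.mem_C_of_supp hx ⟨hY, h⟩) hg
    · rw [extendByZero_of_not_mem D.Y _ hY, if_neg fun h => hY h.2]
  rw [tau, Cfsg.indFun, Finset.sum_congr rfl fun g _ => hterm g, ← Finset.sum_filter,
    Finset.sum_const, nsmul_eq_mul, ← Fintype.card_subtype, ← Nat.card_eq_fintype_card, fac]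
  have h0 : (Nat.card D.Y : ℂ) ≠ 0 := subgroup_card_ne_zero _
  by_cases hl : D.l x = 1
  · have hax : D.a * x ∈ D.O := by
      refine D.ker_Y _ (mul_mem D.a_mem hx.1) ?_ ?_
      · rw [D.m_mul _ D.a_C _ hxC, D.m_a, hx.2]; norm_num
      · rw [D.l_mul _ D.a_C _ hxC, D.l_a, hl, one_mul]
    have hall : ∀ g ∈ D.C, g⁻¹ * x * g ∈ D.Y := by
      intro g hg
      have e : D.a * g⁻¹ = g⁻¹ * D.a :=
        ((show Commute g D.a from D.mem_C_iff.1 hg).inv_left).eq.symm
      have : g⁻¹ * x * g = D.a * (g⁻¹ * (D.a * x) * g) := by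
        calc g⁻¹ * x * g = g⁻¹ * (D.a * D.a) * x * g := by rw [D.a_sq, mul_one]
          _ = (g⁻¹ * D.a) * (D.a * x) * g := by group
          _ = (D.a * g⁻¹) * (D.a * x) * g := by rw [e]
          _ = _ := by group
      rw [this]
      exact mul_mem D.a_mem (D.O_le (D.O_conj g hg _ hax))
    rw [if_pos hl, Nat.card_congr (Equiv.subtypeEquivRight fun g =>
      (⟨fun h => h.1, fun h => ⟨h, hall g h⟩⟩ : (g ∈ D.C ∧ g⁻¹ * x * g ∈ D.Y) ↔ g ∈ D.C)),
      D.card_C]
    push_cast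
    field_simp
  · rw [if_neg hl, Nat.card_congr (Equiv.subtypeEquivRight fun g =>
      (⟨fun h => D.stab x hx.1 hl g h.1 h.2,
        fun h => ⟨D.Y_le h, mul_mem (mul_mem (inv_mem h) hx.1) h⟩⟩ :
          (g ∈ D.C ∧ g⁻¹ * x * g ∈ D.Y) ↔ g ∈ D.Y))]
    field_simp

theorem tau_regular (i : ℕ) {g : G} (hg : ¬ 2 ∣ orderOf g) : D.tau i g = 0 := by
  classical
  rw [tau, Cfsg.indFun, Finset.sum_eq_zero, mul_zero]
  intro x _
  by_cases hY : x⁻¹ * g * x ∈ D.Y
  · rw [extendByZero_of_mem D.Y _ hY]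
    change D.l (x⁻¹ * g * x) ^ i * (1 - D.m (x⁻¹ * g * x)) = 0
    rcases D.m_sq _ (D.Y_le hY) with h | h
    · rw [h, sub_self, mul_zero]
    · refine absurd ?_ hg
      have := D.two_dvd_of_supp ⟨hY, h⟩
      rwa [show orderOf (x⁻¹ * g * x) = orderOf g by
        simpa using (MulAut.conj x⁻¹).orderOf_eq g] at this
  · exact extendByZero_of_not_mem D.Y _ hY

theorem tau_one (i : ℕ) : D.tau i 1 = 0 :=
  D.tau_regular i (by simp)

theorem psi_rep (i k : ℕ) (z : D.O) : D.psi i (D.rep 1 k z) = 2 * D.om ^ (k * i) := by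
  rw [psi, D.l_rep, D.m_rep, pow_mul]
  ring

/-- Multiplicities in the induced characters. -/
theorem classInner_tau [Fintype D.O] (i : ℕ) {χ : G → ℂ} (hχ : Cfsg.IsClassFunction G χ) :
    Cfsg.classInner (D.tau i) χ = (3 * (Nat.card D.O : ℂ))⁻¹ * ∑ z : D.O,
      (conj (χ (D.rep 1 0 z : G)) + D.om ^ i * conj (χ (D.rep 1 1 z : G))
        + D.om ^ (2 * i) * conj (χ (D.rep 1 2 z : G))) := by
  classical
  haveI := Fintype.ofFinite D.Y
  rw [tau, classInner_indFun D.Y _ hχ, Cfsg.classInner,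
    D.sum_Y _ (fun x hx => by simp [psi, hx]), D.card_Y]
  simp only [psi_rep, zero_mul, pow_zero, one_mul, mul_one, Finset.mul_sum]
  refine Finset.sum_congr rfl fun z _ => ?_
  have h0 : (Nat.card D.O : ℂ) ≠ 0 := subgroup_card_ne_zero _
  push_cast
  field_simp
  ring

theorem classInner_tau_tau (i j : ℕ) :
    Cfsg.classInner (D.tau i) (D.tau j) = if (i + 2 * j) % 3 = 0 then 4 else 2 := by
  classical
  haveI := Fintype.ofFinite D.O
  have h1 : D.om ≠ 1 := D.l_r
  have h2 : D.om ^ 2 ≠ 1 := fun h => h1 <| by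
    have := D.om_cube
    rwa [pow_succ, h, one_mul] at this
  have hv : ∀ (k : ℕ) (z : D.O), conj (D.tau j (D.rep 1 k z : G)) =
      conj (D.fac (D.rep 1 k z : G)) * (2 * D.om ^ (2 * k * j)) := by
    intro k z
    rw [D.tau_supp (D.supp_rep k z), D.l_rep, map_mul, map_mul, map_pow, map_pow, map_ofNat,
      D.conj_om, ← pow_mul, ← pow_mul, mul_assoc 2]
  have hf : ∀ z : D.O, D.fac (D.rep 1 0 z : G) = 4 ∧ D.fac (D.rep 1 1 z : G) = 1 ∧
      D.fac (D.rep 1 2 z : G) = 1 := fun z => by simp [fac, D.l_rep, h1, h2]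
  have hs := D.om_pow_sum (i + 2 * j)
  have e : D.om ^ (2 * (i + 2 * j)) = D.om ^ (2 * i) * D.om ^ (4 * j) := by
    rw [← pow_add]; ring_nf
  rw [e, pow_add] at hs
  rw [D.classInner_tau i (D.isClass_tau j)]
  simp only [hv, (hf _).1, (hf _).2.1, (hf _).2.2, map_one, map_ofNat, Finset.sum_const,
    Finset.card_univ, ← Nat.card_eq_fintype_card, nsmul_eq_mul, one_mul, zero_mul, mul_zero,
    mul_one, pow_zero]
  have h0 : (Nat.card D.O : ℂ) ≠ 0 := subgroup_card_ne_zero _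
  field_simp
  split_ifs at hs ⊢ <;> linear_combination 2 * hs

theorem classInner_tau_one (i : ℕ) :
    Cfsg.classInner (D.tau i) (fun _ => (1 : ℂ)) = if i % 3 = 0 then 1 else 0 := by
  classical
  haveI := Fintype.ofFinite D.O
  rw [D.classInner_tau i (χ := fun _ => (1 : ℂ)) (fun _ _ => rfl)]
  simp only [map_one, mul_one, Finset.sum_const, Finset.card_univ, ← Nat.card_eq_fintype_card,
    nsmul_eq_mul]
  have h0 : (Nat.card D.O : ℂ) ≠ 0 := subgroup_card_ne_zero _
  have hs := D.om_pow_sum i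
  field_simp
  split_ifs at hs ⊢ <;> linear_combination hs

theorem classInner_tau_sum {χ : G → ℂ} (hχ : Cfsg.IsClassFunction G χ)
    (hv : ∀ z ∈ D.O, χ (D.a * z) = χ D.a) :
    Cfsg.classInner (D.tau 0) χ + Cfsg.classInner (D.tau 1) χ + Cfsg.classInner (D.tau 2) χ
      = conj (χ D.a) := by
  classical
  haveI := Fintype.ofFinite D.O
  rw [D.classInner_tau 0 hχ, D.classInner_tau 1 hχ, D.classInner_tau 2 hχ, ← mul_add, ← mul_add,
    ← Finset.sum_add_distrib, ← Finset.sum_add_distrib]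
  have hterm : ∀ z : D.O,
      (conj (χ (D.rep 1 0 z : G)) + D.om ^ 0 * conj (χ (D.rep 1 1 z : G))
          + D.om ^ (2 * 0) * conj (χ (D.rep 1 2 z : G))) +
        (conj (χ (D.rep 1 0 z : G)) + D.om ^ 1 * conj (χ (D.rep 1 1 z : G))
          + D.om ^ (2 * 1) * conj (χ (D.rep 1 2 z : G))) +
        (conj (χ (D.rep 1 0 z : G)) + D.om ^ 2 * conj (χ (D.rep 1 1 z : G))
          + D.om ^ (2 * 2) * conj (χ (D.rep 1 2 z : G))) = 3 * conj (χ D.a) := by
    intro z
    have e : conj (χ (D.rep 1 0 z : G)) = conj (χ D.a) := by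
      simp [rep, hv z z.2]
    rw [e]
    linear_combination (conj (χ (D.rep 1 1 z : G)) + conj (χ (D.rep 1 2 z : G))) * D.om_sum +
      D.om * conj (χ (D.rep 1 2 z : G)) * D.om_cube
  rw [Finset.sum_congr rfl fun z _ => hterm z, Finset.sum_const, Finset.card_univ,
    ← Nat.card_eq_fintype_card, nsmul_eq_mul]
  have h0 : (Nat.card D.O : ℂ) ≠ 0 := subgroup_card_ne_zero _
  field_simp

/-- `3 τ₀ - τ₁ - τ₂` is eight times the indicator of the 2-singular elements. -/
theorem three_tau (g : G) :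
    3 * D.tau 0 g - D.tau 1 g - D.tau 2 g = if 2 ∣ orderOf g then 8 else 0 := by
  split_ifs with h
  · obtain ⟨c, hc⟩ := D.exists_conj_supp h
    rw [← D.tau_conj 0 g c, ← D.tau_conj 1 g c, ← D.tau_conj 2 g c, D.tau_supp hc, D.tau_supp hc,
      D.tau_supp hc, fac]
    by_cases hl : D.l (c⁻¹ * g * c) = 1
    · rw [if_pos hl, hl]; norm_num
    · rw [if_neg hl]
      have h3 := D.l_cube _ (D.Y_le hc.1)
      have hs : 1 + D.l (c⁻¹ * g * c) + D.l (c⁻¹ * g * c) ^ 2 = 0 :=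
        (mul_eq_zero.1 (show (D.l (c⁻¹ * g * c) - 1) * (1 + D.l (c⁻¹ * g * c) +
          D.l (c⁻¹ * g * c) ^ 2) = 0 by linear_combination h3)).resolve_left (sub_ne_zero.2 hl)
      linear_combination (-2 : ℂ) * hs
  · rw [D.tau_regular 0 h, D.tau_regular 1 h, D.tau_regular 2 h]; norm_num

end ASection

end CfsgLib.Inv53
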