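import Cfsg.Agent.Inv53.ASection

/-!
# The contradiction from an `ASection`

`ASection.false_of_simple`: a finite simple group with an elementary abelian subgroup of order 8
through `a` has no `ASection` at `a`.  The three non-principal constituents of `τ₀ - τ₁` lie in
the principal 2-block, are constant on `a O`, and the count of products of two conjugates of `a`
contradicts the congruences of their values on the subgroup of order 8.
-/

set_option autoImplicit false
set_option linter.unusedSectionVars false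
set_option linter.style.haveILetI false

namespace CfsgLib.Inv53

open Cfsg CfsgLib.Characters
open scoped ComplexConjugate

universe u

variable {G : Type u} [Group G] [Fintype G]

/-- A generalized character of norm 4 vanishing at `1` has multiplicities `0, 1, -1`. -/
theorem coeff_small {θ : G → ℂ} (hθ : Cfsg.IsGeneralizedCharacter G θ)
    (hn : Cfsg.classInner θ θ = 4) (h1 : θ 1 = 0) (c : Cfsg.IrrCharacter G → ℤ)
    (hc : ∀ χ : Cfsg.IrrCharacter G, Cfsg.classInner θ (χ : G → ℂ) = c χ)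
    (χ : Cfsg.IrrCharacter G) : -1 ≤ c χ ∧ c χ ≤ 1 := by
  classical
  have hcl := isClassFunction_of_isGen hθ
  have hsq : ∑ ψ, c ψ ^ 2 = 4 := by
    have h := (classInner_self_eq_sum_sq hcl c hc).symm.trans hn
    exact_mod_cast h
  by_contra hbad
  have h4 : 4 ≤ c χ ^ 2 := by
    rcases (show c χ ≤ -2 ∨ 2 ≤ c χ by omega) with h | h <;> nlinarith
  have hrest : ∀ ψ, ψ ≠ χ → c ψ = 0 := by
    intro ψ hψ
    have hle := Finset.sum_le_sum_of_subset_of_nonneg (f := fun η => c η ^ 2)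
      (Finset.subset_univ ({χ, ψ} : Finset (Cfsg.IrrCharacter G))) fun _ _ _ => sq_nonneg _
    rw [Finset.sum_pair hψ.symm, hsq] at hle
    exact pow_eq_zero_iff (n := 2) two_ne_zero |>.1 (le_antisymm (by linarith) (sq_nonneg _))
  have he := congrFun (classFunction_expansion hcl) 1
  rw [Finset.sum_apply, Finset.sum_eq_single χ (fun ψ _ hψ => by simp [hc, hrest ψ hψ]) (by simp),
    Pi.smul_apply, smul_eq_mul, hc, h1, eq_comm, mul_eq_zero] at he
  rcases he with h | h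
  · have : c χ = 0 := by exact_mod_cast h
    omega
  · exact irr_one_ne_zero χ.2 h

/-- The arithmetic at the end. -/
theorem three_term_false {e₁ e₂ e₃ v₁ v₂ v₃ : ℤ} {n₁ n₂ n₃ : ℕ}
    (he₁ : e₁ = 1 ∨ e₁ = -1) (he₂ : e₂ = 1 ∨ e₂ = -1) (he₃ : e₃ = 1 ∨ e₃ = -1)
    (hv₁ : -2 ≤ v₁ ∧ v₁ ≤ 2) (hv₂ : -2 ≤ v₂ ∧ v₂ ≤ 2) (hv₃ : -2 ≤ v₃ ∧ v₃ ≤ 2)
    (hn₁ : 8 + v₁ ≤ n₁ ∧ 0 ≤ (n₁ : ℤ) + 7 * v₁) (hn₂ : 8 + v₂ ≤ n₂ ∧ 0 ≤ (n₂ : ℤ) + 7 * v₂)
    (hn₃ : 8 + v₃ ≤ n₃ ∧ 0 ≤ (n₃ : ℤ) + 7 * v₃)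
    (hlin : 1 + (e₁ * v₁ + e₂ * v₂ + e₃ * v₃) = 0)
    (hquad : (1 : ℝ) + ((e₁ : ℝ) * ((v₁ : ℝ) ^ 2 / (n₁ : ℝ))
      + (e₂ : ℝ) * ((v₂ : ℝ) ^ 2 / (n₂ : ℝ)) + (e₃ : ℝ) * ((v₃ : ℝ) ^ 2 / (n₃ : ℝ))) = 0) :
    False := by
  have key : ∀ (v : ℤ) (n : ℕ), -2 ≤ v ∧ v ≤ 2 → (8 + v ≤ n ∧ 0 ≤ (n : ℤ) + 7 * v) →
      0 ≤ (v : ℝ) ^ 2 / n ∧ (v : ℝ) ^ 2 / n ≤ 2 / 5 ∧
        (v ≠ 2 → v ≠ -2 → (v : ℝ) ^ 2 / n ≤ 1 / 7) := by
    intro v n hv hn
    have hn6 : (6 : ℤ) ≤ n := by omega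
    have hnR : (0 : ℝ) < n := by exact_mod_cast (show 0 < n by omega)
    refine ⟨by positivity, ?_, fun h2 h2' => ?_⟩
    · rw [div_le_div_iff₀ hnR (by norm_num)]
      have h : v ^ 2 * 5 ≤ 2 * (n : ℤ) := by
        rcases (show v = -2 ∨ v = -1 ∨ v = 0 ∨ v = 1 ∨ v = 2 by omega) with h | h | h | h | h <;>
          subst h <;> omega
      exact_mod_cast h
    · rw [div_le_div_iff₀ hnR (by norm_num)]
      have h : v ^ 2 * 7 ≤ 1 * (n : ℤ) := by
        rcases (show v = -1 ∨ v = 0 ∨ v = 1 by omega) with h | h | h <;>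
          subst h <;> omega
      exact_mod_cast h
  obtain ⟨a₁, b₁, c₁⟩ := key v₁ n₁ hv₁ hn₁
  obtain ⟨a₂, b₂, c₂⟩ := key v₂ n₂ hv₂ hn₂
  obtain ⟨a₃, b₃, c₃⟩ := key v₃ n₃ hv₃ hn₃
  have hsmall : (v₁ ≠ 2 ∧ v₁ ≠ -2) ∨ (v₂ ≠ 2 ∧ v₂ ≠ -2) ∨ (v₃ ≠ 2 ∧ v₃ ≠ -2) := by
    rcases he₁ with rfl | rfl <;> rcases he₂ with rfl | rfl <;> rcases he₃ with rfl | rfl <;> omega
  have hlt : (v₁ : ℝ) ^ 2 / n₁ + (v₂ : ℝ) ^ 2 / n₂ + (v₃ : ℝ) ^ 2 / n₃ < 1 := by
    rcases hsmall with ⟨h, h'⟩ | ⟨h, h'⟩ | ⟨h, h'⟩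
    · linarith [c₁ h h']
    · linarith [c₂ h h']
    · linarith [c₃ h h']
  have hge : ∀ (e : ℤ) (q : ℝ), e = 1 ∨ e = -1 → 0 ≤ q → -q ≤ (e : ℝ) * q := by
    intro e q he hq
    rcases he with rfl | rfl <;> push_cast <;> linarith
  linarith [hge _ _ he₁ a₁, hge _ _ he₂ a₂, hge _ _ he₃ a₃]

namespace ASection

variable (D : ASection G)

/-- No product of two conjugates of `a` lies in the part of the section where `l ≠ 1`. -/
theorem count_zero {x : G} (hx : D.Supp x) (hl : D.l x ≠ 1) :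
    ∑ χ : Cfsg.IrrCharacter G,
      (χ : G → ℂ) D.a * (χ : G → ℂ) D.a * (χ : G → ℂ) x / (χ : G → ℂ) 1 = 0 := by
  classical
  have h := card_conj_mul_conj D.a_inv x
  haveI : IsEmpty {p : G × G // p.1 * D.a * p.1⁻¹ * (p.2 * D.a * p.2⁻¹) = x} := by
    refine ⟨fun ⟨⟨p, q⟩, hp⟩ => ?_⟩
    set s := p * D.a * p⁻¹ with hs
    set t := q * D.a * q⁻¹ with ht
    have hs2 : s * s = 1 := by
      rw [hs]
      calc p * D.a * p⁻¹ * (p * D.a * p⁻¹) = p * (D.a * D.a) * p⁻¹ := by group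
        _ = 1 := by rw [D.a_sq]; group
    have ht2 : t * t = 1 := by
      rw [ht]
      calc q * D.a * q⁻¹ * (q * D.a * q⁻¹) = q * (D.a * D.a) * q⁻¹ := by group
        _ = 1 := by rw [D.a_sq]; group
    have hsinv : s⁻¹ = s := inv_eq_of_mul_eq_one_right hs2
    have htx : t = s * x := by
      rw [← hp, ← mul_assoc, hs2, one_mul]
    have hxi : s * x * s⁻¹ = x⁻¹ := by
      rw [← htx, hsinv, ← hp, mul_inv_rev, hsinv, inv_eq_of_mul_eq_one_right ht2]
    have hsC : s ∈ D.C := by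
      have h1 := D.pow_expo hx
      have h2 : s * D.a * s⁻¹ = D.a := by
        rw [← h1, ← conj_pow, hxi, inv_pow, h1, D.a_inv]
      rw [D.mem_C_iff]
      exact mul_inv_eq_iff_eq_mul.1 h2
    have htC : t ∈ D.C := htx ▸ mul_mem hsC (D.Y_le hx.1)
    have hone : ∀ y ∈ D.C, y * y = 1 → D.l y = 1 := by
      intro y hy h2
      have e := D.l_mul y hy y hy
      rw [h2, D.l_one] at e
      linear_combination D.l_cube y hy + D.l y * e
    apply hl
    rw [← hp, D.l_mul _ hsC _ htC, hone s hsC hs2, hone t htC ht2, one_mul]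
  rw [Nat.card_of_isEmpty, Nat.cast_zero, eq_comm, mul_eq_zero] at h
  exact h.resolve_left natCard_ne_zero

/-- The contradiction. -/
theorem false_of_simple [IsSimpleGroup G] (S : Subgroup G) (hS8 : Nat.card S = 8)
    (hsq : ∀ s ∈ S, s * s = 1) (haS : D.a ∈ S) : False := by
  classical
  haveI : Fact (Nat.Prime 2) := ⟨Nat.prime_two⟩
  obtain ⟨M, hM⟩ := Blocks.exists_isPModular 2 Nat.prime_two
  haveI : M.IsPrime := hM.2.1.isPrime
  -- multiplicities
  choose d hd using fun i (χ : Cfsg.IrrCharacter G) =>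
    classInner_gen (D.isGen_tau i) (isGen_of_isIrr χ.2)
  set triv := PrincipalBlock.trivChar G with htriv
  have hdtriv : ∀ i < 3, d i triv = if i = 0 then 1 else 0 := by
    intro i hi
    have h := D.classInner_tau_one i
    rw [Nat.mod_eq_of_lt hi] at h
    have h' : ((d i triv : ℤ) : ℂ) = if i = 0 then 1 else 0 := (hd i triv).symm.trans h
    split_ifs at h' ⊢ <;> exact_mod_cast h'
  have hnorm : ∀ i, Cfsg.classInner (D.tau i) (D.tau i) = 4 := fun i => by
    rw [D.classInner_tau_tau, if_pos (by omega)]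
  have hnormdiff : ∀ i j, i < 3 → j < 3 → i ≠ j →
      Cfsg.classInner (D.tau i - D.tau j) (D.tau i - D.tau j) = 4 := by
    intro i j hi hj hij
    rw [classInner_sub_left, classInner_sub_right, classInner_sub_right, hnorm, hnorm,
      D.classInner_tau_tau, D.classInner_tau_tau, if_neg (by omega), if_neg (by omega)]
    norm_num
  have hdiff : ∀ i j, i < 3 → j < 3 → i ≠ j → ∀ χ, -1 ≤ d i χ - d j χ ∧ d i χ - d j χ ≤ 1 :=
    fun i j hi hj hij => coeff_small (isGen_sub (D.isGen_tau i) (D.isGen_tau j))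
      (hnormdiff i j hi hj hij) (by simp [D.tau_one]) (fun χ => d i χ - d j χ)
      (fun χ => by rw [classInner_sub_left, hd, hd]; push_cast; ring)
  have hsmall : ∀ i χ, -1 ≤ d i χ ∧ d i χ ≤ 1 := fun i =>
    coeff_small (D.isGen_tau i) (hnorm i) (D.tau_one i) (d i) (hd i)
  -- the three non-principal constituents of `τ₀ - τ₁`
  set e : Cfsg.IrrCharacter G → ℤ := fun χ => d 0 χ - d 1 χ with hedef
  set δ : G → ℂ := D.tau 0 - D.tau 1 with hδ
  have hδgen : Cfsg.IsGeneralizedCharacter G δ := isGen_sub (D.isGen_tau 0) (D.isGen_tau 1)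
  have he : ∀ χ : Cfsg.IrrCharacter G, Cfsg.classInner δ (χ : G → ℂ) = e χ := fun χ => by
    rw [hδ, classInner_sub_left, hd, hd, hedef]; push_cast; ring
  have he1 : ∀ χ, e χ = 0 ∨ e χ = 1 ∨ e χ = -1 := fun χ => by
    have : -1 ≤ e χ ∧ e χ ≤ 1 := hdiff 0 1 (by norm_num) (by norm_num) (by norm_num) χ
    omega
  have hetriv : e triv = 1 := by
    simp [hedef, hdtriv 0 (by norm_num), hdtriv 1 (by norm_num)]
  have hesq : ∑ χ, e χ ^ 2 = 4 := by
    have h := (classInner_self_eq_sum_sq (isClassFunction_of_isGen hδgen) e he).symm.trans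
      (hnormdiff 0 1 (by norm_num) (by norm_num) (by norm_num))
    exact_mod_cast h
  set T := (Finset.univ.erase triv).filter fun χ => e χ ≠ 0 with hT
  have hTcard : T.card = 3 := by
    have h1 : ∑ χ ∈ Finset.univ.erase triv, e χ ^ 2 = (T.card : ℤ) := by
      rw [hT, Finset.card_filter, Nat.cast_sum]
      refine Finset.sum_congr rfl fun χ _ => ?_
      rcases he1 χ with h | h | h <;> simp [h]
    rw [← Finset.add_sum_erase _ _ (Finset.mem_univ triv), hetriv, h1] at hesq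
    omega
  obtain ⟨x, y, z, hxy, hxz, hyz, hTeq⟩ := Finset.card_eq_three.1 hTcard
  have hsplit : ∀ f : Cfsg.IrrCharacter G → ℂ, (∀ χ, e χ = 0 → f χ = 0) →
      ∑ χ, f χ = f triv + (f x + f y + f z) := by
    intro f hf
    rw [← Finset.add_sum_erase _ _ (Finset.mem_univ triv),
      ← Finset.sum_filter_of_ne (p := fun χ => e χ ≠ 0) (fun χ _ h => mt (hf χ) h), ← hT, hTeq,
      Finset.sum_insert (by simp [hxy, hxz]), Finset.sum_pair hyz, add_assoc (f x)]
  have hTmem : ∀ χ ∈ T, χ ≠ triv ∧ e χ ≠ 0 := fun χ hχ => by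
    rw [hT, Finset.mem_filter, Finset.mem_erase] at hχ
    exact ⟨hχ.1.1, hχ.2⟩
  -- they lie in the principal block
  have hblock : ∀ χ ∈ T, χ ∈ Cfsg.principalBlock M G := by
    intro χ hχ
    obtain ⟨hne, hχe⟩ := hTmem χ hχ
    by_contra hB
    have hB' : ¬ Cfsg.SameBlock M (χ : G → ℂ) (triv : G → ℂ) := fun h => hB <| by
      rw [PrincipalBlock.principalBlock_eq]
      exact Blocks.sameBlock_symm h
    have h0 := BlocksLocal.classInner_regPart_eq_zero hM hB'
    set Φ : G → ℂ := (3 : ℂ) • D.tau 0 - D.tau 1 - D.tau 2 with hΦ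
    have hΦv : ∀ g, Φ g = if 2 ∣ orderOf g then 8 else 0 := fun g => by
      simpa [hΦ] using D.three_tau g
    have hΦc : Cfsg.classInner Φ (χ : G → ℂ) = ((3 * d 0 χ - d 1 χ - d 2 χ : ℤ) : ℂ) := by
      rw [hΦ, classInner_sub_left, classInner_sub_left, classInner_smul_left, hd, hd, hd]
      push_cast; ring
    have hreg : BlocksLocal.regPart 2 (χ : G → ℂ) =
        fun g => (χ : G → ℂ) g - (8 : ℂ)⁻¹ * ((χ : G → ℂ) g * conj (Φ g)) := by
      funext g
      simp only [BlocksLocal.regPart, hΦv]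
      split_ifs
      · simp only [map_ofNat]; ring
      · simp
    have h1 : Cfsg.classInner (χ : G → ℂ) (triv : G → ℂ) = 0 :=
      classInner_isIrr_ne χ.2 triv.2 (fun h => hne (Subtype.ext h))
    have h2 : Cfsg.classInner (BlocksLocal.regPart 2 (χ : G → ℂ)) (triv : G → ℂ) =
        Cfsg.classInner (χ : G → ℂ) (triv : G → ℂ) -
          (8 : ℂ)⁻¹ * Cfsg.classInner (χ : G → ℂ) Φ := by
      simp only [hreg, Cfsg.classInner, htriv, PrincipalBlock.trivChar_apply, map_one, mul_one,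
        Finset.sum_sub_distrib, ← Finset.mul_sum]
      ring
    rw [h0, h1, classInner_conj_symm, hΦc, map_intCast, zero_sub, eq_comm, neg_eq_zero,
      mul_eq_zero, Int.cast_eq_zero] at h2
    have h3 := h2.resolve_left (by norm_num)
    have a0 := hsmall 0 χ
    have a1 := hsmall 1 χ
    have a2 := hsmall 2 χ
    have a12 := hdiff 1 2 (by norm_num) (by norm_num) (by norm_num) χ
    have a01 := hdiff 0 1 (by norm_num) (by norm_num) (by norm_num) χ
    rw [hedef] at hχe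
    simp only at hχe
    omega
  -- their values at `a`
  set v : Cfsg.IrrCharacter G → ℤ := fun χ => d 0 χ + d 1 χ + d 2 χ with hvdef
  have hva : ∀ χ ∈ T, (χ : G → ℂ) D.a = v χ := by
    intro χ hχ
    let N : Subgroup D.C := D.O.subgroupOf D.C
    haveI : N.Normal := ⟨fun n hn g => by
      rw [Subgroup.mem_subgroupOf] at hn ⊢
      simpa using D.O_conj ((g⁻¹ : D.C) : G) (g⁻¹).2 _ hn⟩
    have hN : ¬ 2 ∣ Nat.card N := by
      rw [Nat.card_congr (Subgroup.subgroupOfEquivOfLe (D.O_le.trans D.Y_le)).toEquiv]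
      exact D.O_odd.not_two_dvd_nat
    have hconst : ∀ w ∈ D.O, (χ : G → ℂ) (D.a * w) = (χ : G → ℂ) D.a := fun w hw =>
      ZStar.apply_mul_eq_of_mem hM ⟨1, by rw [pow_one, D.ha]⟩ (hblock χ hχ) N hN
        (y := ⟨w, D.Y_le (D.O_le hw)⟩) (Subgroup.mem_subgroupOf.2 hw)
    have h := D.classInner_tau_sum (isClassFunction_of_isIrr χ.2) hconst
    rw [hd, hd, hd, ← character_inv (isCharacter_of_isIrr χ.2), D.a_inv] at h
    rw [← h, hvdef]; push_cast; ring
  have hvb : ∀ χ ∈ T, -2 ≤ v χ ∧ v χ ≤ 2 := by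
    intro χ hχ
    have hχe := (hTmem χ hχ).2
    have a0 := hsmall 0 χ
    have a1 := hsmall 1 χ
    have a2 := hsmall 2 χ
    have a01 := hdiff 0 1 (by norm_num) (by norm_num) (by norm_num) χ
    rw [hedef] at hχe
    simp only at hχe
    rw [hvdef]
    simp only
    omega
  -- degrees
  choose n hnpos hn using fun χ : Cfsg.IrrCharacter G => exists_degree_pos χ.2
  haveI : IsMulCommutative S := ⟨⟨fun s t => Subtype.ext (by
    have h : ∀ u ∈ S, u⁻¹ = u := fun u hu => inv_eq_of_mul_eq_one_right (hsq u hu)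
    change (s : G) * t = t * s
    rw [← h _ (mul_mem s.2 t.2), mul_inv_rev, h _ s.2, h _ t.2])⟩⟩
  have hSconj : ∀ s : S, s ≠ 1 → IsConj (s : G) D.a := fun s hs => D.inv_conj _
    (orderOf_eq_prime (by rw [sq, hsq _ s.2]) fun h => hs (Subtype.ext h))
  obtain ⟨θ, hθ⟩ : ∃ θ : S →* ℂˣ, θ ⟨D.a, haS⟩ ≠ 1 := by
    let _ : CommGroup S := { (inferInstance : Group S) with mul_comm := IsMulCommutative.is_comm.comm }
    exact CommGroup.exists_apply_ne_one_of_hasEnoughRootsOfUnity S ℂ fun h => by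
      have := congrArg Subtype.val h
      have h2 := D.ha
      rw [show D.a = 1 from this, orderOf_one] at h2
      norm_num at h2
  haveI := Fintype.ofFinite S
  have hθsum : ∑ s : S, conj (θ s : ℂ) = 0 := by
    have h := classInner_isIrr_ne (isIrr_one (G := S)) (isIrr_linChar θ) (fun h => hθ <| Units.ext
      (congrFun h ⟨D.a, haS⟩).symm)
    rw [Cfsg.classInner, mul_eq_zero] at h
    simpa using h.resolve_left (inv_ne_zero natCard_ne_zero)
  have hdeg : ∀ χ ∈ T, 8 + v χ ≤ n χ ∧ 0 ≤ (n χ : ℤ) + 7 * v χ := by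
    intro χ hχ
    have hval : ∀ s : S, (χ : G → ℂ) s =
        (v χ : ℂ) + if s = 1 then ((n χ : ℂ) - v χ) else 0 := by
      intro s
      split_ifs with hs
      · subst hs; rw [Subgroup.coe_one, hn]; ring
      · rw [add_zero, ← classFunction_isConj (isClassFunction_of_isIrr χ.2) (hSconj s hs).symm,
          hva χ hχ]
    have hS : ∀ f : S → ℂ, ∑ s : S, (χ : G → ℂ) s * conj (f s) =
        (v χ : ℂ) * ∑ s : S, conj (f s) + ((n χ : ℂ) - v χ) * conj (f 1) := by
      intro f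
      simp only [hval, add_mul, ite_mul, zero_mul, Finset.sum_add_distrib, Finset.sum_ite_eq',
        Finset.mem_univ, if_true, Finset.mul_sum]
    have hchar : Cfsg.IsCharacter S (fun s : S => (χ : G → ℂ) s) :=
      isCharacter_restrict S (isCharacter_of_isIrr χ.2)
    obtain ⟨k₁, hk₁⟩ := classInner_characters hchar isCharacter_one
    obtain ⟨k₂, hk₂⟩ := classInner_characters hchar (isCharacter_of_isIrr (isIrr_linChar θ))
    rw [Cfsg.classInner, hS, hS8] at hk₁ hk₂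
    rw [hθsum, map_one, Units.val_one, map_one] at hk₂
    simp only [map_one, Finset.sum_const, Finset.card_univ, ← Nat.card_eq_fintype_card, hS8,
      nsmul_eq_mul, mul_one] at hk₁
    have e1 : (n χ : ℤ) + 7 * v χ = 8 * k₁ := by
      have : ((n χ : ℂ) + 7 * (v χ : ℂ)) = 8 * (k₁ : ℂ) := by
        rw [← hk₁]; push_cast; ring
      exact_mod_cast this
    have e2 : (n χ : ℤ) - v χ = 8 * k₂ := by
      have : ((n χ : ℂ) - (v χ : ℂ)) = 8 * (k₂ : ℂ) := by
        rw [← hk₂]; push_cast; ring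
      exact_mod_cast this
    have hk0 : k₂ ≠ 0 := by
      intro h0
      apply (hTmem χ hχ).1
      refine PrincipalBlock.eq_trivChar_of_charKer_eq_top ?_
      have hak : D.a ∈ PrincipalBlock.charKer χ := by
        rw [PrincipalBlock.mem_charKer, hva χ hχ, hn]
        have : (n χ : ℤ) = v χ := by rw [h0] at e2; push_cast at e2; omega
        exact_mod_cast this.symm
      refine (IsSimpleGroup.eq_bot_or_eq_top_of_normal _ inferInstance).resolve_left fun hb => ?_
      rw [hb, Subgroup.mem_bot] at hak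
      have h2 := D.ha
      rw [hak, orderOf_one] at h2
      norm_num at h2
    omega
  -- `τ₀ - τ₁` vanishes at `a`
  have hexp := classFunction_expansion (isClassFunction_of_isGen hδgen)
  have hlin : 1 + (e x * v x + e y * v y + e z * v z) = 0 := by
    have h : δ D.a = 0 := by
      simp [hδ, D.tau_supp D.supp_a, D.l_a]
    rw [hexp, Finset.sum_apply, hsplit _ (fun χ h => by simp [he, h])] at h
    simp only [Pi.smul_apply, smul_eq_mul, he, hetriv, show (triv : G → ℂ) D.a = 1 from rfl,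
      Int.cast_one,
      hva x (hTeq ▸ by simp), hva y (hTeq ▸ by simp), hva z (hTeq ▸ by simp), mul_one] at h
    exact_mod_cast h
  -- `τ₀ - τ₁` is orthogonal to the counting function
  have hquad : (1 : ℝ) + ((e x : ℝ) * ((v x : ℝ) ^ 2 / (n x : ℝ))
      + (e y : ℝ) * ((v y : ℝ) ^ 2 / (n y : ℝ)) + (e z : ℝ) * ((v z : ℝ) ^ 2 / (n z : ℝ))) = 0 := by
    set F : G → ℂ := fun g => ∑ χ : Cfsg.IrrCharacter G,
      (χ : G → ℂ) D.a * (χ : G → ℂ) D.a * (χ : G → ℂ) g / (χ : G → ℂ) 1 with hF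
    have hzero : ∀ g, δ g * conj (F g) = 0 := by
      intro g
      by_cases hg : 2 ∣ orderOf g
      · obtain ⟨c, hc⟩ := D.exists_conj_supp hg
        have hδc : δ g = δ (c⁻¹ * g * c) := by simp [hδ, D.tau_conj]
        have hFc : F g = F (c⁻¹ * g * c) := by
          simp only [hF]
          refine Finset.sum_congr rfl fun χ _ => ?_
          rw [show (χ : G → ℂ) (c⁻¹ * g * c) = (χ : G → ℂ) g by
            simpa using isClassFunction_of_isIrr χ.2 g c⁻¹]
        by_cases hl : D.l (c⁻¹ * g * c) = 1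
        · rw [hδc]; simp [hδ, D.tau_supp hc, hl]
        · rw [hFc]
          simp only [hF, D.count_zero hc hl, map_zero, mul_zero]
      · simp [hδ, D.tau_regular _ hg]
    have hsum : ∑ χ : Cfsg.IrrCharacter G,
        conj ((χ : G → ℂ) D.a * (χ : G → ℂ) D.a / (χ : G → ℂ) 1) * (e χ : ℂ) = 0 := by
      have h : (Nat.card G : ℂ)⁻¹ * ∑ g, δ g * conj (F g) = 0 := by simp [hzero]
      refine Eq.trans ?_ h
      simp only [← he, Cfsg.classInner, hF, map_sum, Finset.mul_sum]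
      rw [Finset.sum_comm]
      refine Finset.sum_congr rfl fun g _ => Finset.sum_congr rfl fun χ _ => ?_
      simp only [map_div₀, map_mul]
      ring
    rw [hsplit _ (fun χ h => by simp [h])] at hsum
    have hn1 : ((n triv : ℕ) : ℂ) = 1 := (hn triv).symm
    simp only [hetriv, show (triv : G → ℂ) D.a = 1 from rfl, hn,
      hva x (hTeq ▸ by simp), hva y (hTeq ▸ by simp), hva z (hTeq ▸ by simp), map_div₀, map_mul,
      map_one, map_intCast, map_natCast, Int.cast_one, mul_one, div_one] at hsum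
    have : ((((1 : ℝ) + ((e x : ℝ) * ((v x : ℝ) ^ 2 / (n x : ℝ))
      + (e y : ℝ) * ((v y : ℝ) ^ 2 / (n y : ℝ)) + (e z : ℝ) * ((v z : ℝ) ^ 2 / (n z : ℝ)))) : ℝ) : ℂ)
        = 0 := by
      push_cast
      rw [hn1] at hsum
      linear_combination hsum
    exact_mod_cast this
  have hsign : ∀ χ ∈ T, e χ = 1 ∨ e χ = -1 := fun χ hχ => (he1 χ).resolve_left (hTmem χ hχ).2
  exact three_term_false (hsign x (hTeq ▸ by simp)) (hsign y (hTeq ▸ by simp))
    (hsign z (hTeq ▸ by simp)) (hvb x (hTeq ▸ by simp)) (hvb y (hTeq ▸ by simp))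
    (hvb z (hTeq ▸ by simp)) (hdeg x (hTeq ▸ by simp)) (hdeg y (hTeq ▸ by simp))
    (hdeg z (hTeq ▸ by simp)) hlin hquad

end ASection

end CfsgLib.Inv53
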