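import Cfsg.Agent.Inv53.ASectionMain
import Cfsg.Agent.Inv53.AbelianEight
import Cfsg.Agent.Inv54.Core
import Cfsg.Prelude.Def_CaseTheorems
import Mathlib.GroupTheory.Transfer

/-!
# The automizer of an elementary abelian Sylow 2-subgroup of order 8

In a simple group with elementary abelian Sylow 2-subgroup `S` of order 8 and solvable involution
centralizers, an element of `N(S)` fixing a nontrivial element of `S` centralizes `S`
(`commute_of_fixes`).
-/

set_option autoImplicit false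
set_option linter.unusedSectionVars false
set_option linter.style.haveILetI false

namespace CfsgLib.Inv53

open Subgroup

universe u

/-- The index of the kernel of a conjugation action with constant point stabilizers divides the
number of points. -/
theorem relIndex_dvd_ncard {G : Type u} [Group G] [Finite G] (N K : Subgroup G) (X : Set G)
    (hX : ∀ g ∈ N, ∀ x ∈ X, g * x * g⁻¹ ∈ X)
    (hK : ∀ x ∈ X, ∀ g ∈ N, g * x * g⁻¹ = x ↔ g ∈ K) :
    K.relIndex N ∣ X.ncard := by
  classical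
  letI act : MulAction N X :=
    { smul := fun g x => ⟨(g : G) * x * (g : G)⁻¹, hX g g.2 x x.2⟩
      one_smul := fun x => Subtype.ext (by change (1 : G) * (x : G) * (1 : G)⁻¹ = x; group)
      mul_smul := fun g h x => Subtype.ext (by
        change ((g : G) * h) * (x : G) * ((g : G) * h)⁻¹ =
          (g : G) * ((h : G) * x * (h : G)⁻¹) * (g : G)⁻¹
        group) }
  have hstab : ∀ x : X, MulAction.stabilizer N x = K.subgroupOf N := fun x => by
    ext g
    rw [MulAction.mem_stabilizer_iff, Subgroup.mem_subgroupOf, Subtype.ext_iff]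
    exact hK x x.2 g g.2
  haveI := Fintype.ofFinite (MulAction.orbitRel.Quotient N X)
  rw [← Nat.card_coe_set_eq, Nat.card_congr (MulAction.selfEquivSigmaOrbits N X), Nat.card_sigma]
  refine Finset.dvd_sum fun q _ => ?_
  rw [Nat.card_coe_set_eq, ← MulAction.index_stabilizer, hstab]
  rfl

/-- An element normalizing an elementary abelian group of order 8, fixing a four-subgroup of it and
whose square fixes only what it fixes, centralizes it. -/
theorem commute_of_fix_two {G : Type u} [Group G] (P : Subgroup G) (h8 : Nat.card P = 8)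
    (hsq : ∀ s ∈ P, s * s = 1) {y : G} (hn : ∀ s ∈ P, y * s * y⁻¹ ∈ P)
    (h2 : ∀ s ∈ P, Commute (y * y) s → Commute y s) {a b : G} (ha : a ∈ P) (hb : b ∈ P)
    (ha1 : a ≠ 1) (hb1 : b ≠ 1) (hab : b ≠ a) (hya : Commute y a) (hyb : Commute y b) :
    ∀ s ∈ P, Commute y s := by
  classical
  haveI : Finite P := Nat.finite_of_card_ne_zero (by omega)
  haveI := Fintype.ofFinite P
  let H : Subgroup P := (Subgroup.centralizer ({y} : Set G)).subgroupOf P
  have hmem : ∀ s : P, s ∈ H ↔ Commute y s := fun s => by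
    rw [Subgroup.mem_subgroupOf, Subgroup.mem_centralizer_singleton_iff]
    exact eq_comm
  have h3 : 3 ≤ Nat.card H := by
    let f : Fin 3 → H := ![1, ⟨⟨a, ha⟩, (hmem _).2 hya⟩, ⟨⟨b, hb⟩, (hmem _).2 hyb⟩]
    have hf : Function.Injective f := by
      intro i j h
      have h' := congrArg (fun u : H => ((u : P) : G)) h
      fin_cases i <;> fin_cases j <;> simp [f] at h' <;> first
        | rfl
        | exact absurd h' ha1
        | exact absurd h'.symm ha1
        | exact absurd h' hb1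
        | exact absurd h'.symm hb1
        | exact absurd h' hab
        | exact absurd h'.symm hab
    simpa using Nat.card_le_card_of_injective f hf
  have hdvd : Nat.card H ∣ 8 := h8 ▸ Subgroup.card_subgroup_dvd_card H
  have hmul := H.card_mul_index
  rw [h8] at hmul
  have hle : Nat.card H ≤ 8 := Nat.le_of_dvd (by norm_num) hdvd
  have hcases : H.index = 1 ∨ H.index = 2 := by
    have h4 : Nat.card H = 4 ∨ Nat.card H = 8 := by
      interval_cases h : Nat.card H <;> omega
    rcases h4 with h | h <;> rw [h] at hmul <;> omega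
  intro s hs
  by_cases hsH : (⟨s, hs⟩ : P) ∈ H
  · exact (hmem _).1 hsH
  rcases hcases with h | h
  · exact absurd (Subgroup.index_eq_one.1 h ▸ Subgroup.mem_top _) hsH
  refine h2 s hs ?_
  set t := y * s * y⁻¹ with ht
  have htH : (⟨t, hn s hs⟩ : P) ∉ H := fun h' => hsH <| (hmem _).2 <| by
    have h'' : y * t = t * y := ((hmem _).1 h').eq
    rw [ht] at h''
    have : y * s = s * y := by
      calc y * s = y * s * y⁻¹ * y := by group
        _ = y⁻¹ * (y * (y * s * y⁻¹)) * y := by group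
        _ = y⁻¹ * (y * s * y⁻¹ * y) * y := by rw [h'']
        _ = s * y := by group
    exact this
  have hd : (⟨s, hs⟩ : P) * ⟨t, hn s hs⟩ ∈ H :=
    (Subgroup.mul_mem_iff_of_index_two h).2 (iff_of_false hsH htH)
  have hd' : y * (s * t) = s * t * y := ((hmem _).1 hd).eq
  have e : t = s * (s * t) := by rw [← mul_assoc, hsq s hs, one_mul]
  have e2 : y * t * y⁻¹ = s := by
    calc y * t * y⁻¹ = y * (s * (s * t)) * y⁻¹ := by rw [← e]
      _ = (y * s * y⁻¹) * (y * (s * t) * y⁻¹) := by group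
      _ = t * (s * t * y * y⁻¹) := by rw [hd', ← ht]
      _ = t * s * t := by group
      _ = s := by
        have hinv : ∀ u ∈ P, u⁻¹ = u := fun u hu => inv_eq_of_mul_eq_one_right (hsq u hu)
        have hc : t * s = s * t := by
          rw [← hinv _ (mul_mem (hn s hs) hs), mul_inv_rev, hinv _ (hn s hs), hinv _ hs]
        rw [hc, mul_assoc, hsq t (hn s hs), mul_one]
  refine mul_inv_eq_iff_eq_mul.1 ?_
  rw [mul_inv_rev]
  rw [ht] at e2
  simpa only [mul_assoc] using e2

variable {G : Type u} [Group G] [Finite G]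

/-- The data at a fixed point of an element of `N(S)` outside `C(S)`. -/
theorem exists_asection [IsSimpleGroup G] (hG : ¬ IsMulCommutative G) (S : Sylow 2 G)
    [IsMulCommutative (S : Subgroup G)] (h8 : Nat.card (S : Subgroup G) = 8)
    (hsq : ∀ s ∈ S, s * s = 1)
    (hC : ∀ t : G, orderOf t = 2 → Group.IsSolvable ↥(Subgroup.centralizer ({t} : Set G)))
    {y a : G} (hy : y ∈ Subgroup.normalizer ((S : Subgroup G) : Set G))
    (hyK : ∃ s ∈ S, ¬ Commute y s) (ha : a ∈ S) (ha1 : a ≠ 1) (hya : Commute y a) :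
    ∃ D : ASection G, D.a = a := by
  classical
  haveI : Fact (Nat.Prime 2) := ⟨Nat.prime_two⟩
  haveI : Fact (Nat.Prime 3) := ⟨Nat.prime_three⟩
  have hao : orderOf a = 2 := orderOf_eq_prime (by rw [sq, hsq a ha]) ha1
  -- all involutions are conjugate to `a`
  have hfix : ∀ s ∈ S, Commute y s → s = 1 ∨ s = a := by
    intro s hs hys
    by_contra hne
    push Not at hne
    obtain ⟨c, hc, hyc⟩ := hyK
    exact hyc (commute_of_fix_two (S : Subgroup G) h8 hsq
      (fun u hu => (Subgroup.mem_normalizer_iff.1 hy u).1 hu)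
      (fun u hu => fix_of_sq_fix S hy hu) ha hs ha1 hne.1 hne.2 hya hys c hc)
  obtain ⟨mv, hmv, hmva⟩ := exists_moves hG S ha ha1
  obtain ⟨x, -, -, -, hcov⟩ := exists_seven S h8 ha ha1 hy hya hfix hmv hmva
  have hinto : ∀ u : G, IsPGroup 2 (Subgroup.zpowers u) → ∃ g : G, g * u * g⁻¹ ∈ S := by
    intro u hu
    obtain ⟨Q, hQ⟩ := hu.exists_le_sylow
    obtain ⟨g, hg⟩ := MulAction.exists_smul_eq G Q S
    refine ⟨g, ?_⟩
    rw [← hg]
    exact Subgroup.smul_mem_pointwise_smul u (MulAut.conj g) _ (hQ (Subgroup.mem_zpowers u))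
  have hinv : ∀ t : G, orderOf t = 2 → IsConj t a := by
    intro t ht
    obtain ⟨g, hg⟩ := hinto t (IsPGroup.of_card (n := 1) (by rw [Nat.card_zpowers, ht, pow_one]))
    have hg1 : g * t * g⁻¹ ≠ 1 := fun h => by
      rw [conj_eq_one_iff.1 h, orderOf_one] at ht
      omega
    obtain ⟨i, -, hi⟩ := hcov _ hg hg1
    exact (isConj_iff.2 ⟨g, rfl⟩ : IsConj t (g * t * g⁻¹)).trans
      (isConj_iff.2 ⟨(x ^ i)⁻¹, by rw [← hi]; group⟩)
  have hfour : ∀ h : G, ¬ 4 ∣ orderOf h := by
    rintro h ⟨k, hk⟩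
    have hk0 : 0 < k := by have := orderOf_pos h; omega
    have hu : orderOf (h ^ k) = 4 := by
      rw [orderOf_pow, hk, Nat.gcd_mul_left_left, Nat.mul_div_cancel _ hk0]
    obtain ⟨g, hg⟩ := hinto (h ^ k) (IsPGroup.of_card (n := 2) (by rw [Nat.card_zpowers, hu]; rfl))
    have h2 := hsq _ hg
    rw [← sq, conj_pow, conj_eq_one_iff] at h2
    have := orderOf_le_of_pow_eq_one two_pos h2
    omega
  -- the centralizer of `a` and its quotient by the odd core
  let C : Subgroup G := Subgroup.centralizer ({a} : Set G)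
  have hCs : Group.IsSolvable ↥C := hC a hao
  have hSC : (S : Subgroup G) ≤ C := fun s hs => Subgroup.mem_centralizer_singleton_iff.2
    (congrArg Subtype.val (IsMulCommutative.is_comm.comm
      (⟨s, hs⟩ : (S : Subgroup G)) ⟨a, ha⟩))
  have hyC : y ∈ C := Subgroup.mem_centralizer_singleton_iff.2 hya.eq
  let O : Subgroup C := Cfsg.oddCore C
  have hOodd : Odd (Nat.card O) := Inv54.odd_card_oddCore
  let π : C →* C ⧸ O := QuotientGroup.mk' O
  let ι : (S : Subgroup G) →* C ⧸ O := π.comp (Subgroup.inclusion hSC)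
  have hι : Function.Injective ι := by
    rw [← MonoidHom.ker_eq_bot_iff, Subgroup.eq_bot_iff_forall]
    intro s hs
    have h1 : Subgroup.inclusion hSC s ∈ O := (QuotientGroup.eq_one_iff _).1 hs
    have h2 : orderOf (Subgroup.inclusion hSC s) = orderOf s :=
      orderOf_injective _ (Subgroup.inclusion_injective hSC) s
    have h3 := Subgroup.orderOf_dvd_natCard O h1
    have h4 : orderOf s ∣ 8 := h8 ▸ orderOf_dvd_natCard s
    rw [h2] at h3
    rw [← orderOf_eq_one_iff]
    exact Nat.eq_one_of_dvd_coprimes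
      (Nat.Coprime.pow_left 3 (Nat.coprime_two_left.2 hOodd)) h4 h3
  let P : Subgroup (C ⧸ O) := ι.range
  have hP8 : Nat.card P = 8 := by
    rw [← h8]
    exact Nat.card_congr (MonoidHom.ofInjective hι).symm.toEquiv
  have hPsq : ∀ p ∈ P, p * p = 1 := by
    rintro _ ⟨s, rfl⟩
    rw [← map_mul, show s * s = 1 from Subtype.ext (hsq _ s.2), map_one]
  have hPodd : ¬ 2 ∣ P.index := by
    intro hd
    have h1 : 16 ∣ Nat.card (C ⧸ O) := by
      rw [← P.card_mul_index, hP8]
      exact Nat.mul_dvd_mul_left 8 hd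
    have h2 : 16 ∣ Nat.card G :=
      h1.trans ((Subgroup.card_quotient_dvd_card O).trans (Subgroup.card_subgroup_dvd_card C))
    rw [← (S : Subgroup G).card_mul_index, h8] at h2
    exact S.not_dvd_index (Nat.dvd_of_mul_dvd_mul_left (by norm_num : 0 < 8) h2)
  let PS : Sylow 2 (C ⧸ O) := (IsPGroup.of_card (n := 3) (by rw [hP8]; rfl) :
    IsPGroup 2 P).toSylow hPodd
  have hPS : (PS : Subgroup (C ⧸ O)) = P := rfl
  haveI hPcomm : IsMulCommutative P := ⟨⟨fun p q => Subtype.ext (by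
    have h : ∀ u ∈ P, u⁻¹ = u := fun u hu => inv_eq_of_mul_eq_one_right (hPsq u hu)
    change (p : C ⧸ O) * q = q * p
    rw [← h _ (mul_mem p.2 q.2), mul_inv_rev, h _ p.2, h _ q.2])⟩⟩
  haveI : IsMulCommutative (PS : Subgroup (C ⧸ O)) := hPcomm
  -- `P` is normal and self-centralizing
  have hcent := Inv54.centralizer_pCore_two_quotient_le hCs
  have hcoreP : Cfsg.pCore 2 (C ⧸ O) ≤ P := by
    have h1 : IsPGroup 2 ↥(Cfsg.pCore 2 (C ⧸ O) ⊔ P : Subgroup (C ⧸ O)) :=
      (PLocal.isPGroup_pCore 2 (C ⧸ O)).to_sup_of_normal_left PS.isPGroup'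
    have h2 := PS.is_maximal' h1 le_sup_right
    exact le_sup_left.trans h2.le
  have hPcore : P = Cfsg.pCore 2 (C ⧸ O) := by
    refine le_antisymm (fun p hp => hcent ?_) hcoreP
    intro q hq
    exact congrArg Subtype.val (IsMulCommutative.is_comm.comm
      (⟨q, hcoreP hq⟩ : P) ⟨p, hp⟩)
  haveI hPn : P.Normal := hPcore ▸ Cfsg.pCore_normal 2 (C ⧸ O)
  have hPcent : ∀ q : C ⧸ O, (∀ p ∈ P, Commute q p) → q ∈ P := fun q hq => by
    rw [hPcore]
    exact hcent fun p hp => ((hq p (hcoreP hp)).symm).eq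
  -- the image of `a`
  let A : C ⧸ O := ι ⟨a, ha⟩
  have hAP : A ∈ P := ⟨_, rfl⟩
  have hA1 : A ≠ 1 := fun h => ha1 (congrArg Subtype.val
    (hι (a₁ := ⟨a, ha⟩) (a₂ := 1) (h.trans (map_one ι).symm)))
  have hAc : ∀ q : C ⧸ O, Commute q A := by
    intro q
    obtain ⟨c, rfl⟩ := QuotientGroup.mk'_surjective O q
    exact Commute.map (f := π) (show Commute c (⟨a, hSC ha⟩ : C) from
      Subtype.ext (Subgroup.mem_centralizer_singleton_iff.1 c.2))
  have hnorm : ∀ q : C ⧸ O, ∀ p ∈ P, q * p * q⁻¹ ∈ P := fun q p hp => hPn.conj_mem p hp q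
  have hstabP : ∀ q : C ⧸ O, ∀ p ∈ P, p ≠ 1 → p ≠ A → Commute q p → q ∈ P := by
    intro q p hp hp1 hpA hqp
    refine hPcent q (commute_of_fix_two P hP8 hPsq (hnorm q) (fun u hu => ?_) hAP hp hA1 hp1 hpA
      (hAc q) hqp)
    refine fix_of_sq_fix PS (n := q) ?_ hu
    rw [hPS, Subgroup.normalizer_eq_top]
    exact Subgroup.mem_top q
  -- the index of `P` is 3
  have hk : P.index = 3 := by
    let X : Set (C ⧸ O) := (P : Set (C ⧸ O)) \ {1, A}
    have h6 : X.ncard = 6 := by
      rw [Set.ncard_sdiff (by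
          intro u hu
          rcases hu with rfl | rfl
          exacts [P.one_mem, hAP]) (Set.toFinite _), Set.ncard_pair hA1.symm,
        ← Nat.card_coe_set_eq, show Nat.card ↥(P : Set (C ⧸ O)) = 8 from hP8]
    have hd := relIndex_dvd_ncard ⊤ P X (fun g _ p hp => ?_) (fun p hp g _ => ?_)
    · rw [Subgroup.relIndex_top_right, h6] at hd
      have hne : P.index ≠ 1 := by
        intro h1
        obtain ⟨s, hs, hys⟩ := hyK
        apply hys
        have hyP : π ⟨y, hyC⟩ ∈ P := by rw [Subgroup.index_eq_one.1 h1]; exact Subgroup.mem_top _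
        have h2 : Commute (π ⟨y, hyC⟩) (ι ⟨s, hs⟩) := congrArg Subtype.val
          (IsMulCommutative.is_comm.comm
            (⟨_, hyP⟩ : P) ⟨_, ⟨s, hs⟩, rfl⟩)
        have hys' : y * s * y⁻¹ ∈ S := (Subgroup.mem_normalizer_iff.1 hy s).1 hs
        have h3 : ι ⟨_, hys'⟩ = ι ⟨s, hs⟩ := by
          change π (⟨y, hyC⟩ * Subgroup.inclusion hSC ⟨s, hs⟩ * (⟨y, hyC⟩ : C)⁻¹) = _
          rw [map_mul, map_mul, map_inv]
          exact mul_inv_eq_iff_eq_mul.2 h2
        exact mul_inv_eq_iff_eq_mul.1 (congrArg Subtype.val (hι h3))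
      have key : ∀ j : ℕ, j ∣ 6 → j ≠ 1 → ¬ 2 ∣ j → j = 3 := by
        intro j hj hj1 hj2
        have := Nat.le_of_dvd (by norm_num) hj
        interval_cases j <;> omega
      exact key _ hd hne hPodd
    · obtain ⟨hpP, hpne⟩ := hp
      refine ⟨hnorm g p hpP, fun hh => hpne ?_⟩
      rcases hh with hh | hh
      · exact Or.inl (conj_eq_one_iff.1 hh)
      · refine Or.inr (show p = A from ?_)
        calc p = g⁻¹ * (g * p * g⁻¹) * g := by group
          _ = g⁻¹ * A * g := by rw [hh]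
          _ = A := by rw [mul_assoc, ← (hAc g).eq, inv_mul_cancel_left]
    · obtain ⟨hpP, hpne⟩ := hp
      refine ⟨fun h => hstabP g p hpP (fun e => hpne (Or.inl e)) (fun e => hpne (Or.inr e))
        (mul_inv_eq_iff_eq_mul.1 h), fun hg => mul_inv_eq_iff_eq_mul.2 (congrArg Subtype.val
          (IsMulCommutative.is_comm.comm (⟨g, hg⟩ : P) ⟨p, hpP⟩))⟩
  have h24 : Nat.card (C ⧸ O) = 24 := by rw [← P.card_mul_index, hP8, hk]
  -- the element of order 3
  obtain ⟨r, hr⟩ := exists_prime_orderOf_dvd_card' 3 (G := C ⧸ O) (by rw [h24]; norm_num)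
  have hrP : r ∉ P := fun h => by
    have := Subgroup.orderOf_dvd_natCard P h
    rw [hr, hP8] at this
    norm_num at this
  have hr3 : r ^ 3 = 1 := hr ▸ pow_orderOf_eq_one r
  have hAo : orderOf A = 2 := orderOf_eq_prime (by rw [sq, hPsq A hAP]) hA1
  set w : C ⧸ O := A * r with hw
  have hwo : orderOf w = 6 := by
    rw [hw, (hAc r).symm.orderOf_mul_eq_mul_orderOf_of_coprime (by rw [hAo, hr]; norm_num),
      hAo, hr]
  -- `μ` by transfer
  let _ : CommGroup P := { (inferInstance : Group P) with mul_comm := hPcomm.is_comm.comm }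
  obtain ⟨f, hf⟩ : ∃ f : P →* ℂˣ, f ⟨A, hAP⟩ ≠ 1 :=
    CommGroup.exists_apply_ne_one_of_hasEnoughRootsOfUnity P ℂ
      fun h => hA1 (congrArg Subtype.val h)
  let μ : C ⧸ O →* ℂˣ := f.comp (MonoidHom.transfer (MonoidHom.id P))
  have hμsq : ∀ q, (μ q : ℂ) = 1 ∨ (μ q : ℂ) = -1 := by
    intro q
    refine sq_eq_one_iff.1 ?_
    rw [← Units.val_pow_eq_pow_val, MonoidHom.comp_apply, ← map_pow, sq,
      show ∀ p : P, p * p = 1 from fun p => Subtype.ext (hPsq _ p.2), map_one, Units.val_one]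
  have hμA : (μ A : ℂ) = -1 := by
    have htr := MonoidHom.transfer_eq_pow (MonoidHom.id P) A (fun k g₀ _ => by
      rw [mul_assoc, ← ((hAc g₀).pow_right k).eq, inv_mul_cancel_left])
    refine (hμsq A).resolve_left fun h => hf ?_
    have h' : μ A = 1 := Units.ext h
    rw [MonoidHom.comp_apply, htr, MonoidHom.id_apply] at h'
    convert h' using 2
    apply Subtype.ext
    change A = A ^ P.index
    rw [hk, pow_succ, sq, hPsq A hAP, one_mul]
  have hμr : (μ r : ℂ) = 1 := by
    refine (hμsq r).resolve_right fun h => ?_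
    have h3 : (μ r : ℂ) ^ 3 = 1 := by
      rw [← Units.val_pow_eq_pow_val, ← map_pow, hr3, map_one, Units.val_one]
    rw [h] at h3
    norm_num at h3
  -- `λ` through the quotient by `P`
  haveI : IsCyclic ((C ⧸ O) ⧸ P) := isCyclic_of_prime_card (p := 3) hk
  obtain ⟨f', hf'⟩ : ∃ f' : (C ⧸ O) ⧸ P →* ℂˣ, f' (QuotientGroup.mk' P r) ≠ 1 := by
    let _ : CommGroup ((C ⧸ O) ⧸ P) := IsCyclic.commGroup
    exact CommGroup.exists_apply_ne_one_of_hasEnoughRootsOfUnity _ ℂ
      fun h => hrP ((QuotientGroup.eq_one_iff r).1 h)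
  let lam : C ⧸ O →* ℂˣ := f'.comp (QuotientGroup.mk' P)
  have hlcube : ∀ q, (lam q : ℂ) ^ 3 = 1 := by
    intro q
    rw [← Units.val_pow_eq_pow_val, MonoidHom.comp_apply, ← map_pow, ← hk,
      Subgroup.index_eq_card, pow_card_eq_one', map_one, Units.val_one]
  have hlA : (lam A : ℂ) = 1 := by
    rw [MonoidHom.comp_apply, show QuotientGroup.mk' P A = 1 from (QuotientGroup.eq_one_iff A).2 hAP,
      map_one, Units.val_one]
  have hlr : (lam r : ℂ) ≠ 1 := fun h => hf' (Units.ext h)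
  -- injectivity of `(μ, λ)` on `⟨w⟩`
  have hinj : ∀ q ∈ Subgroup.zpowers w, (μ q : ℂ) = 1 → (lam q : ℂ) = 1 → q = 1 := by
    intro q hq h1 h2
    obtain ⟨n, rfl⟩ := mem_powers_iff_mem_zpowers.2 hq
    dsimp only at h1 h2 ⊢
    rw [map_pow, map_mul, Units.val_pow_eq_pow_val, Units.val_mul, hμA, hμr, mul_one] at h1
    rw [map_pow, map_mul, Units.val_pow_eq_pow_val, Units.val_mul, hlA, one_mul] at h2
    have e2 : 2 ∣ n := even_iff_two_dvd.1 ((neg_one_pow_eq_one_iff_even (by norm_num)).1 h1)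
    have e3 : 3 ∣ n := by
      rw [← orderOf_eq_prime (hlcube r) hlr]
      exact orderOf_dvd_of_pow_eq_one h2
    exact orderOf_dvd_iff_pow_eq_one.1 (by rw [hwo]; omega)
  have hrw : r ∈ Subgroup.zpowers w := by
    have h : w ^ 4 = r := by
      rw [hw, (hAc r).symm.mul_pow, show (4 : ℕ) = 2 * 2 from rfl, pow_mul, pow_mul, sq A,
        hPsq A hAP, one_pow, one_mul, ← pow_mul, show 2 * 2 = 3 + 1 from rfl, pow_succ, hr3,
        one_mul]
    exact h ▸ pow_mem (Subgroup.mem_zpowers w) 4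
  have hAw : A ∈ Subgroup.zpowers w := by
    have h : w ^ 3 = A := by
      rw [hw, (hAc r).symm.mul_pow, hr3, mul_one, pow_succ, sq, hPsq A hAP, one_mul]
    exact h ▸ pow_mem (Subgroup.mem_zpowers w) 3
  -- stability
  have hstab : ∀ u ∈ Subgroup.zpowers w, (lam u : ℂ) ≠ 1 → ∀ q : C ⧸ O,
      q⁻¹ * u * q ∈ Subgroup.zpowers w → q ∈ Subgroup.zpowers w := by
    intro u hu hlu q hq
    have hμc : μ (q⁻¹ * u * q * u⁻¹) = 1 := by
      rw [map_mul, map_mul, map_mul, map_inv, map_inv, mul_comm (μ q)⁻¹, inv_mul_cancel_right,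
        mul_inv_cancel]
    have hlc : lam (q⁻¹ * u * q * u⁻¹) = 1 := by
      rw [map_mul, map_mul, map_mul, map_inv, map_inv, mul_comm (lam q)⁻¹, inv_mul_cancel_right,
        mul_inv_cancel]
    have he := hinj _ (mul_mem hq (inv_mem hu)) (by rw [hμc, Units.val_one])
      (by rw [hlc, Units.val_one])
    have hqu : Commute q u := by
      rw [mul_inv_eq_one] at he
      calc q * u = q * (q⁻¹ * u * q) := by rw [he]
        _ = u * q := by group
    obtain ⟨n, rfl⟩ := mem_powers_iff_mem_zpowers.2 hu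
    dsimp only at hlu hqu
    have hn3 : ¬ 3 ∣ n := by
      rintro ⟨j, rfl⟩
      apply hlu
      rw [map_pow, Units.val_pow_eq_pow_val, pow_mul, hlcube, one_pow]
    have hw2 : (w ^ n) ^ 2 = r ^ (2 * n) := by
      rw [← pow_mul, hw, (hAc r).symm.mul_pow, mul_comm n, pow_mul, sq A, hPsq A hAP, one_pow,
        one_mul]
    have hqr2 : Commute q (r ^ (2 * n)) := hw2 ▸ hqu.pow_right 2
    have hqr : Commute q r := by
      obtain ⟨j, hj⟩ : ∃ j, (r ^ (2 * n)) ^ j = r := by
        refine exists_pow_eq_self_of_coprime ?_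
        rw [hr]
        exact ((Nat.prime_three.coprime_iff_not_dvd).2 (by omega)).symm
      exact hj ▸ hqr2.pow_right j
    obtain ⟨i, hi⟩ : ∃ i : ℕ, QuotientGroup.mk' P r ^ i = QuotientGroup.mk' P q :=
      mem_powers_iff_mem_zpowers.2 (mem_zpowers_of_prime_card (p := 3) hk
        fun h => hrP ((QuotientGroup.eq_one_iff r).1 h))
    have hpP : q * (r ^ i)⁻¹ ∈ P := by
      rw [← QuotientGroup.eq_one_iff]
      change QuotientGroup.mk' P (q * (r ^ i)⁻¹) = 1
      rw [map_mul, map_inv, map_pow, hi, mul_inv_cancel]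
    have hrp : Commute r (q * (r ^ i)⁻¹) :=
      hqr.symm.mul_right ((Commute.refl r).pow_right i).inv_right
    have hpA : q * (r ^ i)⁻¹ ∈ Subgroup.zpowers w := by
      by_cases h1 : q * (r ^ i)⁻¹ = 1
      · rw [h1]; exact one_mem _
      by_cases h2 : q * (r ^ i)⁻¹ = A
      · rw [h2]; exact hAw
      exact absurd (hstabP r _ hpP h1 h2 hrp) hrP
    rw [← inv_mul_cancel_right q (r ^ i)]
    exact mul_mem hpA (pow_mem hrw i)
  -- odd elements
  have hodd : ∀ q : C ⧸ O, Odd (orderOf q) → ∃ g : C ⧸ O, g⁻¹ * q * g ∈ Subgroup.zpowers w := by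
    intro q hq
    have h3 : orderOf q ∣ 3 := by
      have h : orderOf q ∣ 2 ^ 3 * 3 := by
        have := orderOf_dvd_natCard q
        rwa [h24] at this
      exact ((Nat.coprime_two_right.2 hq).pow_right 3).dvd_of_dvd_mul_left h
    rcases (Nat.dvd_prime Nat.prime_three).1 h3 with h | h
    · refine ⟨1, ?_⟩
      rw [orderOf_eq_one_iff.1 h]
      simp
    · have hi : ∀ u : C ⧸ O, orderOf u = 3 → ¬ 3 ∣ (Subgroup.zpowers u).index := by
        intro u hu hd
        have := (Subgroup.zpowers u).card_mul_index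
        rw [Nat.card_zpowers, hu, h24] at this
        omega
      let Q₁ : Sylow 3 (C ⧸ O) := (IsPGroup.of_card (n := 1) (by rw [Nat.card_zpowers, h, pow_one]) :
        IsPGroup 3 (Subgroup.zpowers q)).toSylow (hi q h)
      let Q₂ : Sylow 3 (C ⧸ O) := (IsPGroup.of_card (n := 1) (by rw [Nat.card_zpowers, hr, pow_one]) :
        IsPGroup 3 (Subgroup.zpowers r)).toSylow (hi r hr)
      obtain ⟨g, hg⟩ := MulAction.exists_smul_eq (C ⧸ O) Q₁ Q₂
      refine ⟨g⁻¹, ?_⟩
      rw [inv_inv]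
      have hm : g * q * g⁻¹ ∈ (Q₂ : Subgroup (C ⧸ O)) := by
        rw [← hg]
        exact Subgroup.smul_mem_pointwise_smul q (MulAut.conj g) _ (Subgroup.mem_zpowers q)
      exact Subgroup.zpowers_le.2 hrw hm
  -- assemble
  let Yc : Subgroup C := (Subgroup.zpowers w).comap π
  let l : G → ℂ := fun g => if h : g ∈ C then (lam (π ⟨g, h⟩) : ℂ) else 0
  let m : G → ℂ := fun g => if h : g ∈ C then (μ (π ⟨g, h⟩) : ℂ) else 0
  have hl : ∀ g : C, l g = (lam (π g) : ℂ) := fun g => dif_pos g.2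
  have hm : ∀ g : C, m g = (μ (π g) : ℂ) := fun g => dif_pos g.2
  have hmemY : ∀ g : C, (g : G) ∈ Yc.map C.subtype ↔ π g ∈ Subgroup.zpowers w := fun g =>
    Subgroup.mem_map_iff_mem C.subtype_injective
  have hOone : ∀ z : C, (z : G) ∈ O.map C.subtype → π z = 1 := fun z hz =>
    (QuotientGroup.eq_one_iff z).2 ((Subgroup.mem_map_iff_mem C.subtype_injective).1 hz)
  obtain ⟨r₀, hr₀⟩ := QuotientGroup.mk'_surjective O r
  change π r₀ = r at hr₀
  refine ⟨{
    a := a
    r := (r₀ : G)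
    O := O.map C.subtype
    Y := Yc.map C.subtype
    l := l
    m := m
    ha := hao
    inv_conj := hinv
    not_four := hfour
    Y_le := Subgroup.map_subtype_le _
    O_le := Subgroup.map_mono fun z hz => by
      change π z ∈ Subgroup.zpowers w
      rw [show π z = 1 from (QuotientGroup.eq_one_iff z).2 hz]
      exact one_mem _
    O_conj := ?_
    O_odd := by rwa [Subgroup.card_map_of_injective C.subtype_injective]
    a_mem := (hmemY ⟨a, hSC ha⟩).2 hAw
    r_mem := (hmemY r₀).2 (by rw [hr₀]; exact hrw)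
    l_mul := fun g hg h hh => by
      rw [show g * h = ((⟨g, hg⟩ * ⟨h, hh⟩ : C) : G) from rfl, hl, map_mul, map_mul, Units.val_mul,
        ← hl, ← hl]
    m_mul := fun g hg h hh => by
      rw [show g * h = ((⟨g, hg⟩ * ⟨h, hh⟩ : C) : G) from rfl, hm, map_mul, map_mul, Units.val_mul,
        ← hm, ← hm]
    l_O := fun z hz => by
      have hzC : z ∈ C := Subgroup.map_subtype_le _ hz
      rw [show z = ((⟨z, hzC⟩ : C) : G) from rfl, hl, hOone _ hz, map_one, Units.val_one]
    m_O := fun z hz => by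
      have hzC : z ∈ C := Subgroup.map_subtype_le _ hz
      rw [show z = ((⟨z, hzC⟩ : C) : G) from rfl, hm, hOone _ hz, map_one, Units.val_one]
    l_a := (hl ⟨a, hSC ha⟩).trans hlA
    m_a := (hm ⟨a, hSC ha⟩).trans hμA
    l_r := by rw [hl, hr₀]; exact hlr
    m_r := by rw [hm, hr₀]; exact hμr
    m_sq := fun g hg => by rw [show g = ((⟨g, hg⟩ : C) : G) from rfl, hm]; exact hμsq _
    l_cube := fun g hg => by rw [show g = ((⟨g, hg⟩ : C) : G) from rfl, hl]; exact hlcube _
    ker_Y := ?_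
    stab := ?_
    card_C := ?_
    conj_Y := ?_ }, rfl⟩
  · intro g hg z hz
    obtain ⟨z, hz', rfl⟩ := hz
    have h := (inferInstance : O.Normal).conj_mem z hz' (⟨g, hg⟩ : C)⁻¹
    refine ⟨_, h, ?_⟩
    simp
  · intro g hg hm1 hl1
    have hgC : g ∈ C := Subgroup.map_subtype_le _ hg
    rw [show g = ((⟨g, hgC⟩ : C) : G) from rfl] at hg hm1 hl1 ⊢
    rw [hm] at hm1
    rw [hl] at hl1
    exact Subgroup.mem_map_of_mem C.subtype
      ((QuotientGroup.eq_one_iff _).1 (hinj _ ((hmemY _).1 hg) hm1 hl1))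
  · intro g hg hl1 c hc hcY
    have hgC : g ∈ C := Subgroup.map_subtype_le _ hg
    rw [show g = ((⟨g, hgC⟩ : C) : G) from rfl] at hg hl1
    rw [hl] at hl1
    have h1 : π ((⟨c, hc⟩ : C)⁻¹ * ⟨g, hgC⟩ * ⟨c, hc⟩) ∈ Subgroup.zpowers w := (hmemY _).1 hcY
    rw [map_mul, map_mul, map_inv] at h1
    exact (hmemY ⟨c, hc⟩).2 (hstab _ ((hmemY _).1 hg) hl1 _ h1)
  · rw [Subgroup.card_map_of_injective C.subtype_injective]
    have hidx : Yc.index = 4 := by
      rw [Subgroup.index_comap_of_surjective _ (QuotientGroup.mk'_surjective O)]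
      have := (Subgroup.zpowers w).card_mul_index
      rw [Nat.card_zpowers, hwo, h24] at this
      omega
    rw [← hidx, mul_comm, Subgroup.card_mul_index]
  · intro h hh hho
    have hq : Odd (orderOf (π ⟨h, hh⟩)) :=
      (by rwa [Subgroup.orderOf_mk] : Odd (orderOf (⟨h, hh⟩ : C))).of_dvd_nat (orderOf_map_dvd π _)
    obtain ⟨q, hq'⟩ := hodd _ hq
    obtain ⟨c, rfl⟩ := QuotientGroup.mk'_surjective O q
    refine ⟨c, c.2, (hmemY (c⁻¹ * ⟨h, hh⟩ * c)).2 ?_⟩
    rw [map_mul, map_mul, map_inv]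
    exact hq'

/-- An element of `N(S)` fixing a nontrivial element of `S` centralizes `S`. -/
theorem commute_of_fixes [IsSimpleGroup G] (hG : ¬ IsMulCommutative G) (S : Sylow 2 G)
    [IsMulCommutative (S : Subgroup G)] (h8 : Nat.card (S : Subgroup G) = 8)
    (hsq : ∀ s ∈ S, s * s = 1)
    (hC : ∀ t : G, orderOf t = 2 → Group.IsSolvable ↥(Subgroup.centralizer ({t} : Set G)))
    {y a : G} (hy : y ∈ Subgroup.normalizer ((S : Subgroup G) : Set G))
    (ha : a ∈ S) (ha1 : a ≠ 1) (hya : Commute y a) : ∀ s ∈ S, Commute y s := by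
  by_contra hcon
  push Not at hcon
  obtain ⟨D, hD⟩ := exists_asection hG S h8 hsq hC hy hcon ha ha1 hya
  haveI := Fintype.ofFinite G
  exact D.false_of_simple (S : Subgroup G) h8 hsq (hD ▸ ha)

end CfsgLib.Inv53
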