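import Mathlib

/-!
# Two commuting subgroups meeting in a central involution, and an element swapping them
-/

set_option autoImplicit false

namespace CfsgLib.Inv53

open Subgroup

variable {G : Type*} [Group G]

/-- The abstract properties of `SL₂(q)` (odd `q`) used below. -/
structure InvolutionData (L : Subgroup G) (j : G) : Prop where
  jmem : j ∈ L
  sq_one : ∀ x ∈ L, x * x = 1 → x = 1 ∨ x = j
  exists_sq : ∃ a ∈ L, a * a = j
  conj : ∀ x ∈ L, ∀ y ∈ L, x * x = j → y * y = j → ∃ g ∈ L, g * x * g⁻¹ = y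
  comm_eq : ∀ x ∈ L, ∀ y ∈ L, x * x = j → y * y = j → x * y = y * x → y = x ∨ y = x * j
  invert : ∀ a ∈ L, a * a = j → ∃ u ∈ L, u * u = j ∧ u * a * u⁻¹ = a⁻¹

theorem mem_sup_iff_exists_mul {L₁ L₂ : Subgroup G} (hc : ∀ x ∈ L₁, ∀ y ∈ L₂, x * y = y * x) {g : G} :
    g ∈ L₁ ⊔ L₂ ↔ ∃ c ∈ L₁, ∃ d ∈ L₂, c * d = g := by
  constructor
  · intro hg
    let K : Subgroup G :=
      { carrier := {g | ∃ c ∈ L₁, ∃ d ∈ L₂, c * d = g}
        one_mem' := ⟨1, one_mem _, 1, one_mem _, one_mul 1⟩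
        mul_mem' := by
          rintro _ _ ⟨c, hc', d, hd, rfl⟩ ⟨c', hc'', d', hd', rfl⟩
          exact ⟨c * c', mul_mem hc' hc'', d * d', mul_mem hd hd', by
            rw [mul_assoc c d, ← mul_assoc d c' d', ← hc c' hc'' d hd]; simp only [mul_assoc]⟩
        inv_mem' := by
          rintro _ ⟨c, hc', d, hd, rfl⟩
          exact ⟨c⁻¹, inv_mem hc', d⁻¹, inv_mem hd, by
            rw [mul_inv_rev, hc _ (inv_mem hc') _ (inv_mem hd)]⟩ }
    exact (sup_le (fun c hc' => ⟨c, hc', 1, one_mem _, mul_one c⟩)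
      (fun d hd => ⟨1, one_mem _, d, hd, one_mul d⟩) : L₁ ⊔ L₂ ≤ K) hg
  · rintro ⟨c, hc', d, hd, rfl⟩
    exact mul_mem (mem_sup_left hc') (mem_sup_right hd)

theorem mul_mem_pair {L₁ L₂ : Subgroup G} (hc : ∀ x ∈ L₁, ∀ y ∈ L₂, x * y = y * x) {c c' d d' : G}
    (hd : d ∈ L₂) (hc' : c' ∈ L₁) : (c * d) * (c' * d') = (c * c') * (d * d') := by
  rw [mul_assoc c d, ← mul_assoc d c' d', ← hc c' hc' d hd]; simp only [mul_assoc]

/-- The factorisation is unique up to the common involution. -/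
theorem pair_unique {L₁ L₂ : Subgroup G} {j : G} (hm : L₁ ⊓ L₂ ≤ zpowers j) (hjj : j * j = 1)
    (hcomm : ∀ x ∈ L₁, j * x = x * j) {c c' d d' : G}
    (hc1 : c ∈ L₁) (hc1' : c' ∈ L₁) (hd : d ∈ L₂) (hd' : d' ∈ L₂) (h : c * d = c' * d') :
    (c = c' ∧ d = d') ∨ (c = c' * j ∧ d = j * d') := by
  have h1 : c'⁻¹ * c = d' * d⁻¹ := by
    rw [inv_mul_eq_iff_eq_mul, ← mul_assoc, eq_mul_inv_iff_mul_eq, h]
  obtain ⟨i, hi⟩ := hm (show c'⁻¹ * c ∈ L₁ ⊓ L₂ from
    Subgroup.mem_inf.2 ⟨mul_mem (inv_mem hc1') hc1, h1 ▸ mul_mem hd' (inv_mem hd)⟩)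
  simp only at hi
  have hj2 : j ^ (2 : ℤ) = 1 := by rw [zpow_two, hjj]
  rcases Int.even_or_odd' i with ⟨q, rfl | rfl⟩
  · rw [zpow_mul, hj2, one_zpow] at hi
    left
    refine ⟨?_, ?_⟩
    · exact (inv_mul_eq_one.1 hi.symm).symm
    · rw [← hi] at h1; exact (mul_inv_eq_one.1 h1.symm).symm
  · rw [zpow_add, zpow_mul, hj2, one_zpow, one_mul, zpow_one] at hi
    right
    refine ⟨?_, ?_⟩
    · rw [hi, mul_inv_cancel_left]
    · have hd2 : d' = j * d := by rw [hi, h1, inv_mul_cancel_right]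
      rw [hd2, ← mul_assoc, hjj, one_mul]

/-- An involution of `L₁L₂` other than `j` is a product of two elements squaring to `j`. -/
theorem involution_pair {L₁ L₂ : Subgroup G} {j : G} (D₁ : InvolutionData L₁ j)
    (D₂ : InvolutionData L₂ j) (hm : L₁ ⊓ L₂ ≤ zpowers j) (hjj : j * j = 1)
    (hc : ∀ x ∈ L₁, ∀ y ∈ L₂, x * y = y * x) {t : G} (ht : t ∈ L₁ ⊔ L₂) (htt : t * t = 1)
    (ht1 : t ≠ 1) (htj : t ≠ j) :
    ∃ a ∈ L₁, ∃ b ∈ L₂, a * a = j ∧ b * b = j ∧ a * b = t := by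
  obtain ⟨a, ha, b, hb, rfl⟩ := (mem_sup_iff_exists_mul hc).1 ht
  refine ⟨a, ha, b, hb, ?_⟩
  have h1 : (a * a) * (b * b) = 1 * 1 := by rw [← mul_mem_pair hc hb ha, htt, one_mul]
  rcases pair_unique hm hjj (fun x hx => (hc x hx j D₂.jmem).symm) (mul_mem ha ha) (one_mem _)
    (mul_mem hb hb) (one_mem _) h1 with ⟨h2, h3⟩ | ⟨h2, h3⟩
  · exfalso
    rcases D₁.sq_one a ha h2 with rfl | rfl <;> rcases D₂.sq_one b hb h3 with rfl | rfl
    · exact ht1 (one_mul 1)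
    · exact htj (one_mul b)
    · exact htj (mul_one a)
    · exact ht1 hjj
  · exact ⟨by rwa [one_mul] at h2, by rwa [mul_one] at h3, rfl⟩

/-- All involutions of `L₁L₂` other than `j` are conjugate. -/
theorem involutions_conj {L₁ L₂ : Subgroup G} {j : G} (D₁ : InvolutionData L₁ j)
    (D₂ : InvolutionData L₂ j) (hc : ∀ x ∈ L₁, ∀ y ∈ L₂, x * y = y * x)
    {a a' b b' : G} (ha : a ∈ L₁) (ha' : a' ∈ L₁) (hb : b ∈ L₂) (hb' : b' ∈ L₂)
    (haa : a * a = j) (haa' : a' * a' = j) (hbb : b * b = j) (hbb' : b' * b' = j) :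
    ∃ g ∈ L₁ ⊔ L₂, g * (a * b) * g⁻¹ = a' * b' := by
  obtain ⟨g₁, hg₁, h₁⟩ := D₁.conj a ha a' ha' haa haa'
  obtain ⟨g₂, hg₂, h₂⟩ := D₂.conj b hb b' hb' hbb hbb'
  refine ⟨g₁ * g₂, mul_mem (mem_sup_left hg₁) (mem_sup_right hg₂), ?_⟩
  rw [mul_mem_pair hc hg₂ ha, mul_inv_rev, ← hc _ (inv_mem hg₁) _ (inv_mem hg₂),
    mul_mem_pair hc (mul_mem hg₂ hb) (inv_mem hg₁), h₁, h₂]

/-- The setting: `C(j) = L₁L₂⟨n⟩` with `n² = j` swapping the factors. -/
structure SwapSetting (L₁ L₂ : Subgroup G) (j n : G) : Prop where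
  D₁ : InvolutionData L₁ j
  D₂ : InvolutionData L₂ j
  jj : j * j = 1
  jne : j ≠ 1
  meet : L₁ ⊓ L₂ ≤ zpowers j
  comm : ∀ x ∈ L₁, ∀ y ∈ L₂, x * y = y * x
  nn : n * n = j
  sw₁ : ∀ x ∈ L₁, n * x * n⁻¹ ∈ L₂
  sw₂ : ∀ y ∈ L₂, n * y * n⁻¹ ∈ L₁
  cov : ∀ g, j * g = g * j → g ∈ L₁ ⊔ L₂ ∨ g * n⁻¹ ∈ L₁ ⊔ L₂
  cen : ∀ g ∈ L₁ ⊔ L₂, j * g = g * j

variable {L₁ L₂ : Subgroup G} {j n : G}

theorem SwapSetting.invol_mem (S : SwapSetting L₁ L₂ j n) {t : G} (htj : j * t = t * j)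
    (htt : t * t = 1) : t ∈ L₁ ⊔ L₂ := by
  rcases S.cov t htj with h | h
  · exact h
  exfalso
  obtain ⟨c, hc, d, hd, hcd⟩ := (mem_sup_iff_exists_mul S.comm).1 h
  have h1 : c * d * n * (c * d * n) = (c * (n * d * n⁻¹)) * ((d * (n * c * n⁻¹)) * j) := by
    calc c * d * n * (c * d * n) = (c * d) * ((n * c * n⁻¹) * (n * d * n⁻¹)) * (n * n) := by group
      _ = (c * d) * ((n * d * n⁻¹) * (n * c * n⁻¹)) * (n * n) := by
          rw [S.comm _ (S.sw₂ d hd) _ (S.sw₁ c hc)]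
      _ = _ := by rw [mul_mem_pair S.comm hd (S.sw₂ d hd), S.nn, mul_assoc]
  have ht' : c * d * n = t := by rw [hcd, inv_mul_cancel_right]
  rw [ht', htt] at h1
  have e : n * (c * (n * d * n⁻¹)) * n⁻¹ = n * c * n⁻¹ * d := by
    calc n * (c * (n * d * n⁻¹)) * n⁻¹ = (n * c * n⁻¹) * ((n * n) * d * (n * n)⁻¹) := by group
      _ = _ := by rw [S.nn, S.cen d (mem_sup_right hd), mul_inv_cancel_right]
  have e2 : d * (n * c * n⁻¹) = d * (n * (c * (n * d * n⁻¹)) * n⁻¹) * d⁻¹ := by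
    rw [e]; group
  have hnj : n * j * n⁻¹ = j := by rw [← S.nn]; group
  have hdj : d * j * d⁻¹ = j := by rw [← S.cen d (mem_sup_right hd), mul_inv_cancel_right]
  rcases pair_unique S.meet S.jj (fun x hx => S.cen x (mem_sup_left hx)) (one_mem _)
    (mul_mem hc (S.sw₂ d hd)) (one_mem _)
    (mul_mem (mul_mem hd (S.sw₁ c hc)) S.D₂.jmem) ((one_mul (1 : G)).trans h1) with ⟨h2, h3⟩ | ⟨h2, h3⟩
  · rw [← h2] at e2
    simp only [mul_one, mul_inv_cancel, one_mul] at e2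
    rw [e2, one_mul] at h3
    exact S.jne h3.symm
  · have h4 : c * (n * d * n⁻¹) = j := by
      rw [eq_inv_of_mul_eq_one_left h2.symm]
      exact inv_eq_of_mul_eq_one_right S.jj
    rw [h4, hnj, hdj] at e2
    rw [e2, ← mul_assoc, mul_assoc, S.jj, mul_one] at h3
    exact S.jne h3.symm

/-- `j` is conjugate to no other involution of its centraliser. -/
theorem SwapSetting.not_conj (S : SwapSetting L₁ L₂ j n) {g : G} (hg : j * (g * j * g⁻¹) = g * j * g⁻¹ * j) :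
    g * j * g⁻¹ = j := by
  by_contra hne
  set t := g * j * g⁻¹ with ht
  have hinv : ∀ {x : G}, x * x = j → x⁻¹ = x * j := fun {x} hx =>
    inv_eq_of_mul_eq_one_right (by rw [← mul_assoc, hx, S.jj])
  have hjx : ∀ x ∈ L₁, j * x = x * j := fun x hx => S.cen x (mem_sup_left hx)
  have hinvol : ∀ (h : G), j * (h * j * h⁻¹) = h * j * h⁻¹ * j → h * j * h⁻¹ ≠ j →
      ∃ a ∈ L₁, ∃ b ∈ L₂, a * a = j ∧ b * b = j ∧ a * b = h * j * h⁻¹ := by
    intro h hh hh'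
    have h2 : h * j * h⁻¹ * (h * j * h⁻¹) = 1 := by
      rw [show h * j * h⁻¹ * (h * j * h⁻¹) = h * (j * j) * h⁻¹ by group, S.jj]; group
    refine involution_pair S.D₁ S.D₂ S.meet S.jj S.comm (S.invol_mem hh h2) h2 ?_ hh'
    intro e
    exact S.jne (by rw [show j = h⁻¹ * (h * j * h⁻¹) * h by group, e]; group)
  obtain ⟨a₀, ha₀, b₀, hb₀, haa₀, hbb₀, hab₀⟩ := hinvol g hg hne
  -- a standard form `t₀ = a * (n a n⁻¹)`
  obtain ⟨a, ha, haa⟩ := S.D₁.exists_sq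
  set a' := n * a * n⁻¹ with ha'def
  have ha' : a' ∈ L₂ := S.sw₁ a ha
  have hnj : n * j * n⁻¹ = j := by rw [← S.nn]; group
  have haa' : a' * a' = j := by
    rw [ha'def, show n * a * n⁻¹ * (n * a * n⁻¹) = n * (a * a) * n⁻¹ by group, haa, hnj]
  set t₀ := a * a' with ht₀
  obtain ⟨h₀, hh₀, hh₀eq⟩ := involutions_conj S.D₁ S.D₂ S.comm ha₀ ha hb₀ ha' haa₀ haa hbb₀ haa'
  -- p : j ↦ t₀
  set p := h₀ * g with hp
  have hpj : p * j * p⁻¹ = t₀ := by
    rw [hp, show h₀ * g * j * (h₀ * g)⁻¹ = h₀ * (g * j * g⁻¹) * h₀⁻¹ by group, ← hab₀, hh₀eq]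
  have ht₀mem : t₀ ∈ L₁ ⊔ L₂ := mul_mem (mem_sup_left ha) (mem_sup_right ha')
  have ht₀j : t₀ ≠ j := by
    intro e
    apply hne
    have : h₀ * t * h₀⁻¹ = j := by rw [ht, ← hab₀, hh₀eq, ← ht₀, e]
    rw [show t = h₀⁻¹ * (h₀ * t * h₀⁻¹) * h₀ by group, this, mul_assoc, S.cen h₀ hh₀,
      inv_mul_cancel_left]
  -- the other image
  have hq : j * (p⁻¹ * j * p⁻¹⁻¹) = p⁻¹ * j * p⁻¹⁻¹ * j := by
    have h := congrArg (fun x => p⁻¹ * x * p) (S.cen t₀ ht₀mem)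
    rw [← hpj] at h
    calc j * (p⁻¹ * j * p⁻¹⁻¹) = p⁻¹ * ((p * j * p⁻¹) * j) * p := by group
      _ = p⁻¹ * (j * (p * j * p⁻¹)) * p := h.symm
      _ = p⁻¹ * j * p⁻¹⁻¹ * j := by group
  have hq' : p⁻¹ * j * p⁻¹⁻¹ ≠ j := by
    intro e
    apply ht₀j
    have h := congrArg (fun x => p * x * p⁻¹) e
    simp only [← hpj]
    calc p * j * p⁻¹ = p * (p⁻¹ * j * p⁻¹⁻¹) * p⁻¹ := h.symm
      _ = j := by group
  obtain ⟨a₁, ha₁, b₁, hb₁, haa₁, hbb₁, hab₁⟩ := hinvol p⁻¹ hq hq'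
  obtain ⟨h₁, hh₁, hh₁eq⟩ := involutions_conj S.D₁ S.D₂ S.comm ha₁ ha hb₁ ha' haa₁ haa hbb₁ haa'
  -- k : t₀ ↔ j
  set k := h₁ * p⁻¹ with hk
  have hkt : k * t₀ * k⁻¹ = j := by
    rw [hk, ← hpj, show h₁ * p⁻¹ * (p * j * p⁻¹) * (h₁ * p⁻¹)⁻¹ = h₁ * j * h₁⁻¹ by group,
      ← S.cen h₁ hh₁, mul_inv_cancel_right]
  have hkj : k * j * k⁻¹ = t₀ := by
    rw [hk, show h₁ * p⁻¹ * j * (h₁ * p⁻¹)⁻¹ = h₁ * (p⁻¹ * j * p⁻¹⁻¹) * h₁⁻¹ by group, ← hab₁, hh₁eq]
  obtain ⟨u, hu, huu, hua⟩ := S.D₁.invert a ha haa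
  set u' := n * u * n⁻¹ with hu'def
  have hu' : u' ∈ L₂ := S.sw₁ u hu
  have huu' : u' * u' = j := by
    rw [hu'def, show n * u * n⁻¹ * (n * u * n⁻¹) = n * (u * u) * n⁻¹ by group, huu, hnj]
  set U := u * u' with hU
  have hUU : U * U = 1 := by rw [hU, mul_mem_pair S.comm hu' hu, huu, huu', S.jj]
  have hnsq : ∀ x ∈ L₁, n * (n * x * n⁻¹) * n⁻¹ = x := fun x hx => by
    rw [show n * (n * x * n⁻¹) * n⁻¹ = (n * n) * x * (n * n)⁻¹ by group, S.nn, hjx x hx,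
      mul_inv_cancel_right]
  have hnU : n * U * n⁻¹ = U := by
    rw [hU, show n * (u * u') * n⁻¹ = (n * u * n⁻¹) * (n * u' * n⁻¹) by group, ← hu'def, hu'def,
      hnsq u hu, ← hu'def, S.comm u hu u' hu']
  have hnt : n * t₀ * n⁻¹ = t₀ := by
    rw [ht₀, show n * (a * a') * n⁻¹ = (n * a * n⁻¹) * (n * a' * n⁻¹) by group, ← ha'def, ha'def,
      hnsq a ha, ← ha'def, S.comm a ha a' ha']
  have hUt : U * t₀ * U⁻¹ = t₀ := by
    have hu'a : u' * a' * u'⁻¹ = a'⁻¹ := by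
      rw [hu'def, ha'def, show n * u * n⁻¹ * (n * a * n⁻¹) * (n * u * n⁻¹)⁻¹ = n * (u * a * u⁻¹) * n⁻¹ by group,
        hua]
      group
    have hjc : (j : G) * a' = a' * j := S.cen a' (mem_sup_right ha')
    rw [hU, ht₀, mul_mem_pair S.comm hu' ha, mul_inv_rev, ← S.comm _ (inv_mem hu) _ (inv_mem hu'),
      mul_mem_pair S.comm (mul_mem hu' ha') (inv_mem hu), hua, hu'a, hinv haa, hinv haa', mul_assoc,
      ← mul_assoc j a' j, hjc, mul_assoc, S.jj, mul_one]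
  -- images
  set v := k * n * k⁻¹ with hv
  set w := k * U * k⁻¹ with hw
  have hv2 : v * v = t₀ := by
    rw [hv, show k * n * k⁻¹ * (k * n * k⁻¹) = k * (n * n) * k⁻¹ by group, S.nn, hkj]
  have hw2 : w * w = 1 := by
    rw [hw, show k * U * k⁻¹ * (k * U * k⁻¹) = k * (U * U) * k⁻¹ by group, hUU]; group
  have hvw : v * w = w * v := by
    have h' : n * U = U * n := mul_inv_eq_iff_eq_mul.1 hnU
    rw [hv, hw, show k * n * k⁻¹ * (k * U * k⁻¹) = k * (n * U) * k⁻¹ by group, h']; group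
  have hconjc : ∀ x y : G, x * y = y * x → k * x * k⁻¹ * (k * y * k⁻¹) = k * y * k⁻¹ * (k * x * k⁻¹) := by
    intro x y h
    rw [show k * x * k⁻¹ * (k * y * k⁻¹) = k * (x * y) * k⁻¹ by group, h]; group
  have hwj : j * w = w * j := by
    rw [hw, ← hkt]; exact hconjc _ _ (mul_inv_eq_iff_eq_mul.1 hUt).symm
  have hwt : t₀ * w = w * t₀ := by
    rw [hw, ← hkj]; exact hconjc _ _ (S.cen U (mul_mem (mem_sup_left hu) (mem_sup_right hu')))
  have hvj : j * v = v * j := by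
    rw [hv, ← hkt]; exact hconjc _ _ (mul_inv_eq_iff_eq_mul.1 hnt).symm
  -- w is not one of 1, j, t₀, t₀ j
  have hUne : U ≠ 1 ∧ U ≠ j ∧ U ≠ t₀ ∧ U ≠ t₀ * j := by
    have key : ∀ c ∈ L₁, ∀ d ∈ L₂, U = c * d → u = c ∨ u = c * j := fun c hc d hd e => by
      rcases pair_unique S.meet S.jj hjx hu hc hu' hd e with h | h
      · exact Or.inl h.1
      · exact Or.inr h.1
    have hu1 : u ≠ 1 := fun e => S.jne (by rw [← huu, e, one_mul])
    have huj : u ≠ j := fun e => S.jne (by rw [← huu, e, S.jj])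
    have hua' : u * a ≠ a * u := fun e => S.jne (by
      rw [← haa]
      rw [e, mul_inv_cancel_right] at hua
      exact eq_inv_iff_mul_eq_one.1 hua)
    have hno : ∀ d ∈ L₂, U ≠ a * d := fun d hd e => hua' (by
      rcases key a ha d hd e with rfl | h
      · rfl
      · rw [h, mul_assoc a j, hjx a ha])
    refine ⟨fun e => ?_, fun e => ?_, hno a' ha', fun e => hno (a' * j) (mul_mem ha' S.D₂.jmem)
      (e.trans (mul_assoc _ _ _))⟩
    · rcases key 1 (one_mem _) 1 (one_mem _) (by rw [e, one_mul]) with h | h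
      · exact hu1 h
      · exact huj (by rwa [one_mul] at h)
    · rcases key j S.D₁.jmem 1 (one_mem _) (by rw [e, mul_one]) with h | h
      · exact huj h
      · exact hu1 (by rwa [S.jj] at h)
  obtain ⟨hU1, hUj, hUt0, hUtj⟩ := hUne
  have hwback : ∀ x, w = k * x * k⁻¹ → U = x := fun x h => mul_left_cancel (mul_right_cancel h)
  have hw1 : w ≠ 1 := fun e => hU1 (hwback 1 (by rw [e]; group))
  have hwj' : w ≠ j := fun e => hUt0 (hwback t₀ (by rw [e, hkt]))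
  have hwt' : w ≠ t₀ := fun e => hUj (hwback j (by rw [e, hkj]))
  have hwtj : w ≠ t₀ * j := fun e => hUtj (hwback (t₀ * j) (by
    rw [e, show k * (t₀ * j) * k⁻¹ = (k * t₀ * k⁻¹) * (k * j * k⁻¹) by group, hkt, hkj, S.cen t₀ ht₀mem]))
  obtain ⟨x, hx, y, hy, hxx, hyy, hxy⟩ :=
    involution_pair S.D₁ S.D₂ S.meet S.jj S.comm (S.invol_mem hwj hw2) hw2 hw1 hwj'
  -- both components invert
  have hxa : x * a = a * x * j ∧ y * a' = a' * y * j := by
    have h1 : (a * x) * (a' * y) = (x * a) * (y * a') := by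
      rw [← mul_mem_pair S.comm ha' hx, ← mul_mem_pair S.comm hy ha, hxy]; exact hwt
    rcases pair_unique S.meet S.jj hjx (mul_mem ha hx) (mul_mem hx ha) (mul_mem ha' hy) (mul_mem hy ha') h1 with
      ⟨h2, h3⟩ | ⟨h2, h3⟩
    · exfalso
      rcases S.D₁.comm_eq a ha x hx haa hxx h2 with hx1 | hx1 <;>
        rcases S.D₂.comm_eq a' ha' y hy haa' hyy h3 with hy1 | hy1
      · exact hwt' (by rw [← hxy, hx1, hy1])
      · exact hwtj (by rw [← hxy, hx1, hy1, ← mul_assoc])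
      · exact hwtj (by rw [← hxy, hx1, hy1, ht₀, mul_assoc, S.cen a' (mem_sup_right ha'), ← mul_assoc])
      · exact hwt' (by rw [← hxy, hx1, hy1, ht₀, mul_assoc a j, ← mul_assoc j a' j,
          S.cen a' (mem_sup_right ha'), mul_assoc a', S.jj, mul_one])
    · refine ⟨?_, ?_⟩
      · rw [h2, mul_assoc, S.jj, mul_one]
      · rw [h3, S.cen _ (mem_sup_right (mul_mem hy ha')), mul_assoc (y * a') j j, S.jj, mul_one]
  obtain ⟨hxa, hya⟩ := hxa
  -- coset elements with square t₀ invert a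
  have hcoset : ∀ c ∈ L₁, ∀ d ∈ L₂, (c * d * n) * (c * d * n) = t₀ → c * a = a * c * j := by
    intro c hc d hd h
    set d₁ := n * d * n⁻¹ with hd₁
    set c₁ := n * c * n⁻¹ with hc₁
    have hd₁m : d₁ ∈ L₁ := S.sw₂ d hd
    have hc₁m : c₁ ∈ L₂ := S.sw₁ c hc
    have h1 : (c * d₁) * ((d * c₁) * j) = a * a' := by
      rw [← ht₀, ← h]
      calc (c * d₁) * ((d * c₁) * j) = (c * d) * (d₁ * c₁) * (n * n) := by
            rw [mul_mem_pair S.comm hd hd₁m, S.nn, ← mul_assoc (c * d₁)]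
        _ = (c * d) * (c₁ * d₁) * (n * n) := by rw [S.comm _ hd₁m _ hc₁m]
        _ = _ := by rw [hc₁, hd₁]; group
    have hnd : n * (d * c₁) * n⁻¹ = d₁ * c := by
      rw [show n * (d * c₁) * n⁻¹ = (n * d * n⁻¹) * (n * c₁ * n⁻¹) by group, ← hd₁, hc₁, hnsq c hc]
    have hcj : c * j = j * c := (hjx c hc).symm
    rcases pair_unique S.meet S.jj hjx (mul_mem hc hd₁m) ha (mul_mem (mul_mem hd hc₁m) S.D₂.jmem) ha' h1 with
      ⟨h2, h3⟩ | ⟨h2, h3⟩
    · have h4 : d * c₁ = a' * j := by rw [← h3, mul_assoc _ j j, S.jj, mul_one]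
      have h5 : n * (a' * j) * n⁻¹ = a * j := by
        rw [show n * (a' * j) * n⁻¹ = (n * a' * n⁻¹) * (n * j * n⁻¹) by group, hnj, ha'def, hnsq a ha]
      rw [h4, h5] at hnd
      have h6 : c * (d₁ * c) = (c * d₁) * c := (mul_assoc _ _ _).symm
      rw [h2, ← hnd] at h6
      -- h6 : c * (a * j) = a * c
      rw [← mul_assoc] at h6
      calc c * a = c * a * j * j := by rw [mul_assoc _ j j, S.jj, mul_one]
        _ = a * c * j := by rw [h6]
    · have h4 : d * c₁ = a' := by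
        rw [S.cen a' (mem_sup_right ha')] at h3
        exact mul_right_cancel h3
      rw [h4] at hnd
      have h5 : n * a' * n⁻¹ = a := by rw [ha'def, hnsq a ha]
      rw [h5] at hnd
      have h6 : c * (d₁ * c) = (c * d₁) * c := (mul_assoc _ _ _).symm
      rw [h2, ← hnd, mul_assoc a j c, ← hcj, ← mul_assoc] at h6
      exact h6
  rcases S.cov v hvj with hvm | hvm
  · -- v in L₁L₂
    obtain ⟨c, hc, d, hd, hcd⟩ := (mem_sup_iff_exists_mul S.comm).1 hvm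
    have h1 : (c * c) * (d * d) = a * a' := by
      rw [← mul_mem_pair S.comm hd hc, hcd, hv2]
    have hcc : c * c = a ∨ c * c = a * j := by
      rcases pair_unique S.meet S.jj hjx (mul_mem hc hc) ha (mul_mem hd hd) ha' h1 with h | h
      · exact Or.inl h.1
      · exact Or.inr h.1
    have h2 : (c * x) * (d * y) = (x * c) * (y * d) := by
      rw [← mul_mem_pair S.comm hd hx, ← mul_mem_pair S.comm hy hc, hcd, hxy]; exact hvw
    have hxc : x * (c * c) = (c * c) * x := by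
      rcases pair_unique S.meet S.jj hjx (mul_mem hc hx) (mul_mem hx hc) (mul_mem hd hy) (mul_mem hy hd) h2 with
        h | h
      · rw [← mul_assoc, ← h.1, mul_assoc, ← h.1, mul_assoc]
      · have e : x * c = c * x * j := by rw [h.1, mul_assoc, S.jj, mul_one]
        calc x * (c * c) = (x * c) * c := (mul_assoc _ _ _).symm
          _ = c * x * j * c := by rw [e]
          _ = c * (x * c) * j := by simp only [mul_assoc, hjx c hc]
          _ = c * c * x := by rw [e]; simp only [mul_assoc, S.jj, mul_one]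
    have hcomm' : x * a = a * x := by
      rcases hcc with e | e <;> rw [e] at hxc
      · exact hxc
      · rw [mul_assoc a j x, hjx x hx, ← mul_assoc, ← mul_assoc] at hxc
        exact mul_right_cancel hxc
    rw [hxa] at hcomm'
    exact S.jne (mul_left_cancel (hcomm'.trans (mul_one _).symm))
  · -- v in the other coset
    obtain ⟨c, hc, d, hd, hcd⟩ := (mem_sup_iff_exists_mul S.comm).1 hvm
    have hv' : c * d * n = v := by rw [hcd, inv_mul_cancel_right]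
    have hc1 := hcoset c hc d hd (by rw [hv', hv2])
    have hvw2 : (v * w) * (v * w) = t₀ := by
      rw [show v * w * (v * w) = v * (w * v) * w by group, ← hvw,
        show v * (v * w) * w = (v * v) * (w * w) by group, hv2, hw2, mul_one]
    have hform : v * w = (c * (n * y * n⁻¹)) * (d * (n * x * n⁻¹)) * n := by
      rw [← mul_mem_pair S.comm hd (S.sw₂ y hy), S.comm _ (S.sw₂ y hy) _ (S.sw₁ x hx), ← hv', ← hxy]
      group
    have hy1 : n * y * n⁻¹ ∈ L₁ := S.sw₂ y hy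
    have hc2 := hcoset _ (mul_mem hc hy1) _ (mul_mem hd (S.sw₁ x hx)) (by rw [← hform, hvw2])
    set y₁ := n * y * n⁻¹
    have hy1a : y₁ * a = a * y₁ * j := by
      have h := congrArg (fun z => n * z * n⁻¹) hya
      calc y₁ * a = n * (y * a') * n⁻¹ := by
            rw [show n * (y * a') * n⁻¹ = (n * y * n⁻¹) * (n * a' * n⁻¹) by group, ha'def, hnsq a ha]
        _ = n * (a' * y * j) * n⁻¹ := h
        _ = _ := by
            rw [show n * (a' * y * j) * n⁻¹ = (n * a' * n⁻¹) * (n * y * n⁻¹) * (n * j * n⁻¹) by group,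
              hnj, ha'def, hnsq a ha]
    have hcc : c * y₁ * a = a * (c * y₁) := by
      calc c * y₁ * a = c * (a * y₁ * j) := by rw [mul_assoc, hy1a]
        _ = (c * a) * (y₁ * j) := by simp only [mul_assoc]
        _ = a * c * (j * y₁) * j := by rw [hc1]; simp only [mul_assoc]
        _ = a * (c * y₁) := by rw [hjx y₁ hy1]; simp only [mul_assoc, S.jj, mul_one]
    rw [hcc] at hc2
    exact S.jne (mul_left_cancel (hc2.symm.trans (mul_one _).symm))

end CfsgLib.Inv53
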