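import Cfsg.Agent.TwoGroupsQ.UniqueInvolution
import Mathlib.GroupTheory.SpecificGroups.Quaternion
import Mathlib.GroupTheory.OrderOfElement
import Mathlib.GroupTheory.PGroup

/-!
# 2-groups with a generalised quaternion central quotient
-/

namespace CfsgLib.Inv53

open Subgroup

/-- Generators of a non-abelian finite 2-group with exactly one involution. -/
theorem exists_quaternion_data {Q : Type*} [Group Q] [Finite Q] (hQ : IsPGroup 2 Q)
    (hna : ¬ IsMulCommutative Q) (hu : ∃! x : Q, orderOf x = 2) :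
    ∃ (x y : Q) (m : ℕ), orderOf x = 2 ^ (m + 2) ∧ y * x * y⁻¹ = x⁻¹ ∧ y ^ 2 = x ^ 2 ^ (m + 1) ∧
      (∀ g, g ∈ zpowers x ∨ g * y ∈ zpowers x) ∧
      (∀ c, (∀ g, g * c = c * g) → c = 1 ∨ c = x ^ 2 ^ (m + 1)) := by
  haveI : Fact (Nat.Prime 2) := ⟨Nat.prime_two⟩
  obtain ⟨t, ht, huniq⟩ := hu
  have hq : CfsgLib.TwoGroupsQ.HasUniqueOrderP Q 2 :=
    CfsgLib.TwoGroupsQ.hasUniqueOrderP_two fun a b ha ha1 hb hb1 =>
      (huniq a (orderOf_eq_prime ha ha1)).trans (huniq b (orderOf_eq_prime hb hb1)).symm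
  rcases CfsgLib.TwoGroupsQ.isCyclic_or_quaternion hQ hq with hc | ⟨-, k, hk, ⟨e⟩⟩
  · exact absurd ⟨⟨fun a b => by
      obtain ⟨g, hg⟩ := hc.exists_generator
      obtain ⟨i, rfl⟩ := hg a
      obtain ⟨j, rfl⟩ := hg b
      exact (Commute.zpow_zpow_self g i j).eq⟩⟩ hna
  obtain ⟨m, rfl⟩ : ∃ m, k = m + 1 := ⟨k - 1, by omega⟩
  haveI : NeZero (2 ^ (m + 1)) := ⟨by positivity⟩
  set N := 2 ^ (m + 1) with hN
  set x := e.symm (QuaternionGroup.a 1) with hx
  set y := e.symm (QuaternionGroup.xa 0) with hy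
  have hxo : orderOf x = 2 ^ (m + 2) := by
    rw [hx, MulEquiv.orderOf_eq, QuaternionGroup.orderOf_a_one, hN]; ring
  have hyx : y * x * y⁻¹ = x⁻¹ := by
    rw [mul_inv_eq_iff_eq_mul, hx, hy, ← map_inv, ← map_mul, ← map_mul, eq_comm]
    congr 1
    rw [eq_comm, eq_inv_mul_iff_mul_eq]
    simp
  have hy2 : y ^ 2 = x ^ N := by
    rw [hx, hy, ← map_pow, ← map_pow]
    congr 1
    simp
  have hcov : ∀ g, g ∈ zpowers x ∨ g * y ∈ zpowers x := by
    intro g
    have hmem : ∀ i : ZMod (2 * N), e.symm (QuaternionGroup.a i) ∈ zpowers x := fun i => by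
      rw [← i.natCast_rightInverse, ← QuaternionGroup.a_one_pow, map_pow]
      exact pow_mem (mem_zpowers x) _
    obtain ⟨g, rfl⟩ := e.symm.surjective g
    cases g with
    | a i => exact Or.inl (hmem i)
    | xa i => right; rw [hy, ← map_mul, QuaternionGroup.xa_mul_xa]; exact hmem _
  refine ⟨x, y, m, hxo, hyx, hy2, hcov, fun c hc => ?_⟩
  rcases hcov c with h | h
  · obtain ⟨i, rfl⟩ := h
    simp only at hc ⊢
    have h1 : (x ^ i) * (x ^ i) = 1 := by
      have h2 := hc y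
      have h3 : y * x ^ i * y⁻¹ = (x ^ i)⁻¹ := by rw [← conj_zpow, hyx, inv_zpow]
      rw [h2, mul_inv_cancel_right] at h3
      nth_rewrite 2 [h3]
      exact mul_inv_cancel _
    by_cases hi : x ^ i = 1
    · exact Or.inl hi
    refine Or.inr ?_
    have e1 := huniq _ (orderOf_eq_prime (by rw [sq]; exact h1) hi)
    have e2 := huniq (x ^ N) (orderOf_eq_prime (by
        rw [← pow_mul, hN, ← pow_succ, ← hxo, pow_orderOf_eq_one]) (fun h => by
      have h4 := orderOf_dvd_of_pow_eq_one h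
      rw [hxo, hN, Nat.pow_dvd_pow_iff_le_right (by norm_num)] at h4
      omega))
    exact e1.trans e2.symm
  · exfalso
    obtain ⟨i, hi⟩ := h
    simp only at hi
    have hxc : x * c = c * x := hc x
    have hcy : x * (c * y) = (c * y) * x := by
      rw [← hi]; exact ((Commute.refl x).zpow_right i).eq
    have h1 : x * y = y * x := by
      rw [← mul_assoc, hxc, mul_assoc, mul_assoc] at hcy
      exact mul_left_cancel hcy
    rw [← h1, mul_inv_cancel_right] at hyx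
    have h2 : x ^ 2 = 1 := by rw [sq]; nth_rewrite 2 [hyx]; exact mul_inv_cancel x
    have h4 := orderOf_dvd_of_pow_eq_one h2
    rw [hxo] at h4
    have := Nat.le_of_dvd two_pos h4
    rw [pow_succ', pow_succ'] at this
    have : 1 ≤ 2 ^ m := Nat.one_le_two_pow
    omega

/-- Lifts to `S` of quaternion generators of `S ⧸ D`, for `D` central. -/
theorem exists_lift_data {S : Type*} [Group S] [Finite S] (hS : IsPGroup 2 S) (D : Subgroup S)
    [D.Normal] (hD : D ≤ Subgroup.center S) (hna : ¬ IsMulCommutative (S ⧸ D))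
    (hu : ∃! x : S ⧸ D, orderOf x = 2) :
    ∃ (x y : S) (m : ℕ), x ^ 2 ^ (m + 2) ∈ D ∧ x ^ 2 ^ (m + 1) ∉ D ∧ y * x * y⁻¹ * x ∈ D ∧
      x ^ 2 ^ (m + 1) * (y ^ 2)⁻¹ ∈ D ∧
      (∀ g, ∃ i : ℤ, g * (x ^ i)⁻¹ ∈ D ∨ g * y * (x ^ i)⁻¹ ∈ D) ∧
      (∀ c ∈ Subgroup.center S, c ∈ D ∨ c * (x ^ 2 ^ (m + 1))⁻¹ ∈ D) := by
  obtain ⟨x', y', m, hxo, hyx, hy2, hcov, hcen⟩ :=
    exists_quaternion_data (hS.to_quotient D) hna hu
  obtain ⟨x, rfl⟩ := QuotientGroup.mk'_surjective D x'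
  obtain ⟨y, rfl⟩ := QuotientGroup.mk'_surjective D y'
  set π := QuotientGroup.mk' D
  have key : ∀ g : S, g ∈ D ↔ π g = 1 := fun g => (QuotientGroup.eq_one_iff g).symm
  refine ⟨x, y, m, ?_, ?_, ?_, ?_, fun g => ?_, fun c hc => ?_⟩
  · rw [key, map_pow, ← hxo, pow_orderOf_eq_one]
  · rw [key, map_pow]
    intro h
    have h4 := orderOf_dvd_of_pow_eq_one h
    rw [hxo, Nat.pow_dvd_pow_iff_le_right (by norm_num)] at h4
    omega
  · rw [key, map_mul, map_mul, map_mul, map_inv, hyx, inv_mul_cancel]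
  · rw [key, map_mul, map_inv, map_pow, map_pow, hy2, mul_inv_cancel]
  · rcases hcov (π g) with h | h <;> obtain ⟨i, hi⟩ := h <;> simp only at hi
    · exact ⟨i, Or.inl (by rw [key, map_mul, map_inv, map_zpow, hi, mul_inv_cancel])⟩
    · exact ⟨i, Or.inr (by rw [key, map_mul, map_mul, map_inv, map_zpow, hi, mul_inv_cancel])⟩
  · rcases hcen (π c) (fun g => by
      obtain ⟨g, rfl⟩ := QuotientGroup.mk'_surjective D g
      rw [← map_mul, ← map_mul, mem_center_iff.1 hc g]) with h | h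
    · exact Or.inl ((key c).2 h)
    · exact Or.inr (by rw [key, map_mul, map_inv, map_pow, h, mul_inv_cancel])

end CfsgLib.Inv53
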