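import Cfsg.Agent.Characters.Exceptional
import Cfsg.Agent.Characters.Induction
import Cfsg.Agent.Characters.Burnside
import Cfsg.Agent.Characters.Classes
import Cfsg.Agent.Characters.Linear

/-!
# The permutation character on the cosets of a complement of an abelian CC-subgroup

Let `H` be an abelian subgroup containing the centraliser of each of its non-identity elements, and
`A` a subgroup of complementary and coprime order.  Every non-principal constituent of the permutation
character on `G ⧸ A` has degree prime to `|H|`; so in a simple group an element whose class has `|H|`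
members fixes just one point.
-/

set_option autoImplicit false
set_option linter.unusedSectionVars false

namespace CfsgLib.Inv53.ExceptionalPerm

open CfsgLib.Characters
open scoped ComplexConjugate

universe u

variable {G : Type u} [Group G] [Fintype G] {H : Subgroup G}

/-- The hypothesis on `H`. -/
structure CC (H : Subgroup G) : Prop where
  comm : ∀ a ∈ H, ∀ b ∈ H, a * b = b * a
  cent : ∀ a ∈ H, a ≠ 1 → ∀ g : G, g * a = a * g → g ∈ H
  nt : H ≠ ⊥

theorem CC.mem_normalizer (hH : CC H) {a g : G} (ha : a ∈ H) (ha1 : a ≠ 1) (hga : g⁻¹ * a * g ∈ H) :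
    g ∈ Subgroup.normalizer (H : Set G) := by
  have hb1 : g⁻¹ * a * g ≠ 1 := fun h => ha1 (conj_eq_one_iff.1 (show g⁻¹ * a * g⁻¹⁻¹ = 1 by simpa using h))
  rw [Subgroup.mem_normalizer_iff]
  intro x
  constructor
  · intro hx
    refine hH.cent a ha ha1 _ ?_
    calc g * x * g⁻¹ * a = g * (x * (g⁻¹ * a * g)) * g⁻¹ := by group
      _ = g * ((g⁻¹ * a * g) * x) * g⁻¹ := by rw [hH.comm x hx _ hga]
      _ = a * (g * x * g⁻¹) := by group
  · intro hx
    refine hH.cent _ hga hb1 _ ?_
    calc x * (g⁻¹ * a * g) = g⁻¹ * ((g * x * g⁻¹) * a) * g := by group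
      _ = g⁻¹ * (a * (g * x * g⁻¹)) * g := by rw [hH.comm _ hx a ha]
      _ = g⁻¹ * a * g * x := by group

theorem conj_mem' {x : G} (hx : x ∈ Subgroup.normalizer (H : Set G)) {a : G} (ha : a ∈ H) :
    x⁻¹ * a * x ∈ H := by
  have := (Subgroup.mem_normalizer_iff.1 (inv_mem hx) a).1 ha
  rwa [inv_inv] at this

/-- Conjugation by an element of the normaliser. -/
noncomputable def conjHom (x : Subgroup.normalizer (H : Set G)) : H →* H where
  toFun a := ⟨(x : G)⁻¹ * a * x, conj_mem' x.2 a.2⟩
  map_one' := Subtype.ext (by simp)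
  map_mul' a b := Subtype.ext (by simp; group)

theorem conjHom_surjective (x : Subgroup.normalizer (H : Set G)) : Function.Surjective (conjHom x) :=
  fun a => ⟨⟨x * a * (x : G)⁻¹, (Subgroup.mem_normalizer_iff.1 x.2 a).1 a.2⟩,
    Subtype.ext (by simp [conjHom]; group)⟩

/-- A twisted character. -/
noncomputable def tw (θ : Cfsg.IrrCharacter H) (x : Subgroup.normalizer (H : Set G)) : Cfsg.IrrCharacter H :=
  ⟨fun a => (θ : H → ℂ) (conjHom x a), isIrr_comp (conjHom x) (conjHom_surjective x) θ.2⟩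

theorem tw_apply (θ : Cfsg.IrrCharacter H) (x : Subgroup.normalizer (H : Set G)) (a : H) :
    (tw θ x : H → ℂ) a = (θ : H → ℂ) (conjHom x a) := rfl

theorem tw_tw (θ : Cfsg.IrrCharacter H) (x y : Subgroup.normalizer (H : Set G)) :
    tw (tw θ x) y = tw θ (y * x) := by
  apply Subtype.ext; funext a
  simp only [tw_apply]
  refine congrArg (θ : H → ℂ) (Subtype.ext ?_)
  show (x : G)⁻¹ * ((y : G)⁻¹ * a * y) * x = ((y * x : Subgroup.normalizer (H : Set G)) : G)⁻¹ * a * _
  simp only [Subgroup.coe_mul]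
  group

theorem tw_one (θ : Cfsg.IrrCharacter H) : tw θ 1 = θ := by
  apply Subtype.ext; funext a
  simp only [tw_apply]
  refine congrArg (θ : H → ℂ) (Subtype.ext ?_)
  show ((1 : Subgroup.normalizer (H : Set G)) : G)⁻¹ * a * _ = _
  simp

theorem tw_of_mem (hH : CC H) (θ : Cfsg.IrrCharacter H) {x : Subgroup.normalizer (H : Set G)} (hx : (x : G) ∈ H) :
    tw θ x = θ := by
  apply Subtype.ext; funext a
  simp only [tw_apply]
  refine congrArg (θ : H → ℂ) (Subtype.ext ?_)
  show (x : G)⁻¹ * a * x = a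
  rw [mul_assoc, hH.comm _ a.2 _ hx, inv_mul_cancel_left]

theorem irr_one (hH : CC H) (θ : Cfsg.IrrCharacter H) : (θ : H → ℂ) 1 = 1 := by
  obtain ⟨n, ρ, hρ, h⟩ := θ.2
  haveI : IsMulCommutative H := ⟨⟨fun a b => Subtype.ext (hH.comm _ a.2 _ b.2)⟩⟩
  rw [← h, Representation.char_one,
    Representation.IsIrreducible.finrank_eq_one_of_isMulCommutative ρ, Nat.cast_one]

/-- The twisting action is free away from the principal character. -/
theorem tw_free (hH : CC H) (θ : Cfsg.IrrCharacter H) (hθ : (θ : H → ℂ) ≠ fun _ => 1)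
    (x : Subgroup.normalizer (H : Set G)) (h : tw θ x = θ) : (x : G) ∈ H := by
  by_contra hx
  obtain ⟨f, hf⟩ := exists_hom_of_degree_one (isCharacter_of_isIrr θ.2) (irr_one hH θ)
  let c : H → H := fun a => conjHom x a * a⁻¹
  have hinj : Function.Injective c := by
    intro a b hab
    have h1 : conjHom x (a * b⁻¹) = a * b⁻¹ := by
      have hc : ∀ p q : H, p * q = q * p := fun p q => Subtype.ext (hH.comm _ p.2 _ q.2)
      have hab' : conjHom x a * a⁻¹ = conjHom x b * b⁻¹ := hab
      rw [map_mul, map_inv]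
      calc conjHom x a * (conjHom x b)⁻¹ = (conjHom x a * a⁻¹) * (a * (conjHom x b)⁻¹) := by group
        _ = (conjHom x b * b⁻¹) * (a * (conjHom x b)⁻¹) := by rw [hab']
        _ = (a * (conjHom x b)⁻¹) * (conjHom x b * b⁻¹) := hc _ _
        _ = a * b⁻¹ := by group
    by_contra hne
    have hd : ((a * b⁻¹ : H) : G) ≠ 1 := fun e => hne (mul_inv_eq_one.1 (Subtype.ext e))
    refine hx (hH.cent _ (a * b⁻¹).2 hd _ ?_)
    have h2 : (x : G)⁻¹ * ((a * b⁻¹ : H) : G) * x = ((a * b⁻¹ : H) : G) := congrArg Subtype.val h1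
    calc (x : G) * ((a * b⁻¹ : H) : G) = x * ((x : G)⁻¹ * ((a * b⁻¹ : H) : G) * x) := by rw [h2]
      _ = ((a * b⁻¹ : H) : G) * x := by group
  refine hθ (funext fun a => ?_)
  obtain ⟨b, rfl⟩ := (Finite.injective_iff_surjective.1 hinj) a
  have h2 : (θ : H → ℂ) (conjHom x b) = (θ : H → ℂ) b := by
    rw [← tw_apply, h]
  rw [hf] at h2 ⊢
  have h3 : f (conjHom x b) = f b := Units.ext h2
  simp [c, map_mul, map_inv, h3]

/-- The norm of a difference of induced characters. -/
theorem norm_diff (hH : CC H) (θ θ' : Cfsg.IrrCharacter H) (h1 : (θ : H → ℂ) ≠ fun _ => 1)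
    (h1' : (θ' : H → ℂ) ≠ fun _ => 1) (hne : ∀ x, tw θ x ≠ θ') :
    Cfsg.classInner (Cfsg.indFun H ((θ : H → ℂ) - θ')) (Cfsg.indFun H ((θ : H → ℂ) - θ')) = 2 := by
  classical
  haveI := Fintype.ofFinite H
  set N := Subgroup.normalizer (H : Set G) with hN
  haveI := Fintype.ofFinite N
  set φ : H → ℂ := (θ : H → ℂ) - θ' with hφ
  have hφ1 : φ 1 = 0 := by simp [hφ, irr_one hH]
  have hres : (fun a : H => Cfsg.indFun H φ (a : G)) =
      fun a => (Nat.card H : ℂ)⁻¹ * ∑ x : N, φ (conjHom x a) := by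
    funext a
    by_cases ha : a = 1
    · subst ha
      rw [Subgroup.coe_one, indFun_one, hφ1, mul_zero, Finset.sum_eq_zero, mul_zero]
      intro x _
      rw [map_one, hφ1]
    simp only [Cfsg.indFun]
    congr 1
    rw [← Finset.sum_filter_add_sum_filter_not Finset.univ (· ∈ N),
      Finset.sum_eq_zero (s := Finset.univ.filter (· ∉ N)), add_zero,
      Finset.sum_subtype (p := (· ∈ N)) _ (by simp)]
    · refine Finset.sum_congr rfl fun x _ => ?_
      rw [extendByZero_of_mem H φ (conj_mem' x.2 a.2)]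
      rfl
    · intro x hx
      refine extendByZero_of_not_mem H φ fun h => (Finset.mem_filter.1 hx).2 ?_
      exact hH.mem_normalizer a.2 (fun e => ha (Subtype.ext e)) h
  rw [classInner_indFun H φ (isClassFunction_indFun H φ), hres]
  have hconv : (fun a : H => (Nat.card H : ℂ)⁻¹ * ∑ x : N, φ (conjHom x a)) =
      (Nat.card H : ℂ)⁻¹ • ∑ x : N, ((tw θ x : H → ℂ) - (tw θ' x : H → ℂ)) := by
    funext a
    simp [hφ, tw_apply]
  rw [hconv, classInner_smul_right, classInner_sum_right]
  have hterm : ∀ x : N, Cfsg.classInner φ ((tw θ x : H → ℂ) - (tw θ' x : H → ℂ)) =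
      if (x : G) ∈ H then 2 else 0 := by
    intro x
    rw [hφ, classInner_sub_left, classInner_sub_right, classInner_sub_right, classInner_irr, classInner_irr,
      classInner_irr, classInner_irr]
    have e1 : ¬ θ' = tw θ x := fun e => hne x e.symm
    have e2 : ¬ θ = tw θ' x := fun e => hne x⁻¹ (by rw [e, tw_tw, inv_mul_cancel, tw_one])
    split_ifs with a b c d <;> norm_num
    all_goals first
      | exact absurd (tw_of_mem hH θ ‹(x : G) ∈ H›).symm ‹_›
      | exact absurd (tw_of_mem hH θ' ‹(x : G) ∈ H›).symm ‹_›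
      | exact absurd (tw_free hH θ h1 x (Eq.symm ‹θ = tw θ x›)) ‹_›
      | exact absurd (tw_free hH θ' h1' x (Eq.symm ‹θ' = tw θ' x›)) ‹_›
      | skip
  rw [Finset.sum_congr rfl fun x _ => hterm x, ← Finset.sum_filter, Finset.sum_const, nsmul_eq_mul]
  have hcard : (Finset.univ.filter fun x : N => (x : G) ∈ H).card = Nat.card H := by
    rw [← Fintype.card_subtype, ← Nat.card_eq_fintype_card]
    exact Nat.card_congr (Subgroup.subgroupOfEquivOfLe Subgroup.le_normalizer).toEquiv
  rw [hcard]
  simp only [map_inv₀, map_natCast]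
  field_simp [subgroup_card_ne_zero H]

/-- Natural multiplicities of the restriction. -/
theorem exists_mult [Fintype H] (χ : Cfsg.IrrCharacter G) (θ : Cfsg.IrrCharacter H) :
    ∃ k : ℕ, Cfsg.classInner (fun a : H => (χ : G → ℂ) a) (θ : H → ℂ) = k :=
  classInner_characters (isCharacter_restrict H (isCharacter_of_isIrr χ.2)) (isCharacter_of_isIrr θ.2)

variable {A : Subgroup G}

/-- The degree of a non-principal constituent is prime to `|H|`. -/
theorem constituent_coprime (hH : CC H) (hcard : Nat.card A * Nat.card H = Nat.card G)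
    (hcop : Nat.Coprime (Nat.card A) (Nat.card H)) (χ : Cfsg.IrrCharacter G)
    (hχ1 : (χ : G → ℂ) ≠ fun _ => 1)
    (hχ : Cfsg.classInner (Cfsg.indFun A (fun _ => (1 : ℂ))) (χ : G → ℂ) ≠ 0) :
    ∃ d : ℕ, (χ : G → ℂ) 1 = d ∧ d.Coprime (Nat.card H) := by
  classical
  haveI := Fintype.ofFinite H
  haveI := Fintype.ofFinite A
  set π := Cfsg.indFun A (fun _ => (1 : ℂ)) with hπ
  have hπc : Cfsg.IsCharacter G π := isCharacter_indFun A isCharacter_one
  obtain ⟨m, hm⟩ := exists_nat_coeff hπc
  have hmχ : ∀ ψ : Cfsg.IrrCharacter G, Cfsg.classInner π (ψ : G → ℂ) = m ψ := fun ψ => by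
    rw [hm]; exact classInner_irr_coeff (fun ψ => (m ψ : ℂ)) ψ
  choose M hM using fun (ψ : Cfsg.IrrCharacter G) (θ : Cfsg.IrrCharacter H) => exists_mult ψ θ
  -- the permutation character restricts to the regular character
  have hidx : A.index = Nat.card H := by
    have := A.card_mul_index
    rw [← hcard] at this
    exact Nat.eq_of_mul_eq_mul_left Nat.card_pos this
  have hreg : ∀ θ : Cfsg.IrrCharacter H, ∑ ψ, m ψ * M ψ θ = 1 := by
    intro θ
    have hv : ∀ a : H, a ≠ 1 → π (a : G) = 0 := fun a ha => by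
      refine indFun_eq_zero_of_forall A _ _ fun x hx => ha ?_
      have h1 : orderOf (x⁻¹ * (a : G) * x) ∣ Nat.card A := Subgroup.orderOf_dvd_natCard A hx
      have e : orderOf (x⁻¹ * (a : G) * x) = orderOf (a : G) :=
        orderOf_injective (MulAut.conj x⁻¹).toMonoidHom (MulAut.conj x⁻¹).injective (a : G) |>.symm.trans
          (by simp) |>.symm
      rw [e] at h1
      have h2 : orderOf (a : G) ∣ Nat.card H := Subgroup.orderOf_dvd_natCard H a.2
      exact Subtype.ext (orderOf_eq_one_iff.1 (Nat.eq_one_of_dvd_coprimes hcop h1 h2))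
    have hL : Cfsg.classInner (fun a : H => π a) (θ : H → ℂ) = 1 := by
      simp only [Cfsg.classInner]
      rw [Finset.sum_eq_single (1 : H) (fun a _ ha => by rw [hv a ha, zero_mul]) (fun h => absurd (Finset.mem_univ _) h),
        irr_one hH, map_one, mul_one, Subgroup.coe_one, hπ, indFun_one, hidx, mul_one,
        inv_mul_cancel₀ (Nat.cast_ne_zero.2 Nat.card_pos.ne')]
    have hR : Cfsg.classInner (fun a : H => π a) (θ : H → ℂ) = ((∑ ψ, m ψ * M ψ θ : ℕ) : ℂ) := by
      have he : (fun a : H => π a) = ∑ ψ : Cfsg.IrrCharacter G, (m ψ : ℂ) • (fun a : H => (ψ : G → ℂ) a) := by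
        funext a
        have := congrFun hm (a : G)
        simp only [Finset.sum_apply, Pi.smul_apply] at this ⊢
        exact this
      rw [he, classInner_sum_left]
      simp only [classInner_smul_left, hM]
      push_cast
      rfl
    exact_mod_cast hR.symm.trans hL
  have huniq : ∀ (θ : Cfsg.IrrCharacter H) (ψ ψ' : Cfsg.IrrCharacter G),
      m ψ * M ψ θ ≠ 0 → m ψ' * M ψ' θ ≠ 0 → ψ = ψ' := by
    intro θ ψ ψ' h h'
    by_contra hne
    have h2 : m ψ * M ψ θ + m ψ' * M ψ' θ ≤ 1 := by
      rw [← hreg θ, ← Finset.sum_pair (f := fun ψ => m ψ * M ψ θ) hne]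
      exact Finset.sum_le_univ_sum_of_nonneg fun _ => Nat.zero_le _
    omega
  have hle : ∀ (θ : Cfsg.IrrCharacter H) (ψ : Cfsg.IrrCharacter G), m ψ ≠ 0 → M ψ θ ≤ 1 := by
    intro θ ψ h
    have h1 : m ψ * M ψ θ ≤ 1 := by
      rw [← hreg θ]; exact Finset.single_le_sum (f := fun ψ => m ψ * M ψ θ) (fun _ _ => Nat.zero_le _) (Finset.mem_univ ψ)
    calc M ψ θ = 1 * M ψ θ := (one_mul _).symm
      _ ≤ m ψ * M ψ θ := Nat.mul_le_mul_right _ (Nat.pos_of_ne_zero h)
      _ ≤ 1 := h1
  have hmc : m χ ≠ 0 := fun h => hχ (by rw [hmχ, h, Nat.cast_zero])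
  -- the principal character
  set oneG : Cfsg.IrrCharacter G := ⟨fun _ => 1, isIrr_one⟩ with honeG
  set oneH : Cfsg.IrrCharacter H := ⟨fun _ => 1, isIrr_one⟩ with honeH
  have hone : m oneG = 1 := by
    have h := classInner_indFun A (fun _ => (1 : ℂ)) (χ := (oneG : G → ℂ)) (isClassFunction_of_isIrr oneG.2)
    rw [← hπ, hmχ] at h
    have h2 : Cfsg.classInner (fun _ : A => (1 : ℂ)) (fun a : A => (oneG : G → ℂ) (a : G)) = 1 :=
      classInner_isIrr_self isIrr_one
    exact_mod_cast h.trans h2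
  have honeM : M oneG oneH = 1 := by
    have h := hM oneG oneH
    rw [show (fun a : H => (oneG : G → ℂ) a) = (oneH : H → ℂ) from rfl, classInner_isIrr_self oneH.2] at h
    exact_mod_cast h.symm
  have hχH : M χ oneH = 0 := by
    by_contra h
    exact hχ1 (congrArg Subtype.val (huniq oneH χ oneG (mul_ne_zero hmc h) (by rw [hone, honeM]; norm_num)))
  set Θ : Finset (Cfsg.IrrCharacter H) := Finset.univ.filter fun θ => M χ θ ≠ 0 with hΘ
  have hdeg : (χ : G → ℂ) 1 = Θ.card := by
    have h := congrFun (character_expansion (isCharacter_restrict H (isCharacter_of_isIrr χ.2))) 1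
    simp only [Finset.sum_apply, Pi.smul_apply, smul_eq_mul, Subgroup.coe_one, irr_one hH, mul_one, hM] at h
    rw [h, ← Nat.cast_sum]
    congr 1
    rw [Finset.card_eq_sum_ones, ← Finset.sum_filter_ne_zero]
    exact Finset.sum_congr rfl fun θ hθ => le_antisymm (hle θ χ hmc) (Nat.pos_of_ne_zero (Finset.mem_filter.1 hθ).2)
  refine ⟨Θ.card, hdeg, ?_⟩
  have hH1 : 1 ≤ Nat.card H := Nat.card_pos
  have hnotone : oneH ∉ Θ := by simp [hΘ, hχH]
  have hnon : ∀ θ, θ ≠ oneH → (θ : H → ℂ) ≠ fun _ => 1 := fun θ h e => h (Subtype.ext e)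
  -- invariance
  have hinv : ∀ θ ∈ Θ, ∀ x, tw θ x ∈ Θ := by
    intro θ hθ x
    have h : M χ (tw θ x) = M χ θ := by
      have h2 : Cfsg.classInner (fun a : H => (χ : G → ℂ) a) (tw θ x : H → ℂ) =
          Cfsg.classInner (fun a : H => (χ : G → ℂ) a) (θ : H → ℂ) := by
        simp only [Cfsg.classInner]
        congr 1
        refine Fintype.sum_bijective (conjHom x) ((Finite.surjective_iff_bijective).1 (conjHom_surjective x)) _ _ fun a => ?_
        rw [tw_apply]
        congr 1
        have := isClassFunction_of_isIrr χ.2 (a : G) (x : G)⁻¹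
        rw [inv_inv] at this
        exact this.symm
      rw [hM, hM] at h2
      exact_mod_cast h2
    simp only [hΘ, Finset.mem_filter, Finset.mem_univ, true_and] at hθ ⊢
    rwa [h]
  by_cases hall : ∀ θ, θ ≠ oneH → θ ∈ Θ
  · have : Θ = Finset.univ.erase oneH := by
      ext θ
      simp only [Finset.mem_erase, Finset.mem_univ, and_true]
      exact ⟨fun h e => hnotone (e ▸ h), hall θ⟩
    rw [this, Finset.card_erase_of_mem (Finset.mem_univ _), Finset.card_univ, ← Nat.card_eq_fintype_card]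
    have hcl : Nat.card (Cfsg.IrrCharacter H) = Nat.card H := by
      rw [card_irrCharacter]
      refine (Nat.card_congr (Equiv.ofBijective ConjClasses.mk ⟨fun a b h => ?_, ConjClasses.mk_surjective⟩)).symm
      obtain ⟨c, hc⟩ := isConj_iff.1 (ConjClasses.mk_eq_mk_iff_isConj.1 h)
      rw [show c * a = a * c from Subtype.ext (hH.comm _ c.2 _ a.2), mul_inv_cancel_right] at hc
      exact hc
    rw [hcl]
    exact (Nat.coprime_self_sub_left hH1).2 (Nat.coprime_one_left _)
  · push Not at hall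
    obtain ⟨θ₃, h₃, h₃Θ⟩ := hall
    rcases Θ.eq_empty_or_nonempty with he | ⟨θ₁, h₁⟩
    · exfalso
      rw [he, Finset.card_empty, Nat.cast_zero] at hdeg
      exact irr_one_ne_zero χ.2 hdeg
    have h₁one : θ₁ ≠ oneH := fun e => hnotone (e ▸ h₁)
    obtain ⟨ψ, hψ⟩ : ∃ ψ, m ψ * M ψ θ₃ ≠ 0 := by
      by_contra h
      push Not at h
      have := hreg θ₃
      rw [Finset.sum_eq_zero fun ψ _ => h ψ] at this
      norm_num at this
    have hψχ : ψ ≠ χ := fun e => h₃Θ (Finset.mem_filter.2 ⟨Finset.mem_univ _, fun h0 => hψ (by rw [e, h0, mul_zero])⟩)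
    have hout : ∀ θ ∈ Θ, ∀ x, tw θ x ≠ θ₃ := fun θ hθ x e => h₃Θ (e ▸ hinv θ hθ x)
    have htau : ∀ θ ∈ Θ, Cfsg.indFun H ((θ : H → ℂ) - θ₃) = (χ : G → ℂ) - (ψ : G → ℂ) := by
      intro θ hθ
      have hθone : θ ≠ oneH := fun e => hnotone (e ▸ hθ)
      have hgen : Cfsg.IsGeneralizedCharacter G (Cfsg.indFun H ((θ : H → ℂ) - θ₃)) :=
        isGen_indFun H (isGen_sub (isGen_of_isIrr θ.2) (isGen_of_isIrr θ₃.2))
      obtain ⟨a, b, hab, hτ⟩ := gen_norm_two hgen (norm_diff hH θ θ₃ (hnon θ hθone) (hnon θ₃ h₃) (hout θ hθ))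
        (by rw [indFun_one]; simp [irr_one hH])
      have hinner : ∀ η : Cfsg.IrrCharacter G,
          Cfsg.classInner ((a : G → ℂ) - (b : G → ℂ)) (η : G → ℂ) = (M η θ : ℂ) - M η θ₃ := by
        intro η
        rw [← hτ, classInner_indFun H _ (isClassFunction_of_isIrr η.2), classInner_sub_left,
          classInner_conj_symm, hM, classInner_conj_symm, hM, map_natCast, map_natCast]
      have hθ' : M χ θ = 1 := le_antisymm (hle θ χ hmc) (Nat.pos_of_ne_zero (Finset.mem_filter.1 hθ).2)
      have hχ3 : M χ θ₃ = 0 := by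
        by_contra h
        exact h₃Θ (Finset.mem_filter.2 ⟨Finset.mem_univ _, h⟩)
      have hψ3 : M ψ θ₃ = 1 := le_antisymm (hle θ₃ ψ (left_ne_zero_of_mul hψ)) (Nat.pos_of_ne_zero (right_ne_zero_of_mul hψ))
      have hψθ : M ψ θ = 0 := by
        by_contra h
        exact hψχ (huniq θ ψ χ (mul_ne_zero (left_ne_zero_of_mul hψ) h) (mul_ne_zero hmc (by omega)))
      have k1 := hinner χ
      have k2 := hinner ψ
      rw [classInner_sub_left, classInner_irr, classInner_irr, hθ', hχ3] at k1
      rw [classInner_sub_left, classInner_irr, classInner_irr, hψθ, hψ3] at k2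
      have ha : a = χ := by
        by_contra h
        rw [if_neg h] at k1
        split_ifs at k1 <;> norm_num at k1
      have hb : b = ψ := by
        by_contra h
        rw [if_neg h] at k2
        split_ifs at k2 <;> norm_num at k2
      rw [hτ, ha, hb]
    have horb : ∀ θ ∈ Θ, ∃ x, tw θ₁ x = θ := by
      intro θ hθ
      by_contra h
      push Not at h
      have hθone : θ ≠ oneH := fun e => hnotone (e ▸ hθ)
      have h2 := norm_diff hH θ₁ θ (hnon θ₁ h₁one) (hnon θ hθone) h
      have h0 : Cfsg.indFun H ((θ₁ : H → ℂ) - θ) = 0 := by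
        have := htau θ₁ h₁
        rw [← htau θ hθ, indFun_sub, indFun_sub, sub_left_inj] at this
        rw [indFun_sub, this, sub_self]
      rw [h0, classInner_zero_left] at h2
      norm_num at h2
    -- the orbit has |N : H| members
    set N := Subgroup.normalizer (H : Set G)
    haveI := Fintype.ofFinite N
    have hcount : Θ.card * Nat.card H = Nat.card N := by
      rw [Nat.card_eq_fintype_card (α := N), ← Finset.card_univ,
        Finset.card_eq_sum_card_fiberwise (f := fun x : N => tw θ₁ x) (t := Θ) (fun x _ => hinv θ₁ h₁ x)]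
      rw [Finset.sum_congr rfl (g := fun _ => Nat.card H), Finset.sum_const, smul_eq_mul]
      intro θ hθ
      obtain ⟨y, rfl⟩ := horb θ hθ
      rw [← Fintype.card_subtype, ← Nat.card_eq_fintype_card]
      refine Nat.card_congr ⟨fun x => ⟨((y⁻¹ * x.1 : N) : G), ?_⟩,
        fun a => ⟨y * ⟨a.1, Subgroup.le_normalizer a.2⟩, ?_⟩, fun x => ?_, fun a => ?_⟩
      · refine tw_free hH θ₁ (hnon θ₁ h₁one) _ ?_
        rw [← tw_tw, x.2, tw_tw, inv_mul_cancel, tw_one]
      · rw [← tw_tw, tw_of_mem hH θ₁]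
        exact a.2
      · exact Subtype.ext (Subtype.ext (by simp))
      · exact Subtype.ext (by simp)
    have hdvd : Θ.card * Nat.card H ∣ Nat.card A * Nat.card H := by
      rw [hcount, hcard]; exact Subgroup.card_subgroup_dvd_card N
    exact Nat.Coprime.coprime_dvd_left (Nat.dvd_of_mul_dvd_mul_right Nat.card_pos hdvd) hcop

/-- An element with a class of size `|H|` fixes exactly one coset of `A`. -/
theorem existsUnique_fixed [IsSimpleGroup G] (hH : CC H) (hcard : Nat.card A * Nat.card H = Nat.card G)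
    (hcop : Nat.Coprime (Nat.card A) (Nat.card H)) {v : G} (hv : v ∉ Subgroup.center G)
    (hvi : (Subgroup.centralizer ({v} : Set G)).index = Nat.card H) :
    ∃! p : G ⧸ A, v • p = p := by
  classical
  haveI := Fintype.ofFinite A
  set π := Cfsg.indFun A (fun _ => (1 : ℂ)) with hπ
  set one : Cfsg.IrrCharacter G := ⟨fun _ => 1, isIrr_one⟩ with hone
  have hπc : Cfsg.IsCharacter G π := isCharacter_indFun A isCharacter_one
  have hzero : ∀ χ : Cfsg.IrrCharacter G, χ ≠ one → Cfsg.classInner π (χ : G → ℂ) * (χ : G → ℂ) v = 0 := by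
    intro χ hne
    by_contra h
    obtain ⟨d, hd, hcop'⟩ := constituent_coprime hH hcard hcop χ (fun e => hne (Subtype.ext e)) (left_ne_zero_of_mul h)
    obtain ⟨n, ρ, hρ, hρc⟩ := χ.2
    have hdn : d = Module.finrank ℂ (Fin n → ℂ) := by
      rw [← hρc, Representation.char_one] at hd
      exact_mod_cast hd.symm
    rw [hdn, ← hvi] at hcop'
    rcases char_zero_or_norm_of_coprime ρ v hcop' with h0 | h0
    · exact right_ne_zero_of_mul h (by rw [← hρc]; exact h0)
    obtain ⟨ω, hω, -⟩ := exists_scalar_of_norm_char_eq ρ v h0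
    rcases IsSimpleGroup.eq_bot_or_eq_top_of_normal (MonoidHom.ker ρ) inferInstance with hk | hk
    · refine hv (Subgroup.mem_center_iff.2 fun x => (MonoidHom.ker_eq_bot_iff ρ).1 hk ?_)
      rw [map_mul, map_mul, hω]
      ext w; simp
    · refine hne (Subtype.ext ?_)
      have hconst : ∀ x : G, (χ : G → ℂ) x = (χ : G → ℂ) 1 := fun x => by
        rw [← hρc, Representation.character, Representation.character,
          MonoidHom.mem_ker.1 (show x ∈ MonoidHom.ker ρ from hk ▸ Subgroup.mem_top x), map_one ρ]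
      by_contra hne'
      have hfun : (χ : G → ℂ) = (χ : G → ℂ) 1 • (one : G → ℂ) := funext fun x => by
        simp [one, hconst x]
      have h1 := classInner_isIrr_ne χ.2 one.2 hne'
      rw [hfun, classInner_smul_left, classInner_isIrr_self one.2, mul_one] at h1
      exact irr_one_ne_zero χ.2 h1
  have hπv : π v = 1 := by
    have h := congrFun (character_expansion hπc) v
    simp only [Finset.sum_apply, Pi.smul_apply, smul_eq_mul] at h
    rw [Finset.sum_eq_single one (fun χ _ hne => hzero χ hne)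
      (fun h => absurd (Finset.mem_univ _) h)] at h
    rw [h, hπ, classInner_indFun A _ (isClassFunction_of_isIrr one.2)]
    rw [show (fun a : A => (one : G → ℂ) a) = (fun _ => (1 : ℂ)) from rfl,
      classInner_isIrr_self isIrr_one]
    simp [one]
  have hfix : Nat.card (MulAction.fixedBy (G ⧸ A) v) = 1 := by
    have h := card_fixedBy_eq_indFun (G ⧸ A) (QuotientGroup.mk 1 : G ⧸ A) v
    rw [show (MulAction.stabilizer G (QuotientGroup.mk 1 : G ⧸ A)) = A from MulAction.stabilizer_quotient A] at h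
    exact_mod_cast h.trans hπv
  obtain ⟨hsub, ⟨p, hp⟩⟩ := Nat.card_eq_one_iff_unique.1 hfix
  exact ⟨p, hp, fun q hq => congrArg Subtype.val (@Subsingleton.elim _ hsub ⟨q, hq⟩ ⟨p, hp⟩)⟩

end CfsgLib.Inv53.ExceptionalPerm
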