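import Cfsg.Agent.Inv53.M24Defs

/-! Checks on the Sylow 2-subgroup of M24 (abel). -/

set_option autoImplicit false
set_option maxHeartbeats 4000000
set_option maxRecDepth 100000

namespace CfsgLib.Inv53.M24Data

open CfsgLib.Schur.Pc CfsgLib.Mathieu

theorem abel_ok : ((List.range 64).all fun i => (List.range 64).all fun j =>
    mulN (8 * i) (8 * j) % 8 == 0 && comN (8 * i) (8 * j)) = true := by
  decide +kernel

end CfsgLib.Inv53.M24Data
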