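import Cfsg.Agent.Inv53.M24Defs

/-! Checks on the Sylow 2-subgroup of M24 (cent). -/

set_option autoImplicit false
set_option maxHeartbeats 4000000
set_option maxRecDepth 100000

namespace CfsgLib.Inv53.M24Data

open CfsgLib.Schur.Pc CfsgLib.Mathieu

theorem centA_ok : ((List.range 8).all fun q => q == 0 ||
    (decide ((centA q).length ≤ 16) && (q != 3 || decide ((centA q).length ≤ 4)) &&
      (List.range 8).all fun r => r == 0 || r == q ||
        decide (((centA q).filter fun a => (centA r).contains a).length ≤ 8))) = true := by
  decide +kernel

theorem maxCent_ok : ((List.range 16).all fun v => v == 0 || decide ((maxCent v).length ≤ 8)) = true := by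
  decide +kernel

end CfsgLib.Inv53.M24Data
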