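import Cfsg.Agent.Inv53.M24Defs

/-! Checks on the Sylow 2-subgroup of M24 (center). -/

set_option autoImplicit false
set_option maxHeartbeats 4000000
set_option maxRecDepth 100000

namespace CfsgLib.Inv53.M24Data

open CfsgLib.Schur.Pc CfsgLib.Mathieu

theorem center_ok : ((List.range 1024).all fun n => n == 0 || n == 512 ||
    !((List.range 10).all fun g => rmul g n == mulN (2 ^ g) n)) = true := by
  decide +kernel

theorem z_central_ok : ((List.range 10).all fun g => rmul g 512 == mulN (2 ^ g) 512) = true := by
  decide +kernel

theorem square_ok : ((List.range 64).all fun i => mulN (8 * i) (8 * i) % 512 == 0) = true := by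
  decide +kernel

theorem hw_ok : ((List.range 9).all fun i => evN (hw.getD i []) == 2 ^ i &&
    (hw.getD i []).all (fun a => [0, 1, 3, 6].contains a)) = true := by
  decide +kernel

end CfsgLib.Inv53.M24Data
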