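import Cfsg.Agent.Inv53.M24Defs

/-! Checks on the Sylow 2-subgroup of M24 (rmul). -/

set_option autoImplicit false
set_option maxHeartbeats 4000000
set_option maxRecDepth 100000

namespace CfsgLib.Inv53.M24Data

open CfsgLib.Schur.Pc CfsgLib.Mathieu

theorem rmul_ok : ((List.range 1024).all fun n => (List.range 10).all fun g =>
    wordKey xs base (wordN n ++ [g]) == wordKey xs base (wordN (rmul g n))) = true := by
  decide +kernel

end CfsgLib.Inv53.M24Data
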