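import Cfsg.Agent.Inv53.M24ChecksKeys
import Cfsg.Agent.Inv53.M24ChecksRmul
import Cfsg.Agent.Inv53.M24ChecksCenter
import Cfsg.Agent.Inv53.M24ChecksAbel
import Cfsg.Agent.Inv53.M24ChecksCent

/-! Checks on the Sylow 2-subgroup of M24, in parts. -/
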