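import Cfsg.Agent.Inv53.M24Defs

/-! Checks on the Sylow 2-subgroup of M24 (keys). -/

set_option autoImplicit false
set_option maxHeartbeats 4000000
set_option maxRecDepth 100000

namespace CfsgLib.Inv53.M24Data

open CfsgLib.Schur.Pc CfsgLib.Mathieu

/-- Distinctness of a list of numbers, by marking bits. -/
def nodupBits : List ℕ → ℕ → Bool
  | [], _ => true
  | x :: xs, S => !S.testBit x && nodupBits xs (S ||| 2 ^ x)

theorem nodupBits_spec : ∀ (l : List ℕ) (S : ℕ), nodupBits l S = true →
    l.Nodup ∧ ∀ x ∈ l, S.testBit x = false
  | [], _, _ => ⟨List.nodup_nil, fun _ h => absurd h (by simp)⟩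
  | x :: xs, S, h => by
    simp only [nodupBits, Bool.and_eq_true, Bool.not_eq_true'] at h
    obtain ⟨hn, hS⟩ := nodupBits_spec xs _ h.2
    refine ⟨List.nodup_cons.2 ⟨fun hx => ?_, hn⟩, fun y hy => ?_⟩
    · simpa using hS x hx
    · rcases List.mem_cons.1 hy with rfl | hy
      · exact h.1
      · have := hS y hy
        rw [Nat.testBit_or, Bool.or_eq_false_iff] at this
        exact this.1

theorem rules_ok : rules.all (fun l => wordEq xs l.1 l.2) = true := by decide +kernel

theorem shaped_ok : shaped 2 10 rules = true := by decide +kernel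

theorem base_ok : base.all (fun b => decide (b < 24)) = true := by decide +kernel

theorem inM24_ok : xs.all (fun t => tableValid t && preservesCode t) = true := by decide +kernel

theorem keys_ok : ((List.range 1024).map fun n => wordKey xs base (wordN n)).Nodup :=
  (nodupBits_spec _ 0 (by decide +kernel)).1

end CfsgLib.Inv53.M24Data
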