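import Cfsg.Agent.Inv53.M24Data

/-! Kernel checks on the model of a Sylow 2-subgroup of M24. -/

set_option autoImplicit false
set_option maxHeartbeats 4000000
set_option maxRecDepth 100000

namespace CfsgLib.Inv53.M24Data

open CfsgLib.Schur.Pc CfsgLib.Mathieu

/-- The normal word of index `n`. -/
def wordN (n : ℕ) : List ℕ := (List.range 10).filter fun i => n.testBit i

/-- Right multiplication by generator `g`. -/
def rmul (g n : ℕ) : ℕ := ((rtabs.getD g 0) >>> (10 * n)) % 1024

/-- The product in the model. -/
def mulN (a b : ℕ) : ℕ := (wordN b).foldl (fun acc g => rmul g acc) a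

/-- Commuting modulo the centre. -/
def comN (a b : ℕ) : Bool := mulN a b % 512 == mulN b a % 512

/-- The elements of the abelian subgroup that commute with coset representative `q`. -/
def centA (q : ℕ) : List ℕ := ((List.range 64).map (fun i => 8 * i)).filter fun a => comN q a

/-- Value modulo the centre of a word. -/
def evN (w : List ℕ) : ℕ := w.foldl (fun acc g => rmul g acc) 0 % 512

/-- Elements (as words) of the maximal subgroup with pattern `v` on the four generators. -/
def maxGens (v : ℕ) : List (List ℕ) :=
  let h := [0, 1, 3, 6]
  match ((List.range 4).find? fun i => v.testBit i) with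
  | none => []
  | some k => [[h.getD k 0, h.getD k 0]] ++ (((List.range 4).filter fun i => i != k).flatMap fun i =>
      if v.testBit i then [[h.getD i 0, h.getD k 0], [h.getD k 0, h.getD i 0]]
      else [[h.getD i 0], [h.getD k 0, h.getD i 0, h.getD k 0]])

/-- The common centraliser modulo the centre of the elements of a maximal subgroup. -/
def maxCent (v : ℕ) : List ℕ :=
  let es := (maxGens v).map evN
  (List.range 512).filter fun c => es.all fun e => comN c e

end CfsgLib.Inv53.M24Data
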