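import Cfsg.Agent.CAGroups.Simple
import Cfsg.Agent.Inv53.ExceptionalPermChar
import Cfsg.Agent.OddClassTwo.Basic
import Cfsg.Agent.Characters.FrobeniusKernel
import Cfsg.Agent.S0183

/-!
# Simple groups with three centraliser orders
-/

set_option autoImplicit false

namespace CfsgLib.Inv53.RankThree

open Subgroup
open scoped Pointwise

universe u

variable {G : Type u} [Group G]

/-- A simple group with abelian involution centralisers. -/
theorem psl2_of_abelian_centralizers [Finite G] [IsSimpleGroup G] (hG : ¬ IsMulCommutative G)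
    (hev : Even (Nat.card G))
    (hinv : ∀ t : G, orderOf t = 2 → IsMulCommutative (centralizer ({t} : Set G))) :
    ∃ (F : Type) (_ : Field F) (_ : Fintype F) (f : ℕ), 2 ≤ f ∧
      Fintype.card F = 2 ^ f ∧ Nonempty (G ≃* Matrix.ProjectiveSpecialLinearGroup (Fin 2) F) := by
  classical
  haveI : Fact (Nat.Prime 2) := ⟨Nat.prime_two⟩
  obtain ⟨S⟩ : Nonempty (Sylow 2 G) := inferInstance
  rcases Cfsg.Agent.S2202.result hev hinv with hcyc | hnorm | ⟨F, iF, iFt, A, iA, iAf, hchar, hA, ⟨e⟩⟩
  · exfalso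
    have hmin : (Nat.card G).minFac = 2 :=
      (Nat.minFac_eq_two_iff _).2 (even_iff_two_dvd.1 hev)
    have hcompl := IsCyclic.isComplement' hmin (hcyc S)
    rcases (inferInstance :
      (MonoidHom.transferSylow S ((hcyc S).normalizer_le_centralizer hmin)).ker.Normal).eq_bot_or_eq_top
      with hb | ht
    · rw [hb, isComplement'_bot_left] at hcompl
      exact CfsgLib.CAGroups.nontrivial_simple_noncomm_of_normal_sylow hG S (by rw [hcompl]; infer_instance) hev
    · rw [ht, isComplement'_top_left] at hcompl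
      exact S.ne_bot_of_dvd_card (even_iff_two_dvd.1 hev) hcompl
  · exact absurd (CfsgLib.CAGroups.nontrivial_simple_noncomm_of_normal_sylow hG S (hnorm S) hev) id
  · -- the abelian factor is trivial
    haveI : IsSimpleGroup (Matrix.SpecialLinearGroup (Fin 2) F × A) := e.symm.isSimpleGroup
    have hA1 : Subsingleton A := by
      rcases (inferInstance :
        ((MonoidHom.fst (Matrix.SpecialLinearGroup (Fin 2) F) A).ker).Normal).eq_bot_or_eq_top with hb | ht
      · exact ⟨fun a b => by
          have h1 := (eq_bot_iff_forall _).1 hb ((1, a) : Matrix.SpecialLinearGroup (Fin 2) F × A)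
            (show (1 : Matrix.SpecialLinearGroup (Fin 2) F) = 1 from rfl)
          have h2 := (eq_bot_iff_forall _).1 hb ((1, b) : Matrix.SpecialLinearGroup (Fin 2) F × A)
            (show (1 : Matrix.SpecialLinearGroup (Fin 2) F) = 1 from rfl)
          exact (congrArg Prod.snd h1).trans (congrArg Prod.snd h2).symm⟩
      · exfalso
        apply hG
        refine ⟨⟨fun x y => e.injective ?_⟩⟩
        rw [map_mul, map_mul]
        have hx : (e x).1 = 1 := ht.ge (mem_top (e x))
        have hy : (e y).1 = 1 := ht.ge (mem_top (e y))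
        exact Prod.ext (by simp [hx, hy]) (mul_comm _ _)
    haveI := hA1
    haveI : Unique A := uniqueOfSubsingleton 1
    let e' : G ≃* Matrix.ProjectiveSpecialLinearGroup (Fin 2) F :=
      (e.trans MulEquiv.prodUnique).trans CfsgLib.CAGroups.sl2EquivPSL2
    obtain ⟨⟨f, hf0⟩, -, hf⟩ := FiniteField.card F 2
    simp only [PNat.mk_coe] at hf
    refine ⟨F, iF, iFt, f, ?_, hf, ⟨e'⟩⟩
    by_contra hlt
    have hf1 : f = 1 := by omega
    subst hf1
    have hF2 : Nat.card F = 2 := by rw [Nat.card_eq_fintype_card, hf]; norm_num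
    haveI : IsSimpleGroup (Matrix.SpecialLinearGroup (Fin 2) F) :=
      (e.trans MulEquiv.prodUnique).symm.isSimpleGroup
    have hcardG : Nat.card G = 6 := by
      rw [Nat.card_congr (e.trans MulEquiv.prodUnique).toEquiv, CfsgLib.Linear.card_SL_two, hf]
      norm_num
    haveI : Fact (Nat.Prime 3) := ⟨Nat.prime_three⟩
    obtain ⟨P⟩ : Nonempty (Sylow 3 G) := inferInstance
    have h3 : Nat.card (P : Subgroup G) = 3 := by
      obtain ⟨j, hj⟩ := P.2.exists_card_eq
      have hd : 3 ∣ Nat.card G := by rw [hcardG]; norm_num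
      have h1 := P.dvd_card_of_dvd_card hd
      have h2 : Nat.card (P : Subgroup G) ∣ 6 := hcardG ▸ card_subgroup_dvd_card _
      have h4 : Nat.card (P : Subgroup G) ≤ 6 := Nat.le_of_dvd (by norm_num) h2
      rcases j with _ | _ | j
      · rw [hj] at h1; norm_num at h1
      · simpa using hj
      · rw [hj] at h4
        have : 3 ^ 2 ≤ 3 ^ (j + 1 + 1) := Nat.pow_le_pow_right (by norm_num) (by omega)
        omega
    have hidx : (P : Subgroup G).index = 2 := by
      have := card_mul_index (P : Subgroup G)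
      rw [hcardG, h3] at this
      omega
    rcases (normal_of_index_eq_two hidx).eq_bot_or_eq_top with hb | ht
    · rw [hb, card_bot] at h3; omega
    · rw [ht, index_top] at hidx; omega

theorem cent_le_pow (x : G) (k : ℕ) : centralizer ({x} : Set G) ≤ centralizer {x ^ k} := fun g hg => by
  rw [mem_centralizer_singleton_iff] at hg ⊢
  exact (Commute.pow_right hg k).eq

theorem exists_prime_pow_elem [Finite G] {x : G} (hx : x ≠ 1) :
    ∃ (p k : ℕ), p.Prime ∧ orderOf (x ^ k) = p := by
  have h1 : orderOf x ≠ 1 := fun h => hx (orderOf_eq_one_iff.1 h)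
  exact ⟨(orderOf x).minFac, orderOf x / (orderOf x).minFac, Nat.minFac_prime h1,
    orderOf_pow_orderOf_div (orderOf_pos x).ne' (Nat.minFac_dvd _)⟩

/-- For commuting elements of coprime order the centraliser of the product is the intersection. -/
theorem cent_mul_eq [Finite G] {a b : G} (hab : a * b = b * a) (h : (orderOf a).Coprime (orderOf b)) :
    centralizer ({a * b} : Set G) = centralizer {a} ⊓ centralizer {b} := by
  have key : ∀ a b : G, a * b = b * a → (orderOf a).Coprime (orderOf b) →
      centralizer ({a * b} : Set G) ≤ centralizer {a} := by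
    intro a b hab h
    obtain ⟨m, hm⟩ := exists_pow_eq_self_of_coprime (x := a) h.symm
    have h1 : (a * b) ^ orderOf b = a ^ orderOf b := by
      rw [Commute.mul_pow hab, pow_orderOf_eq_one, mul_one]
    calc centralizer ({a * b} : Set G) ≤ centralizer {((a * b) ^ orderOf b) ^ m} := by
          rw [← pow_mul]; exact cent_le_pow _ _
      _ = centralizer {a} := by rw [h1, hm]
  refine le_antisymm (le_inf (key a b hab h) ?_) fun g hg => ?_
  · have := key b a hab.symm h.symm
    rwa [← hab] at this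
  · rw [mem_inf, mem_centralizer_singleton_iff, mem_centralizer_singleton_iff] at hg
    rw [mem_centralizer_singleton_iff]
    exact (Commute.mul_right hg.1 hg.2).eq

/-- Neither properly contains nor is properly contained in another centraliser. -/
def IsFree (x : G) : Prop :=
  (∀ w : G, w ≠ 1 → centralizer ({x} : Set G) ≤ centralizer {w} → centralizer ({x} : Set G) = centralizer {w}) ∧
  (∀ w : G, w ≠ 1 → centralizer ({w} : Set G) ≤ centralizer {x} → centralizer ({w} : Set G) = centralizer {x})

theorem IsFree.coprime_part [Finite G] {x a : G} (hf : IsFree x) (hax : a ∈ centralizer ({x} : Set G))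
    (ha : a ≠ 1) (hcop : (orderOf a).Coprime (orderOf x)) :
    centralizer ({a} : Set G) = centralizer {x} := by
  have hc : a * x = x * a := mem_centralizer_singleton_iff.1 hax
  have he := cent_mul_eq hc hcop
  have hne : a * x ≠ 1 := fun h => by
    have h1 : a = x⁻¹ := eq_inv_of_mul_eq_one_left h
    rw [h1, orderOf_inv, Nat.coprime_self, orderOf_eq_one_iff] at hcop
    exact ha (by rw [h1, hcop, inv_one])
  have h1 : centralizer ({a * x} : Set G) = centralizer {x} := hf.2 _ hne (by rw [he]; exact inf_le_right)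
  have h2 : centralizer ({x} : Set G) ≤ centralizer {a} := by
    rw [← h1, he]; exact inf_le_left
  exact (hf.1 a ha h2).symm

/-- The centraliser of a free element is abelian or a group of prime power order. -/
theorem IsFree.comm_or_pGroup [Finite G] {x : G} (hf : IsFree x) (hx : x ≠ 1) :
    (∀ a ∈ centralizer ({x} : Set G), ∀ b ∈ centralizer ({x} : Set G), a * b = b * a) ∨
      ∃ p : ℕ, p.Prime ∧ IsPGroup p (centralizer ({x} : Set G)) := by
  classical
  obtain ⟨p, k, hp, hk⟩ := exists_prime_pow_elem hx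
  have hk1 : x ^ k ≠ 1 := fun h => by rw [h, orderOf_one] at hk; exact hp.ne_one hk.symm
  have heq := hf.1 _ hk1 (cent_le_pow x k)
  set C := centralizer ({x} : Set G) with hC
  have hfk : IsFree (x ^ k) := by
    constructor
    · intro w hw h; rw [← heq] at h ⊢; exact hf.1 w hw h
    · intro w hw h; rw [← heq] at h ⊢; exact hf.2 w hw h
  set D := C ⊓ centralizer (C : Set G) with hD
  have hmem : ∀ (y : G) (r : ℕ), IsFree y → orderOf y = r → centralizer ({y} : Set G) = C →
      ∀ a ∈ C, (orderOf a).Coprime r → a ∈ D := by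
    intro y r hy hr hyC a haC hco
    refine ⟨haC, mem_centralizer_iff.2 fun c hc => ?_⟩
    by_cases ha : a = 1
    · rw [ha, mul_one, one_mul]
    have h := hy.coprime_part (hyC ▸ haC) ha (hr ▸ hco)
    rw [hyC] at h
    have hc' : c ∈ centralizer ({a} : Set G) := h ▸ hc
    exact mem_centralizer_singleton_iff.1 hc'
  by_cases hb : ∃ b ∈ C, ∃ q : ℕ, q.Prime ∧ q ≠ p ∧ orderOf b = q
  · left
    obtain ⟨b, hbC, q, hq, hqp, hbq⟩ := hb
    have hbco : (orderOf b).Coprime p := by rw [hbq]; exact (Nat.coprime_primes hq hp).2 hqp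
    have hb1 : b ≠ 1 := fun h => by rw [h, orderOf_one] at hbq; exact hq.ne_one hbq.symm
    have hbeq : centralizer ({b} : Set G) = C := by
      rw [heq] at hbC ⊢
      exact hfk.coprime_part hbC hb1 (by rwa [hk])
    have hfb : IsFree b := by
      constructor
      · intro w hw h; rw [hbeq] at h ⊢; exact hf.1 w hw h
      · intro w hw h; rw [hbeq] at h ⊢; exact hf.2 w hw h
    intro a ha c hc
    suffices a ∈ D from (mem_centralizer_iff.1 this.2 c hc).symm
    obtain ⟨e, m, hm, hn⟩ := Nat.exists_eq_pow_mul_and_not_dvd (orderOf_pos a).ne' p hp.ne_one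
    have hcop : (p ^ e).Coprime m := Nat.Coprime.pow_left e (hp.coprime_iff_not_dvd.2 hm)
    have h1 : a ^ (p ^ e) ∈ D := hmem (x ^ k) p hfk hk heq.symm _ (pow_mem ha _) (by
      rw [orderOf_pow, hn, Nat.gcd_eq_right (dvd_mul_right _ _), Nat.mul_div_cancel_left _ (pow_pos hp.pos e)]
      exact (hp.coprime_iff_not_dvd.2 hm).symm)
    have h2 : a ^ m ∈ D := hmem b q hfb hbq hbeq _ (pow_mem ha _) (by
      have hm0 : 0 < m := Nat.pos_of_ne_zero fun h => hm (h ▸ dvd_zero p)
      rw [orderOf_pow, hn, Nat.gcd_eq_right (dvd_mul_left _ _), Nat.mul_div_cancel _ hm0]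
      exact Nat.Coprime.pow_left e ((Nat.coprime_primes hp hq).2 hqp.symm))
    have h3 := Nat.gcd_eq_gcd_ab (p ^ e) m
    rw [hcop] at h3
    have h4 : a = (a ^ (p ^ e)) ^ (Nat.gcdA (p ^ e) m) * (a ^ m) ^ (Nat.gcdB (p ^ e) m) := by
      rw [← zpow_natCast a (p ^ e), ← zpow_natCast a m, ← zpow_mul, ← zpow_mul, ← zpow_add, ← h3,
        Nat.cast_one, zpow_one]
    rw [h4]
    exact mul_mem (zpow_mem h1 _) (zpow_mem h2 _)
  · right
    refine ⟨p, hp, fun g => ?_⟩
    push Not at hb
    obtain ⟨e, m, hm, hn⟩ := Nat.exists_eq_pow_mul_and_not_dvd (orderOf_pos (g : G)).ne' p hp.ne_one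
    refine ⟨e, Subtype.ext ?_⟩
    rw [SubgroupClass.coe_pow, OneMemClass.coe_one]
    by_contra hne
    obtain ⟨q, j, hq, hj⟩ := exists_prime_pow_elem hne
    refine hb _ (pow_mem (pow_mem g.2 _) j) q hq ?_ hj
    rintro rfl
    apply hm
    have : orderOf (((g : G) ^ q ^ e) ^ j) ∣ m := by
      refine (orderOf_pow_dvd j).trans ?_
      rw [orderOf_dvd_iff_pow_eq_one, ← pow_mul, ← hn, pow_orderOf_eq_one]
    rwa [hj] at this

/-! ### Containment of centralisers is impossible -/

/-- The permutation action: an element whose class is as large as `H` fixes one coset. -/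
theorem eq_of_conj_mem [Finite G] [IsSimpleGroup G] {H A : Subgroup G}
    (hH : ExceptionalPerm.CC H) (hcard : Nat.card A * Nat.card H = Nat.card G)
    (hcop : Nat.Coprime (Nat.card A) (Nat.card H)) {v : G} (hv : v ∉ center G)
    (hvi : (centralizer ({v} : Set G)).index = Nat.card H) (hvA : v ∈ A) {g : G} (hg : g⁻¹ * v * g ∈ A) :
    g ∈ A := by
  haveI := Fintype.ofFinite G
  obtain ⟨p, -, hp⟩ := ExceptionalPerm.existsUnique_fixed hH hcard hcop hv hvi
  have h1 : v • (QuotientGroup.mk (1 : G) : G ⧸ A) = QuotientGroup.mk 1 := by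
    rw [MulAction.Quotient.smul_mk, QuotientGroup.eq]; simpa using hvA
  have h2 : v • (QuotientGroup.mk g : G ⧸ A) = QuotientGroup.mk g := by
    rw [MulAction.Quotient.smul_mk, QuotientGroup.eq, smul_eq_mul]
    rw [show (v * g)⁻¹ * g = (g⁻¹ * v * g)⁻¹ by group]
    exact inv_mem hg
  have := (hp _ h1).trans (hp _ h2).symm
  rw [QuotientGroup.eq] at this
  simpa using this

section Containment

variable [Finite G] [IsSimpleGroup G]

/-- The data of a proper containment of centralisers. -/
structure Data (G : Type u) [Group G] where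
  hG : ¬ IsMulCommutative G
  u : G
  y : G
  z : G
  hu : u ≠ 1
  hy : y ≠ 1
  hz : z ≠ 1
  hlt : centralizer ({u} : Set G) < centralizer {y}
  hz1 : Nat.card (centralizer ({z} : Set G)) ≠ Nat.card (centralizer ({u} : Set G))
  hz2 : Nat.card (centralizer ({z} : Set G)) ≠ Nat.card (centralizer ({y} : Set G))
  vals : ∀ w : G, w ≠ 1 → Nat.card (centralizer ({w} : Set G)) = Nat.card (centralizer ({u} : Set G)) ∨
    Nat.card (centralizer ({w} : Set G)) = Nat.card (centralizer ({y} : Set G)) ∨
    Nat.card (centralizer ({w} : Set G)) = Nat.card (centralizer ({z} : Set G))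

local notation:max "cd " x:max => Nat.card (centralizer ({x} : Set G))

omit [IsSimpleGroup G] in
theorem card_set_mul (A B : Subgroup G) :
    Nat.card ((A : Set G) * (B : Set G) : Set G) * Nat.card (A ⊓ B : Subgroup G) = Nat.card A * Nat.card B := by
  rw [Subgroup.card_mul_eq_card_subgroup_mul_card_quotient]
  let f : A ⧸ B.subgroupOf A → G ⧸ B := Quotient.map' (fun a : A => (a : G)) (fun a b h => by
    rw [QuotientGroup.leftRel_apply] at h ⊢; exact h)
  have hinj : Function.Injective f := by
    intro a b h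
    obtain ⟨a, rfl⟩ := QuotientGroup.mk_surjective a
    obtain ⟨b, rfl⟩ := QuotientGroup.mk_surjective b
    have h' : (QuotientGroup.mk (a : G) : G ⧸ B) = QuotientGroup.mk (b : G) := h
    refine QuotientGroup.eq.2 ?_
    rw [mem_subgroupOf]
    exact QuotientGroup.eq.1 h'
  have hrange : Set.range f = (QuotientGroup.mk : G → G ⧸ B) '' (A : Set G) := by
    ext q
    constructor
    · rintro ⟨a, rfl⟩
      obtain ⟨a, rfl⟩ := QuotientGroup.mk_surjective a
      exact ⟨a, a.2, rfl⟩
    · rintro ⟨a, ha, rfl⟩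
      exact ⟨QuotientGroup.mk (⟨a, ha⟩ : A), rfl⟩
  rw [← hrange, Nat.card_range_of_injective hinj]
  have h := Subgroup.card_eq_card_quotient_mul_card_subgroup (B.subgroupOf A)
  have e : Nat.card (B.subgroupOf A) = Nat.card (A ⊓ B : Subgroup G) := by
    rw [inf_comm, ← subgroupOf_map_subtype]
    exact (Nat.card_congr (equivMapOfInjective _ _ A.subtype_injective).toEquiv)
  rw [e] at h
  rw [h]
  ring

theorem center_eq_bot (hG : ¬ IsMulCommutative G) : center G = ⊥ :=
  ((inferInstance : (center G).Normal).eq_bot_or_eq_top).resolve_right fun h =>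
    hG ⟨⟨fun a b => mem_center_iff.1 (h ▸ mem_top b) a⟩⟩

theorem cent_ne_top (hG : ¬ IsMulCommutative G) {x : G} (hx : x ≠ 1) : centralizer ({x} : Set G) ≠ ⊤ := fun h => by
  have h1 : x ∈ center G := mem_center_iff.2 fun g => mem_centralizer_singleton_iff.1 (h ▸ mem_top g)
  rw [center_eq_bot hG] at h1
  exact hx (mem_bot.1 h1)

variable (D : Data G)
include D

theorem Data.dvd12 : (cd D.u) ∣ cd D.y := card_dvd_of_le D.hlt.le

theorem Data.lt12 : (cd D.u) < cd D.y := Set.Finite.card_lt_card (Set.toFinite _) D.hlt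

theorem Data.exists_full (p : ℕ) (hp : p.Prime) :
    ∃ w : G, w ≠ 1 ∧ (p ∣ Nat.card G → p ^ (Nat.card G).factorization p ∣ cd w) := by
  haveI : Fact p.Prime := ⟨hp⟩
  by_cases hd : p ∣ Nat.card G
  swap
  · exact ⟨D.u, D.hu, fun h => absurd h hd⟩
  obtain ⟨P⟩ : Nonempty (Sylow p G) := inferInstance
  haveI : Nontrivial (P : Subgroup G) := (nontrivial_iff_ne_bot _).2 (P.ne_bot_of_dvd_card hd)
  haveI := P.2.center_nontrivial
  obtain ⟨c, hc⟩ := exists_ne (1 : center (P : Subgroup G))
  refine ⟨((c : (P : Subgroup G)) : G), fun h => hc (Subtype.ext (Subtype.ext h)), fun _ => ?_⟩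
  rw [← P.card_eq_multiplicity]
  refine card_dvd_of_le fun s hs => mem_centralizer_singleton_iff.2 ?_
  exact congrArg Subtype.val (mem_center_iff.1 c.2 ⟨s, hs⟩)

/-- A common multiple of all centraliser orders is a multiple of the group order. -/
theorem Data.dvd_of_all {n : ℕ} (h : ∀ w : G, w ≠ 1 → (cd w) ∣ n) : Nat.card G ∣ n := by
  rw [Nat.dvd_iff_prime_pow_dvd_dvd]
  intro p k hp hk
  rcases Nat.eq_zero_or_pos k with rfl | hk0
  · simp
  obtain ⟨w, hw, hw'⟩ := D.exists_full p hp
  have h1 := hw' ((dvd_pow_self p hk0.ne').trans hk)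
  exact ((pow_dvd_pow p ((hp.pow_dvd_iff_le_factorization Nat.card_pos.ne').1 hk)).trans h1).trans (h w hw)

theorem Data.card_lt {x : G} (hx : x ≠ 1) : (cd x) < Nat.card G := by
  refine lt_of_le_of_ne (Subgroup.card_le_card_group _) fun h => cent_ne_top D.hG hx ?_
  exact Subgroup.eq_top_of_card_eq _ h

theorem Data.not_32 : ¬ (cd D.z) ∣ cd D.y := fun h =>
  (D.card_lt D.hy).not_ge <| Nat.le_of_dvd Nat.card_pos <| D.dvd_of_all fun w hw => by
    rcases D.vals w hw with e | e | e <;> rw [e]
    · exact D.dvd12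
    · exact h

theorem Data.not_23 : ¬ (cd D.y) ∣ cd D.z := fun h =>
  (D.card_lt D.hz).not_ge <| Nat.le_of_dvd Nat.card_pos <| D.dvd_of_all fun w hw => by
    rcases D.vals w hw with e | e | e <;> rw [e]
    · exact D.dvd12.trans h
    · exact h

theorem Data.not_31 : ¬ (cd D.z) ∣ cd D.u := fun h => D.not_32 (h.trans D.dvd12)

/-- A centraliser of the second kind is maximal. -/
theorem Data.max2 {a w : G} (ha : (cd a) = cd D.y) (hw : w ≠ 1)
    (h : centralizer ({a} : Set G) ≤ centralizer {w}) : centralizer ({a} : Set G) = centralizer {w} := by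
  refine eq_of_le_of_card_ge h ?_
  have hd := card_dvd_of_le h
  rw [ha] at hd ⊢
  rcases D.vals w hw with e | e | e <;> rw [e] at hd ⊢
  · exact absurd (Nat.le_of_dvd Nat.card_pos hd) D.lt12.not_ge
  · exact absurd hd D.not_23

/-- The product of a centraliser of each of the last two kinds is everything. -/
theorem Data.no_commute {a b : G} (ha0 : a ≠ 1) (hb0 : b ≠ 1) (ha : (cd a) = cd D.y) (hb : (cd b) = cd D.z)
    (hab : a * b = b * a) : False := by
  classical
  set A := centralizer ({a} : Set G) with hA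
  set B := centralizer ({b} : Set G) with hB
  have hlcm : Nat.card G ∣ Nat.lcm (cd D.y) (cd D.z) := D.dvd_of_all fun w hw => by
    rcases D.vals w hw with e | e | e <;> rw [e]
    · exact D.dvd12.trans (Nat.dvd_lcm_left _ _)
    · exact Nat.dvd_lcm_left _ _
    · exact Nat.dvd_lcm_right _ _
  have hge : Nat.card G ≤ Nat.card ((A : Set G) * (B : Set G) : Set G) := by
    have h := card_set_mul A B
    refine le_trans (Nat.le_of_dvd (Nat.lcm_pos Nat.card_pos Nat.card_pos) hlcm) ?_
    rw [← ha, ← hb]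
    refine Nat.le_of_mul_le_mul_right ?_ (show 0 < Nat.card (A ⊓ B : Subgroup G) from Nat.card_pos)
    calc Nat.lcm (Nat.card A) (Nat.card B) * Nat.card (A ⊓ B : Subgroup G)
        ≤ Nat.lcm (Nat.card A) (Nat.card B) * Nat.gcd (Nat.card A) (Nat.card B) := by
          refine Nat.mul_le_mul_left _ (Nat.le_of_dvd (Nat.gcd_pos_of_pos_left _ Nat.card_pos) ?_)
          exact Nat.dvd_gcd (card_dvd_of_le inf_le_left) (card_dvd_of_le inf_le_right)
      _ = Nat.card A * Nat.card B := by rw [mul_comm, Nat.gcd_mul_lcm]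
      _ ≤ _ := h.ge
  have huniv : ((A : Set G) * (B : Set G) : Set G) = Set.univ := by
    refine Set.eq_of_subset_of_ncard_le (Set.subset_univ _) ?_ (Set.toFinite _)
    rw [Set.ncard_univ, ← Nat.card_coe_set_eq]
    exact hge
  have hn : normalClosure ({b} : Set G) ≤ A := by
    rw [normalClosure, closure_le]
    intro x hx
    obtain ⟨c, hc, hcx⟩ := Group.mem_conjugatesOfSet_iff.1 hx
    rw [Set.mem_singleton_iff] at hc
    subst hc
    obtain ⟨g, rfl⟩ := isConj_iff.1 hcx
    obtain ⟨p, hp, q, hq, rfl⟩ := Set.mem_mul.1 (huniv.symm ▸ Set.mem_univ g)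
    have hq' : q * c = c * q := mem_centralizer_singleton_iff.1 hq
    rw [show p * q * c * (p * q)⁻¹ = p * (q * c * q⁻¹) * p⁻¹ by group, hq', mul_inv_cancel_right]
    exact mul_mem (mul_mem hp (mem_centralizer_singleton_iff.2 hab.symm)) (inv_mem hp)
  rcases (normalClosure_normal (s := ({b} : Set G))).eq_bot_or_eq_top with h | h
  · exact hb0 (mem_bot.1 (h ▸ subset_normalClosure (Set.mem_singleton b)))
  · exact cent_ne_top D.hG ha0 (top_le_iff.1 (h ▸ hn))

omit D in
theorem conj_cd (g x : G) : (cd (g * x * g⁻¹)) = cd x := by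
  have : centralizer ({g * x * g⁻¹} : Set G) = (centralizer ({x} : Set G)).map (MulAut.conj g).toMonoidHom := by
    ext a
    simp only [mem_map, MulEquiv.toMonoidHom_eq_coe, MonoidHom.coe_coe, MulAut.conj_apply, mem_centralizer_singleton_iff]
    constructor
    · intro ha
      refine ⟨g⁻¹ * a * g, ?_, by group⟩
      calc g⁻¹ * a * g * x = g⁻¹ * (a * (g * x * g⁻¹)) * g := by group
        _ = g⁻¹ * ((g * x * g⁻¹) * a) * g := by rw [ha]
        _ = x * (g⁻¹ * a * g) := by group
    · rintro ⟨b, hb, rfl⟩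
      calc g * b * g⁻¹ * (g * x * g⁻¹) = g * (b * x) * g⁻¹ := by group
        _ = g * (x * b) * g⁻¹ := by rw [hb]
        _ = _ := by group
  rw [this]
  exact Nat.card_congr ((centralizer ({x} : Set G)).equivMapOfInjective _ (MulAut.conj g).injective).toEquiv.symm

/-- A prime dividing the second order divides it to the full power. -/
theorem Data.full_of_dvd {p : ℕ} (hp : p.Prime) (hd : p ∣ cd D.y) :
    p ^ (Nat.card G).factorization p ∣ cd D.y := by
  by_contra hn
  haveI : Fact p.Prime := ⟨hp⟩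
  have hz_of : ∀ (P : Sylow p G) (c : G), (∀ s ∈ (P : Subgroup G), s * c = c * s) → c ≠ 1 → (cd c) = cd D.z := by
    intro P c hc hc1
    have h : p ^ (Nat.card G).factorization p ∣ cd c := by
      rw [← P.card_eq_multiplicity]
      exact card_dvd_of_le fun s hs => mem_centralizer_singleton_iff.2 (hc s hs)
    rcases D.vals c hc1 with e | e | e
    · exact absurd ((e ▸ h).trans D.dvd12) hn
    · exact absurd (e ▸ h) hn
    · exact e
  have hcen : ∀ x : G, (∃ k : ℕ, orderOf x = p ^ k) → ∃ c : G, (cd c) = cd D.z ∧ c ≠ 1 ∧ x * c = c * x := by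
    intro x hx
    obtain ⟨P, hP⟩ := (show IsPGroup p (zpowers x) from by
      obtain ⟨k, hk⟩ := hx
      exact IsPGroup.of_card (n := k) (by rw [Nat.card_zpowers, hk])).exists_le_sylow
    have hdG : p ∣ Nat.card G := hd.trans (card_subgroup_dvd_card _)
    haveI : Nontrivial (P : Subgroup G) := (nontrivial_iff_ne_bot _).2 (P.ne_bot_of_dvd_card hdG)
    haveI := P.2.center_nontrivial
    obtain ⟨c, hc⟩ := exists_ne (1 : center (P : Subgroup G))
    have hcc : ∀ s ∈ (P : Subgroup G), s * ((c : (P : Subgroup G)) : G) = ((c : (P : Subgroup G)) : G) * s :=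
      fun s hs => congrArg Subtype.val (mem_center_iff.1 c.2 ⟨s, hs⟩)
    have hc1 : ((c : (P : Subgroup G)) : G) ≠ 1 := fun h => hc (Subtype.ext (Subtype.ext h))
    exact ⟨_, hz_of P _ hcc hc1, hc1, hcc x (hP (mem_zpowers x))⟩
  obtain ⟨v, hv⟩ := exists_prime_orderOf_dvd_card' (G := centralizer ({D.y} : Set G)) p hd
  have hvo : orderOf (v : G) = p := by rwa [orderOf_coe]
  have hv1 : (v : G) ≠ 1 := fun h => hp.ne_one (by rw [← hvo, h, orderOf_one])
  have hvy : (v : G) * D.y = D.y * v := mem_centralizer_singleton_iff.1 v.2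
  obtain ⟨c, hc, hc1, hvc⟩ := hcen v ⟨1, by rw [hvo, pow_one]⟩
  have hvt : (cd (v : G)) = cd D.u := by
    rcases D.vals _ hv1 with e | e | e
    · exact e
    · exact (D.no_commute hv1 hc1 e hc hvc).elim
    · exact (D.no_commute D.hy hv1 rfl e hvy.symm).elim
  have hfree : IsFree (v : G) := by
    constructor
    · intro w hw h
      refine eq_of_le_of_card_ge h ?_
      have hyw : w * D.y = D.y * w := (mem_centralizer_singleton_iff.1 (h (mem_centralizer_singleton_iff.2 hvy.symm))).symm
      have hcw : w * c = c * w := (mem_centralizer_singleton_iff.1 (h (mem_centralizer_singleton_iff.2 hvc.symm))).symm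
      rcases D.vals w hw with e | e | e
      · rw [e, hvt]
      · exact (D.no_commute hw hc1 e hc hcw).elim
      · exact (D.no_commute D.hy hw rfl e hyw.symm).elim
    · intro w hw h
      refine eq_of_le_of_card_ge h ?_
      have hd' := card_dvd_of_le h
      rw [hvt] at hd' ⊢
      rcases D.vals w hw with e | e | e <;> rw [e] at hd' ⊢
      · exact absurd (Nat.le_of_dvd Nat.card_pos hd') D.lt12.not_ge
      · exact absurd hd' D.not_31
  obtain ⟨e, m, hm, hn'⟩ := Nat.exists_eq_pow_mul_and_not_dvd (orderOf_pos D.y).ne' p hp.ne_one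
  by_cases hpart : D.y ^ (p ^ e) = 1
  · obtain ⟨j, hj⟩ : ∃ j : ℕ, orderOf D.y = p ^ j := by
      obtain ⟨j, -, hj⟩ := (Nat.dvd_prime_pow hp).1 (orderOf_dvd_of_pow_eq_one hpart)
      exact ⟨j, hj⟩
    obtain ⟨c', hc', hc'1, hyc⟩ := hcen D.y ⟨j, hj⟩
    exact D.no_commute D.hy hc'1 rfl hc' hyc
  · have h1 : centralizer ({D.y ^ (p ^ e)} : Set G) = centralizer {(v : G)} := by
      refine hfree.coprime_part ?_ hpart ?_
      · exact mem_centralizer_singleton_iff.2 (Commute.pow_left (show Commute D.y v from hvy.symm) _).eq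
      · rw [hvo, orderOf_pow, hn', Nat.gcd_eq_right (dvd_mul_right _ _), Nat.mul_div_cancel_left _ (pow_pos hp.pos e)]
        exact (hp.coprime_iff_not_dvd.2 hm).symm
    have h2 := D.max2 rfl hpart (cent_le_pow D.y _)
    rw [h1] at h2
    have := D.lt12
    rw [← hvt, ← h2] at this
    exact this.false

theorem Data.exists_third_prime : ∃ (r : ℕ) (x : G), r.Prime ∧ orderOf x = r ∧ ¬ r ∣ (cd D.y) ∧ (cd x) = cd D.z := by
  obtain ⟨r, hr, hr3, hr2⟩ : ∃ r : ℕ, r.Prime ∧ r ∣ (cd D.z) ∧ ¬ r ∣ cd D.y := by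
    by_contra hne
    push Not at hne
    refine D.not_32 ?_
    rw [Nat.dvd_iff_prime_pow_dvd_dvd]
    intro r k hr hk
    rcases Nat.eq_zero_or_pos k with rfl | hk0
    · simp
    have h1 := D.full_of_dvd hr (hne r hr ((dvd_pow_self r hk0.ne').trans hk))
    refine (pow_dvd_pow r ?_).trans h1
    exact (hr.pow_dvd_iff_le_factorization Nat.card_pos.ne').1 (hk.trans (card_subgroup_dvd_card _))
  haveI : Fact r.Prime := ⟨hr⟩
  obtain ⟨x, hx⟩ := exists_prime_orderOf_dvd_card' (G := centralizer ({D.z} : Set G)) r hr3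
  have hxo : orderOf (x : G) = r := by rwa [orderOf_coe]
  have hx1 : (x : G) ≠ 1 := fun h => hr.ne_one (by rw [← hxo, h, orderOf_one])
  have hxC : r ∣ cd (x : G) := by
    rw [← hxo]
    exact Subgroup.orderOf_dvd_natCard _ (mem_centralizer_singleton_iff.2 rfl)
  refine ⟨r, x, hr, hxo, hr2, ?_⟩
  rcases D.vals _ hx1 with e | e | e
  · exact absurd ((e ▸ hxC).trans D.dvd12) hr2
  · exact absurd (e ▸ hxC) hr2
  · exact e

theorem Data.coprime23 : (cd D.y).Coprime (cd D.z) := by
  refine Nat.coprime_of_dvd fun p hp hp2 hp3 => ?_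
  haveI : Fact p.Prime := ⟨hp⟩
  obtain ⟨r, x, hr, hxo, hr2, hx3⟩ := D.exists_third_prime
  rw [← hx3] at hp3
  obtain ⟨w, hw⟩ := exists_prime_orderOf_dvd_card' (G := centralizer ({x} : Set G)) p hp3
  have hwo : orderOf (w : G) = p := by rwa [orderOf_coe]
  have hrw : r ∣ cd (w : G) := by
    rw [← hxo]
    exact Subgroup.orderOf_dvd_natCard _ (mem_centralizer_singleton_iff.2 (mem_centralizer_singleton_iff.1 w.2).symm)
  have hfull := D.full_of_dvd hp hp2
  obtain ⟨Q, hQ⟩ : ∃ Q : Sylow p G, (Q : Subgroup G) ≤ centralizer {D.y} := by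
    obtain ⟨Q₀⟩ : Nonempty (Sylow p (centralizer ({D.y} : Set G))) := inferInstance
    have hle := (map_subtype_le (Q₀ : Subgroup (centralizer ({D.y} : Set G))))
    have hc : Nat.card ((Q₀ : Subgroup (centralizer ({D.y} : Set G))).map (centralizer ({D.y} : Set G)).subtype : Subgroup G) =
        p ^ (Nat.card G).factorization p := by
      rw [Subgroup.card_map_of_injective (Subtype.val_injective), Q₀.card_eq_multiplicity]
      congr 1
      refine le_antisymm ?_ ((hp.pow_dvd_iff_le_factorization Nat.card_pos.ne').1 hfull)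
      exact (Nat.factorization_le_iff_dvd Nat.card_pos.ne' Nat.card_pos.ne').2 (card_subgroup_dvd_card _) p
    exact ⟨Sylow.ofCard _ hc, by rw [Sylow.coe_ofCard]; exact hle⟩
  obtain ⟨P, hP⟩ := (show IsPGroup p (zpowers (w : G)) from
    IsPGroup.of_card (n := 1) (by rw [Nat.card_zpowers, hwo, pow_one])).exists_le_sylow
  obtain ⟨g, hg⟩ := MulAction.exists_smul_eq G P Q
  have hwg : g * w * g⁻¹ ∈ centralizer ({D.y} : Set G) := by
    apply hQ
    rw [← hg]
    exact Subgroup.smul_mem_pointwise_smul (w : G) (MulAut.conj g) _ (hP (mem_zpowers _))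
  have hw1 : (w : G) ≠ 1 := fun h => hp.ne_one (by rw [← hwo, h, orderOf_one])
  rcases D.vals _ hw1 with e | e | e
  · exact hr2 ((e ▸ hrw).trans D.dvd12)
  · exact hr2 (e ▸ hrw)
  · refine D.no_commute D.hy (fun h => hw1 (conj_eq_one_iff.1 h)) rfl ((conj_cd g (w : G)).trans e) ?_
    exact (mem_centralizer_singleton_iff.1 hwg).symm

end Containment

end CfsgLib.Inv53.RankThree
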