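import Cfsg.Agent.Inv53.RankThree

/-!
# Conclusion: three centraliser orders force all centralisers to be incomparable, hence `PSL₂(2^m)`
-/

set_option autoImplicit false

namespace CfsgLib.Inv53.RankThree

open Subgroup

universe u

variable {G : Type u} [Group G] [Finite G] [IsSimpleGroup G]

local notation:max "cd " x:max => Nat.card (centralizer ({x} : Set G))

theorem false_of_data (D : Data G) : False := by
  classical
  haveI := Fintype.ofFinite G
  have hcard : cd D.y * cd D.z = Nat.card G := by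
    refine Nat.dvd_antisymm ?_ (D.dvd_of_all fun w hw => ?_)
    · exact Nat.Coprime.mul_dvd_of_dvd_of_dvd D.coprime23 (card_subgroup_dvd_card _) (card_subgroup_dvd_card _)
    · rcases D.vals w hw with e | e | e <;> rw [e]
      · exact D.dvd12.trans (dvd_mul_right _ _)
      · exact dvd_mul_right _ _
      · exact dvd_mul_left _ _
  have hidx : ∀ {a : G}, cd a = cd D.y → (centralizer ({a} : Set G)).index = cd D.z := by
    intro a ha
    have h := (centralizer ({a} : Set G)).card_mul_index
    rw [ha, ← hcard] at h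
    exact Nat.eq_of_mul_eq_mul_left Nat.card_pos h
  have hidx3 : (centralizer ({D.z} : Set G)).index = cd D.y := by
    have h := (centralizer ({D.z} : Set G)).card_mul_index
    rw [← hcard, mul_comm (cd D.y)] at h
    exact Nat.eq_of_mul_eq_mul_left Nat.card_pos h
  have hnotprime : ¬ (Nat.card G).Prime := fun h => D.hG (by
    haveI := Fact.mk h
    haveI : IsCyclic G := isCyclic_of_prime_card (p := Nat.card G) rfl
    exact IsCyclic.isMulCommutative)
  have hdvd1 : ∀ {w : G}, cd w = cd D.u → (cd w).Coprime (cd D.z) := fun {w} h =>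
    h ▸ D.coprime23.coprime_dvd_left D.dvd12
  -- the third kind
  have hfreeZ : IsFree D.z := by
    constructor
    · intro w hw h
      refine eq_of_le_of_card_ge h ?_
      have hd := card_dvd_of_le h
      rcases D.vals w hw with e | e | e <;> rw [e] at hd ⊢
      · exact absurd hd D.not_31
      · exact absurd hd D.not_32
    · intro w hw h
      refine eq_of_le_of_card_ge h ?_
      have hd := card_dvd_of_le h
      rcases D.vals w hw with e | e | e <;> rw [e] at hd ⊢
      · exfalso
        have h1 : cd D.u = 1 := Nat.eq_one_of_dvd_coprimes D.coprime23 D.dvd12 hd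
        have h2 : D.u ∈ centralizer ({D.u} : Set G) := mem_centralizer_singleton_iff.2 rfl
        rw [Subgroup.eq_bot_of_card_eq _ h1] at h2
        exact D.hu (mem_bot.1 h2)
      · exact absurd hd D.not_23
  set H := centralizer ({D.z} : Set G) with hH
  have habel : ∀ a ∈ H, ∀ b ∈ H, a * b = b * a := by
    rcases hfreeZ.comm_or_pGroup D.hz with h | ⟨p, hp, hP⟩
    · exact h
    · exfalso
      haveI := Fact.mk hp
      obtain ⟨k, hk⟩ := IsPGroup.iff_card.1 hP
      exact hnotprime (CfsgLib.Characters.prime_card_of_primePow_class p k hp D.y D.hy (by rw [hidx rfl, ← hk]))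
  have hCC : ExceptionalPerm.CC H := by
    refine ⟨habel, fun a ha ha1 g hg => ?_, fun h => D.hz ?_⟩
    · have haz : a * D.z = D.z * a := mem_centralizer_singleton_iff.1 ha
      have hsub : H ≤ centralizer ({a} : Set G) := fun b hb =>
        mem_centralizer_singleton_iff.2 (habel b hb a ha)
      have heq : H = centralizer ({a} : Set G) := by
        refine eq_of_le_of_card_ge hsub ?_
        rcases D.vals a ha1 with e | e | e
        · exfalso
          have h1 := Subgroup.orderOf_dvd_natCard _ (mem_centralizer_singleton_iff.2 (rfl : a * a = a * a))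
          have h2 := Subgroup.orderOf_dvd_natCard _ ha
          exact ha1 (orderOf_eq_one_iff.1 (Nat.eq_one_of_dvd_coprimes (hdvd1 e) h1 h2))
        · exact (D.no_commute ha1 D.hz e rfl haz).elim
        · rw [e]
      rw [heq]; exact mem_centralizer_singleton_iff.2 hg
    · have h2 : D.z ∈ H := mem_centralizer_singleton_iff.2 rfl
      rw [h] at h2; exact mem_bot.1 h2
  -- the fixed point property
  have hfix : ∀ {a v g : G}, cd a = cd D.y → v ≠ 1 → cd v = cd D.y → v ∈ centralizer ({a} : Set G) →
      g⁻¹ * v * g ∈ centralizer ({a} : Set G) → g ∈ centralizer ({a} : Set G) := by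
    intro a v g ha hv1 hv hva hg
    refine eq_of_conj_mem hCC (by rw [ha, hcard]) (ha ▸ D.coprime23) ?_ (hidx hv) hva hg
    rw [center_eq_bot D.hG, mem_bot]; exact hv1
  have hsame : ∀ {a b : G}, b ≠ 1 → cd a = cd D.y → cd b = cd D.y → a * b = b * a →
      centralizer ({b} : Set G) = centralizer {a} := by
    intro a b hb1 ha hb hab
    refine eq_of_le_of_card_ge (fun c hc => ?_) (by rw [ha, hb])
    refine hfix ha hb1 hb (mem_centralizer_singleton_iff.2 hab.symm) ?_
    have hcb : c * b = b * c := mem_centralizer_singleton_iff.1 hc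
    rw [mul_assoc, ← hcb, inv_mul_cancel_left]
    exact mem_centralizer_singleton_iff.2 hab.symm
  -- elements of order prime to a central element of prime order
  have hsmall : ∀ {y0 a : G}, y0 ≠ 1 → cd y0 = cd D.y → a ≠ 1 → a * y0 = y0 * a →
      (orderOf a).Coprime (orderOf y0) → centralizer ({a} : Set G) ≤ centralizer {y0} := by
    intro y0 a hy0 hty ha hc hcop
    have he := cent_mul_eq hc hcop
    have hne : a * y0 ≠ 1 := fun h => by
      have h1 : a = y0⁻¹ := eq_inv_of_mul_eq_one_left h
      rw [h1, orderOf_inv, Nat.coprime_self, orderOf_eq_one_iff] at hcop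
      exact hy0 hcop
    have hc' : a * y0 * y0 = y0 * (a * y0) := by rw [← mul_assoc, hc]
    by_contra hnle
    have hlt : centralizer ({a * y0} : Set G) < centralizer {a} := by
      refine lt_of_le_of_ne (by rw [he]; exact inf_le_left) fun e => hnle ?_
      rw [← e, he]; exact inf_le_right
    have hclt : cd (a * y0) < cd a := Set.Finite.card_lt_card (Set.toFinite _) hlt
    have hdiv := card_dvd_of_le hlt.le
    have ha2 : cd a = cd D.y := by
      rcases D.vals a ha with e | e | e
      · exfalso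
        rcases D.vals _ hne with e' | e' | e'
        · simp only [e, e'] at hclt; exact hclt.false
        · simp only [e, e'] at hclt
          exact absurd D.lt12 hclt.not_gt
        · exact D.no_commute hy0 hne hty e' hc'.symm
      · exact e
      · exact (D.no_commute hy0 ha hty e hc.symm).elim
    exact hnle (hsame ha hty ha2 hc.symm).le
  obtain ⟨r, k, hr, hk⟩ := exists_prime_pow_elem D.hy
  set y0 := D.y ^ k with hy0def
  have hy01 : y0 ≠ 1 := fun h => by rw [h, orderOf_one] at hk; exact hr.ne_one hk.symm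
  have hy02 : cd y0 = cd D.y := by rw [← D.max2 rfl hy01 (cent_le_pow D.y k)]
  set A := centralizer ({y0} : Set G) with hA
  have hy0A : y0 ∈ A := mem_centralizer_singleton_iff.2 rfl
  have htriv : ∀ g : G, g ∉ A → ∀ d ∈ A, g⁻¹ * d * g ∈ A → d = 1 := by
    intro g hg d' hd' hgd'
    by_contra hd'1
    obtain ⟨q, j, hq, hj⟩ := exists_prime_pow_elem hd'1
    set d := d' ^ j with hd
    have hd1 : d ≠ 1 := fun h => by rw [h, orderOf_one] at hj; exact hq.ne_one hj.symm
    have hdA : d ∈ A := pow_mem hd' j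
    have hdy : d * y0 = y0 * d := mem_centralizer_singleton_iff.1 hdA
    set y' := g * y0 * g⁻¹ with hy'
    have hy'A : y' ∉ A := fun h => hg (by
      simpa using inv_mem (hfix hy02 hy01 hy02 hy0A (g := g⁻¹) (by rwa [inv_inv])))
    have hdy' : y' ∈ centralizer ({d} : Set G) := by
      have h1 : g⁻¹ * d * g ∈ A := by
        have := pow_mem hgd' j
        rwa [show (g⁻¹ * d' * g) ^ j = g⁻¹ * d * g by
          rw [hd, show g⁻¹ * d' * g = g⁻¹ * d' * g⁻¹⁻¹ by rw [inv_inv], conj_pow, inv_inv]] at this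
      rw [mem_centralizer_singleton_iff]
      calc y' * d = g * (y0 * (g⁻¹ * d * g)) * g⁻¹ := by rw [hy']; group
        _ = g * ((g⁻¹ * d * g) * y0) * g⁻¹ := by rw [mem_centralizer_singleton_iff.1 h1]
        _ = d * y' := by rw [hy']; group
    have hy0d : y0 ∈ centralizer ({d} : Set G) := mem_centralizer_singleton_iff.2 hdy.symm
    by_cases hqr : q = r
    swap
    · exact hy'A (hsmall hy01 hy02 hd1 hdy (by rw [hj, hk]; exact (Nat.coprime_primes hq hr).2 hqr) hdy')
    have hdt : cd d = cd D.u := by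
      rcases D.vals d hd1 with e | e | e
      · exact e
      · exact absurd ((hsame hd1 hy02 e hdy.symm).le hdy') hy'A
      · exact (D.no_commute hy01 hd1 hy02 e hdy.symm).elim
    have hfree : IsFree d := by
      constructor
      · intro w hw h
        refine eq_of_le_of_card_ge h ?_
        have hwy : y0 * w = w * y0 := mem_centralizer_singleton_iff.1 (h hy0d)
        rcases D.vals w hw with e | e | e
        · rw [e, hdt]
        · exact absurd ((hsame hw hy02 e hwy).le (h hdy')) hy'A
        · exact (D.no_commute hy01 hw hy02 e hwy).elim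
      · intro w hw h
        refine eq_of_le_of_card_ge h ?_
        have hd' := card_dvd_of_le h
        rw [hdt] at hd' ⊢
        rcases D.vals w hw with e | e | e <;> rw [e] at hd' ⊢
        · exact absurd (Nat.le_of_dvd Nat.card_pos hd') D.lt12.not_ge
        · exact absurd hd' D.not_31
    have honly : ∀ s : ℕ, s.Prime → s ∣ cd D.u → s = r := by
      intro s hs hsd
      by_contra hsr
      haveI := Fact.mk hs
      rw [← hdt] at hsd
      obtain ⟨a, ha⟩ := exists_prime_orderOf_dvd_card' (G := centralizer ({d} : Set G)) s hsd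
      have hao : orderOf (a : G) = s := by rwa [orderOf_coe]
      have ha1 : (a : G) ≠ 1 := fun h => hs.ne_one (by rw [← hao, h, orderOf_one])
      have heq := hfree.coprime_part a.2 ha1 (by rw [hao, hj, hqr]; exact (Nat.coprime_primes hs hr).2 hsr)
      have hay : (a : G) * y0 = y0 * a := (mem_centralizer_singleton_iff.1 (heq.ge hy0d)).symm
      exact hy'A (hsmall hy01 hy02 ha1 hay (by rw [hao, hk]; exact (Nat.coprime_primes hs hr).2 hsr) (heq.ge hdy'))
    obtain ⟨s, hs, hs2, hsr⟩ : ∃ s : ℕ, s.Prime ∧ s ∣ cd D.y ∧ s ≠ r := by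
      by_contra hne
      push Not at hne
      have h := Nat.eq_prime_pow_of_unique_prime_dvd (p := r) (n := cd D.y) Nat.card_pos.ne' (fun {d} hd hdd => hne d hd hdd)
      exact hnotprime (CfsgLib.Characters.prime_card_of_primePow_class r _ hr D.z D.hz (by rw [hidx3]; exact h))
    haveI := Fact.mk hs
    rw [← hy02] at hs2
    obtain ⟨a, ha⟩ := exists_prime_orderOf_dvd_card' (G := centralizer ({y0} : Set G)) s hs2
    have hao : orderOf (a : G) = s := by rwa [orderOf_coe]
    have ha1 : (a : G) ≠ 1 := fun h => hs.ne_one (by rw [← hao, h, orderOf_one])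
    have hay : (a : G) * y0 = y0 * a := mem_centralizer_singleton_iff.1 a.2
    have hcop : (orderOf (a : G)).Coprime (orderOf y0) := by rw [hao, hk]; exact (Nat.coprime_primes hs hr).2 hsr
    have he := cent_mul_eq hay hcop
    have hne1 : (a : G) * y0 ≠ 1 := fun h => by
      have h1 : (a : G) = y0⁻¹ := eq_inv_of_mul_eq_one_left h
      rw [h1, orderOf_inv] at hao
      exact hsr (hao.symm.trans hk)
    have hyay : y0 * ((a : G) * y0) = (a : G) * y0 * y0 := by rw [← mul_assoc, ← hay]
    rcases D.vals _ hne1 with e | e | e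
    · refine hsr (honly s hs ?_)
      rw [← e, ← hao, he]
      exact Subgroup.orderOf_dvd_natCard _ ⟨mem_centralizer_singleton_iff.2 rfl, a.2⟩
    · have h1 := hsame hne1 hy02 e hyay
      have h2 : A ≤ centralizer ({(a : G)} : Set G) := fun b hb => (mem_inf.1 (he.le (h1.ge hb))).1
      have h3 := D.max2 hy02 ha1 h2
      have hda : d * (a : G) = a * d := mem_centralizer_singleton_iff.1 (h2 hdA)
      have h4 := hsmall ha1 (by rw [← h3]; exact hy02) hd1 hda
        (by rw [hj, hao, hqr]; exact (Nat.coprime_primes hr hs).2 hsr.symm) hdy'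
      rw [← h3] at h4
      exact hy'A h4
    · exact D.no_commute hy01 hne1 hy02 e hyay
  obtain ⟨N, hN, hc, -⟩ := CfsgLib.Characters.exists_frobenius_kernel A (fun g hg x hx h => by
    refine htriv g⁻¹ (fun h' => hg (by simpa using inv_mem h')) x hx ?_
    rwa [inv_inv])
  rcases hN.eq_bot_or_eq_top with h | h
  · rw [h, isComplement'_bot_left] at hc
    exact cent_ne_top D.hG hy01 hc
  · rw [h, isComplement'_top_left] at hc
    exact hy01 (mem_bot.1 (hc ▸ hy0A))

/-- Three centraliser orders: `PSL₂` in characteristic two. -/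
theorem psl2_of_three (hG : ¬ IsMulCommutative G) (c₁ c₂ c₃ : ℕ) (h12 : c₁ ≠ c₂) (h13 : c₁ ≠ c₃) (h23 : c₂ ≠ c₃)
    (hvals : ∀ w : G, w ≠ 1 → cd w = c₁ ∨ cd w = c₂ ∨ cd w = c₃)
    (hex : ∀ c, c = c₁ ∨ c = c₂ ∨ c = c₃ → ∃ w : G, w ≠ 1 ∧ cd w = c) :
    ∃ (F : Type) (_ : Field F) (_ : Fintype F) (f : ℕ), 2 ≤ f ∧
      Fintype.card F = 2 ^ f ∧ Nonempty (G ≃* Matrix.ProjectiveSpecialLinearGroup (Fin 2) F) := by
  classical
  haveI : Fact (Nat.Prime 2) := ⟨Nat.prime_two⟩
  have hnocont : ∀ a b : G, a ≠ 1 → b ≠ 1 → ¬ centralizer ({a} : Set G) < centralizer {b} := by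
    intro a b ha hb hlt
    have hlt' : cd a < cd b := Set.Finite.card_lt_card (Set.toFinite _) hlt
    obtain ⟨c, hc, hca, hcb⟩ : ∃ c, (c = c₁ ∨ c = c₂ ∨ c = c₃) ∧ c ≠ cd a ∧ c ≠ cd b := by
      rcases hvals a ha with e | e | e <;> rcases hvals b hb with e' | e' | e' <;>
        first
          | exact absurd (e.trans e'.symm) hlt'.ne
          | exact ⟨c₁, Or.inl rfl, by omega, by omega⟩
          | exact ⟨c₂, Or.inr (Or.inl rfl), by omega, by omega⟩
          | exact ⟨c₃, Or.inr (Or.inr rfl), by omega, by omega⟩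
    obtain ⟨w, hw, rfl⟩ := hex c hc
    refine false_of_data ⟨hG, a, b, w, ha, hb, hw, hlt, hca, hcb, fun v hv => ?_⟩
    have := hvals a ha
    have := hvals b hb
    have := hvals v hv
    have := hlt'.ne
    omega
  have hfree : ∀ x : G, x ≠ 1 → IsFree x := fun x hx =>
    ⟨fun w hw h => h.eq_or_lt.resolve_right (hnocont x w hx hw),
     fun w hw h => h.eq_or_lt.resolve_right (hnocont w x hw hx)⟩
  have hnil : Cfsg.IsCNGroup G := by
    intro g hg
    rcases (hfree g hg).comm_or_pGroup hg with h | ⟨p, hp, hP⟩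
    · letI : CommGroup (centralizer ({g} : Set G)) :=
        { (inferInstance : Group (centralizer ({g} : Set G))) with
          mul_comm := fun a b => Subtype.ext (h _ a.2 _ b.2) }
      infer_instance
    · haveI := Fact.mk hp
      exact hP.isNilpotent
  have hev : Even (Nat.card G) := by
    by_contra h
    haveI := Cfsg.Agent.S0183.result (Nat.not_even_iff_odd.1 h) hnil
    exact hG ⟨⟨fun a b => IsSimpleGroup.comm_iff_isSolvable.2 inferInstance a b⟩⟩
  refine psl2_of_abelian_centralizers hG hev fun t ht => ?_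
  have ht1 : t ≠ 1 := fun h => by rw [h, orderOf_one] at ht; omega
  by_contra hnc
  -- centralisers of 2-elements are Sylow 2-subgroups
  have hno : ∀ x : G, x ≠ 1 → ¬ (∀ a ∈ centralizer ({x} : Set G), ∀ b ∈ centralizer ({x} : Set G), a * b = b * a) →
      ∀ p : ℕ, p.Prime → p ∣ orderOf x → IsPGroup p (centralizer ({x} : Set G)) := by
    intro x hx hnab p hp hpx
    obtain ⟨q, hq, hQ⟩ := ((hfree x hx).comm_or_pGroup hx).resolve_left hnab
    haveI := Fact.mk hq
    obtain ⟨e, he⟩ := IsPGroup.iff_card.1 hQ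
    have h1 : p ∣ q ^ e := he ▸ hpx.trans (Subgroup.orderOf_dvd_natCard _ (mem_centralizer_singleton_iff.2 rfl))
    rwa [(Nat.prime_dvd_prime_iff_eq hp hq).1 (hp.dvd_of_dvd_pow h1)]
  have hcentre : ∀ x : G, (∃ k : ℕ, orderOf x = 2 ^ k) → ∃ (P : Sylow 2 G) (c : G), c ≠ 1 ∧ (∃ k : ℕ, orderOf c = 2 ^ k) ∧
      x * c = c * x ∧ (P : Subgroup G) ≤ centralizer {c} := by
    intro x hx
    obtain ⟨P, hP⟩ := (show IsPGroup 2 (zpowers x) from by
      obtain ⟨k, hk⟩ := hx
      exact IsPGroup.of_card (n := k) (by rw [Nat.card_zpowers, hk])).exists_le_sylow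
    haveI : Nontrivial (P : Subgroup G) := (nontrivial_iff_ne_bot _).2 (P.ne_bot_of_dvd_card (even_iff_two_dvd.1 hev))
    haveI := P.2.center_nontrivial
    obtain ⟨c, hc⟩ := exists_ne (1 : center (P : Subgroup G))
    have hcc : ∀ s ∈ (P : Subgroup G), s * ((c : (P : Subgroup G)) : G) = ((c : (P : Subgroup G)) : G) * s :=
      fun s hs => congrArg Subtype.val (mem_center_iff.1 c.2 ⟨s, hs⟩)
    exact ⟨P, _, fun h => hc (Subtype.ext (Subtype.ext h)),
      CfsgLib.OddClassTwo.two_pow_of_mem P.2 (c : (P : Subgroup G)).2, hcc x (hP (mem_zpowers x)),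
      fun s hs => mem_centralizer_singleton_iff.2 (hcc s hs)⟩
  have htwo : ∀ {x : G}, x ≠ 1 → (∃ k : ℕ, orderOf x = 2 ^ k) → 2 ∣ orderOf x := by
    rintro x hx ⟨k, hk⟩
    rw [hk]
    refine dvd_pow_self 2 fun h => hx ?_
    rw [h, pow_zero, orderOf_eq_one_iff] at hk
    exact hk
  have hup : ∀ x c : G, x ≠ 1 → c ≠ 1 → x * c = c * x →
      (∀ a ∈ centralizer ({c} : Set G), ∀ b ∈ centralizer ({c} : Set G), a * b = b * a) →
      centralizer ({x} : Set G) = centralizer {c} := by
    intro x c hx hc hxc hab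
    refine ((hfree c hc).1 x hx fun a ha => ?_).symm
    exact mem_centralizer_singleton_iff.2 (hab a ha x (mem_centralizer_singleton_iff.2 hxc))
  obtain ⟨P, c, hc1, hc2, htc, hPc⟩ := hcentre t ⟨1, by rw [ht, pow_one]⟩
  have hcn : ¬ (∀ a ∈ centralizer ({c} : Set G), ∀ b ∈ centralizer ({c} : Set G), a * b = b * a) := fun hab => by
    refine hnc ⟨⟨fun a b => Subtype.ext ?_⟩⟩
    have e := hup t c ht1 hc1 htc hab
    exact hab _ (e ▸ a.2) _ (e ▸ b.2)
  have hcP : centralizer ({c} : Set G) = (P : Subgroup G) :=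
    P.3 (hno c hc1 hcn 2 Nat.prime_two (htwo hc1 hc2)) hPc
  have hx2 : ∀ x : G, x ≠ 1 → (∃ k : ℕ, orderOf x = 2 ^ k) → IsPGroup 2 (centralizer ({x} : Set G)) := by
    intro x hx hx'
    refine hno x hx (fun hab => ?_) 2 Nat.prime_two (htwo hx hx')
    obtain ⟨P', c', hc'1, hc'2, hxc', hP'⟩ := hcentre x hx'
    have e := hup c' x hc'1 hx hxc'.symm hab
    obtain ⟨g, hg⟩ := MulAction.exists_smul_eq G P' P
    refine hcn fun a ha b hb => ?_
    rw [hcP, ← hg] at ha hb
    obtain ⟨a', ha', rfl⟩ := (Subgroup.mem_smul_pointwise_iff_exists a (MulAut.conj g) _).1 ha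
    obtain ⟨b', hb', rfl⟩ := (Subgroup.mem_smul_pointwise_iff_exists b (MulAut.conj g) _).1 hb
    rw [MulAut.smul_def, MulAut.smul_def, ← map_mul, ← map_mul,
      hab _ (e ▸ hP' ha') _ (e ▸ hP' hb')]
  -- every 2-element has a class of odd size
  have hodd : CfsgLib.OddClassTwo.Hyp G := by
    intro x hx
    by_cases hx1 : x = 1
    · subst hx1
      rw [show centralizer ({1} : Set G) = ⊤ from top_le_iff.1 fun g _ => mem_centralizer_singleton_iff.2 (by simp), index_top]
      omega
    by_cases hfull : cd x = Nat.card (P : Subgroup G)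
    · have h := P.not_dvd_index
      have h1 := (centralizer ({x} : Set G)).card_mul_index
      rw [hfull, ← (P : Subgroup G).card_mul_index] at h1
      rwa [Nat.eq_of_mul_eq_mul_left Nat.card_pos h1]
    exfalso
    obtain ⟨i, hi⟩ := IsPGroup.iff_card.1 (hx2 x hx1 hx)
    obtain ⟨j, hj⟩ := IsPGroup.iff_card.1 P.2
    have hij : i ≠ j := fun h => hfull (by rw [hi, hj, h])
    -- every odd prime is full in the third value
    have hne3 : ∀ w : G, w ≠ 1 → ∀ q : ℕ, q.Prime → q ≠ 2 → q ∣ cd w → cd w ≠ cd x ∧ cd w ≠ cd c := by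
      intro w hw q hq hq2 hqd
      rw [hi, hcP, hj]
      constructor <;> intro e <;> rw [e] at hqd <;>
        exact hq2 ((Nat.prime_dvd_prime_iff_eq hq Nat.prime_two).1 (hq.dvd_of_dvd_pow hqd))
    have hcdc : cd c = 2 ^ j := by rw [hcP, hj]
    by_cases hodd' : ∃ q : ℕ, q.Prime ∧ q ≠ 2 ∧ q ∣ Nat.card G
    swap
    · push Not at hodd'
      have h := Nat.eq_prime_pow_of_unique_prime_dvd (p := 2) (n := Nat.card G) Nat.card_pos.ne' fun {d} hd hdd => by
        by_contra h; exact hodd' d hd h hdd
      have hG2 : IsPGroup 2 G := IsPGroup.of_card h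
      haveI : Nontrivial G := IsSimpleGroup.toNontrivial
      have := hG2.center_nontrivial
      exact (nontrivial_iff_ne_bot _).1 this (center_eq_bot hG)
    obtain ⟨q₀, hq₀, hq₀2, hq₀d⟩ := hodd'
    -- pick the element realising the third value
    have hw : ∀ q : ℕ, q.Prime → q ≠ 2 → q ∣ Nat.card G → ∃ w : G, w ≠ 1 ∧ q ^ (Nat.card G).factorization q ∣ cd w := by
      intro q hq hq2 hqd
      haveI := Fact.mk hq
      obtain ⟨Q⟩ : Nonempty (Sylow q G) := inferInstance
      haveI : Nontrivial (Q : Subgroup G) := (nontrivial_iff_ne_bot _).2 (Q.ne_bot_of_dvd_card hqd)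
      haveI := Q.2.center_nontrivial
      obtain ⟨e, he⟩ := exists_ne (1 : center (Q : Subgroup G))
      refine ⟨((e : (Q : Subgroup G)) : G), fun h => he (Subtype.ext (Subtype.ext h)), ?_⟩
      rw [← Q.card_eq_multiplicity]
      exact card_dvd_of_le fun s hs => mem_centralizer_singleton_iff.2 (congrArg Subtype.val (mem_center_iff.1 e.2 ⟨s, hs⟩))
    obtain ⟨w, hw1, hwd⟩ := hw q₀ hq₀ hq₀2 hq₀d
    have hqpos : ∀ {q : ℕ}, q.Prime → q ∣ Nat.card G → q ∣ q ^ (Nat.card G).factorization q := fun {q} hq hd =>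
      dvd_pow_self q (hq.factorization_pos_of_dvd Nat.card_pos.ne' hd).ne'
    obtain ⟨k, hk⟩ : ∃ k, (centralizer ({w} : Set G)).index = 2 ^ k := by
      refine ⟨_, Nat.eq_prime_pow_of_unique_prime_dvd index_ne_zero_of_finite fun {q} hq hqd => ?_⟩
      by_contra hq2
      have hqG : q ∣ Nat.card G := hqd.trans (index_dvd_card _)
      obtain ⟨v, hv1, hvd⟩ := hw q hq hq2 hqG
      have hA := hne3 w hw1 q₀ hq₀ hq₀2 ((hqpos hq₀ hq₀d).trans hwd)
      have hB := hne3 v hv1 q hq hq2 ((hqpos hq hqG).trans hvd)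
      have hC : cd x ≠ cd c := by rw [hi, hcdc]; exact fun e => hij (Nat.pow_right_injective le_rfl e)
      have := hvals w hw1
      have := hvals v hv1
      have := hvals x hx1
      have := hvals c hc1
      have heq : cd v = cd w := by omega
      rw [heq] at hvd
      have h1 := Nat.mul_dvd_mul hvd hqd
      rw [(centralizer ({w} : Set G)).card_mul_index, ← pow_succ] at h1
      have h2 := (hq.pow_dvd_iff_le_factorization Nat.card_pos.ne').1 h1
      omega
    refine hG ?_
    haveI := Fact.mk (CfsgLib.Characters.prime_card_of_primePow_class 2 k Nat.prime_two w hw1 hk)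
    haveI : IsCyclic G := isCyclic_of_prime_card (p := Nat.card G) rfl
    exact IsCyclic.isMulCommutative
  refine hcn fun a ha b hb => ?_
  rw [hcP] at ha hb
  exact CfsgLib.OddClassTwo.comm_aux _ G le_rfl hodd P a ha b hb

end CfsgLib.Inv53.RankThree
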