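import Mathlib

/-!
# Centraliser orders in `SL₂` of characteristic two
-/

set_option autoImplicit false
set_option maxHeartbeats 100000

namespace CfsgLib.Inv53.SL2Cent

open Matrix

variable {F : Type*} [Field F] [Fintype F] [CharP F 2]

local notation "SL2" => SpecialLinearGroup (Fin 2) F

/-- The points of the conic attached to a trace. -/
abbrev Sol (t : F) : Type _ := {p : F × F // p.1 * p.1 + t * (p.1 * p.2) + p.2 * p.2 = 1}

omit [Fintype F] in
theorem two_eq_zero : (2 : F) = 0 := CharP.cast_eq_zero F 2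

omit [Fintype F] in
theorem sl2_nonscalar {M : SL2} (hM : M ≠ 1) : ¬ (M.1 0 1 = 0 ∧ M.1 1 0 = 0 ∧ M.1 0 0 = M.1 1 1) := by
  rintro ⟨hb, hc, hd⟩
  apply hM
  have hdet := M.2
  rw [det_fin_two, hb, hc, ← hd] at hdet
  have h2 : (2 : F) = 0 := two_eq_zero
  have h1 : (M.1 0 0 - 1) * (M.1 0 0 - 1) = 0 := by linear_combination hdet - (M.1 0 0 - 1) * h2
  have ha : M.1 0 0 = 1 := sub_eq_zero.1 (mul_self_eq_zero.1 h1)
  ext i j
  fin_cases i <;> fin_cases j <;> simp [hb, hc, ha, ← hd]

/-- The element `a + b M`. -/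
def comb (M : SL2) (p : Sol (M.1 0 0 + M.1 1 1)) : SL2 :=
  ⟨!![p.1.1 + p.1.2 * M.1 0 0, p.1.2 * M.1 0 1; p.1.2 * M.1 1 0, p.1.1 + p.1.2 * M.1 1 1], by
    have hdet := M.2
    rw [det_fin_two] at hdet
    rw [det_fin_two_of]
    linear_combination p.2 + p.1.2 * p.1.2 * hdet⟩

theorem card_cent {M : SL2} (hM : M ≠ 1) :
    Nat.card (Subgroup.centralizer ({M} : Set SL2)) = Nat.card (Sol (M.1 0 0 + M.1 1 1)) := by
  have hmem : ∀ p, comb M p ∈ Subgroup.centralizer ({M} : Set SL2) := by
    intro p
    rw [Subgroup.mem_centralizer_singleton_iff]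
    apply Subtype.ext
    show (comb M p).1 * M.1 = M.1 * (comb M p).1
    ext i j
    fin_cases i <;> fin_cases j <;> simp [comb, Matrix.mul_apply, Fin.sum_univ_two] <;> ring
  refine (Nat.card_congr (Equiv.ofBijective (fun p => (⟨comb M p, hmem p⟩ : Subgroup.centralizer ({M} : Set SL2))) ⟨?_, ?_⟩)).symm
  · intro p q hpq
    have h := congrArg (fun z : Subgroup.centralizer ({M} : Set SL2) => z.1.1) hpq
    have h00 := congrFun (congrFun h 0) 0
    have h01 := congrFun (congrFun h 0) 1
    have h10 := congrFun (congrFun h 1) 0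
    have h11 := congrFun (congrFun h 1) 1
    simp only [comb, of_apply, cons_val', cons_val_zero, cons_val_one, cons_val_fin_one] at h00 h01 h10 h11
    have hb : p.1.2 = q.1.2 := by
      by_contra hne
      refine sl2_nonscalar hM ⟨?_, ?_, ?_⟩
      · exact (mul_eq_zero.1 (show (p.1.2 - q.1.2) * M.1 0 1 = 0 by linear_combination h01)).resolve_left (sub_ne_zero.2 hne)
      · exact (mul_eq_zero.1 (show (p.1.2 - q.1.2) * M.1 1 0 = 0 by linear_combination h10)).resolve_left (sub_ne_zero.2 hne)
      · exact sub_eq_zero.1 ((mul_eq_zero.1 (show (p.1.2 - q.1.2) * (M.1 0 0 - M.1 1 1) = 0 by linear_combination h00 - h11)).resolve_left (sub_ne_zero.2 hne))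
    rw [hb] at h00
    exact Subtype.ext (Prod.ext (add_right_cancel h00) hb)
  · rintro ⟨X, hX⟩
    rw [Subgroup.mem_centralizer_singleton_iff] at hX
    have hX' : X.1 * M.1 = M.1 * X.1 := congrArg Subtype.val hX
    rw [← Matrix.ext_iff] at hX'
    simp only [Fin.forall_fin_two, Matrix.mul_apply, Fin.sum_univ_two] at hX'
    obtain ⟨⟨x1, x2⟩, ⟨x3, x4⟩⟩ := hX'
    obtain ⟨a, b, e00, e01, e10, e11⟩ : ∃ a b : F, X.1 0 0 = a + b * M.1 0 0 ∧ X.1 0 1 = b * M.1 0 1 ∧
        X.1 1 0 = b * M.1 1 0 ∧ X.1 1 1 = a + b * M.1 1 1 := by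
      by_cases h01 : M.1 0 1 = 0
      · by_cases h10 : M.1 1 0 = 0
        · have hd : M.1 0 0 - M.1 1 1 ≠ 0 := sub_ne_zero.2 fun h => sl2_nonscalar hM ⟨h01, h10, h⟩
          have hX2 : X.1 0 1 = 0 := by
            have : X.1 0 1 * (M.1 0 0 - M.1 1 1) = 0 := by linear_combination -x2 + (X.1 0 0 - X.1 1 1) * h01
            exact (mul_eq_zero.1 this).resolve_right hd
          have hX3 : X.1 1 0 = 0 := by
            have : X.1 1 0 * (M.1 0 0 - M.1 1 1) = 0 := by linear_combination x3 + (X.1 0 0 - X.1 1 1) * h10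
            exact (mul_eq_zero.1 this).resolve_right hd
          set b := (X.1 0 0 - X.1 1 1) / (M.1 0 0 - M.1 1 1) with hb
          refine ⟨X.1 0 0 - b * M.1 0 0, b, by ring, by rw [hX2, h01, mul_zero], by rw [hX3, h10, mul_zero], ?_⟩
          have : b * (M.1 0 0 - M.1 1 1) = X.1 0 0 - X.1 1 1 := div_mul_cancel₀ _ hd
          linear_combination this
        · set b := X.1 1 0 / M.1 1 0 with hb
          have hb' : b * M.1 1 0 = X.1 1 0 := div_mul_cancel₀ _ h10
          refine ⟨X.1 0 0 - b * M.1 0 0, b, by ring, ?_, hb'.symm, ?_⟩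
          · exact mul_right_cancel₀ h10 (by linear_combination x1 - M.1 0 1 * hb')
          · exact mul_right_cancel₀ h10 (by linear_combination x3 + (M.1 0 0 - M.1 1 1) * hb')
      · set b := X.1 0 1 / M.1 0 1 with hb
        have hb' : b * M.1 0 1 = X.1 0 1 := div_mul_cancel₀ _ h01
        refine ⟨X.1 0 0 - b * M.1 0 0, b, by ring, hb'.symm, ?_, ?_⟩
        · exact mul_left_cancel₀ h01 (by linear_combination -x1 - M.1 1 0 * hb')
        · exact mul_left_cancel₀ h01 (by linear_combination -x2 + (M.1 0 0 - M.1 1 1) * hb')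
    have hdet := X.2
    have hdetM := M.2
    rw [det_fin_two] at hdetM
    rw [det_fin_two, e00, e01, e10, e11] at hdet
    refine ⟨⟨(a, b), by linear_combination hdet - b * b * hdetM⟩, Subtype.ext (Subtype.ext ?_)⟩
    ext i j
    fin_cases i <;> fin_cases j <;> simp [comb, e00, e01, e10, e11]

theorem card_sol_zero : Nat.card (Sol (0 : F)) = Fintype.card F := by
  have h2 : (2 : F) = 0 := two_eq_zero
  rw [← Nat.card_eq_fintype_card]
  refine Nat.card_congr ⟨fun p => p.1.2, fun b => ⟨(1 + b, b), by linear_combination (b + b * b) * h2⟩,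
    fun p => ?_, fun b => rfl⟩
  have h1 : (p.1.1 + p.1.2 - 1) * (p.1.1 + p.1.2 - 1) = 0 := by
    linear_combination p.2 + (p.1.1 * p.1.2 - p.1.1 - p.1.2 + 1) * h2
  refine Subtype.ext (Prod.ext ?_ rfl)
  show 1 + p.1.2 = p.1.1
  have h3 := mul_self_eq_zero.1 h1
  linear_combination -h3 + p.1.2 * h2

open Classical in
theorem card_sol (t : F) (ht : t ≠ 0) :
    Nat.card (Sol t) = (if ∃ s : F, s * s + t * s + 1 = 0 then Fintype.card F - 1 else Fintype.card F + 1) := by
  classical
  have h2 : (2 : F) = 0 := two_eq_zero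
  have e : Sol t ≃ Option {s : F // s * s + t * s + 1 ≠ 0} := by
    refine ⟨fun p => if hb : p.1.2 = 0 then none else some ⟨(p.1.1 - 1) / p.1.2, ?_⟩,
      fun o => o.elim ⟨(1, 0), by ring⟩ (fun s => ⟨(1 + s.1 * (t / (s.1 * s.1 + t * s.1 + 1)), t / (s.1 * s.1 + t * s.1 + 1)), ?_⟩),
      fun p => ?_, fun o => ?_⟩
    · intro h
      have hs : (p.1.1 - 1) / p.1.2 * p.1.2 = p.1.1 - 1 := div_mul_cancel₀ _ hb
      set s := (p.1.1 - 1) / p.1.2
      have : t * p.1.2 = 0 := by
        linear_combination p.2 - (p.1.2 * p.1.2) * h - (p.1.1 - 1) * h2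
          + (s * p.1.2 + p.1.1 - 1 + t * p.1.2) * hs
      rcases mul_eq_zero.1 this with h' | h'
      · exact ht h'
      · exact hb h'
    · set b := t / (s.1 * s.1 + t * s.1 + 1) with hb
      have hb' : b * (s.1 * s.1 + t * s.1 + 1) = t := div_mul_cancel₀ _ s.2
      linear_combination b * hb' + (s.1 * b + t * b) * h2
    · obtain ⟨⟨a, b⟩, hp⟩ := p
      simp only at hp ⊢
      by_cases hb : b = 0
      · subst hb
        have h1 : (a - 1) * (a - 1) = 0 := by linear_combination hp - (a - 1) * h2
        have : a = 1 := sub_eq_zero.1 (mul_self_eq_zero.1 h1)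
        subst this
        rw [dif_pos rfl]
        rfl
      · rw [dif_neg hb]
        refine Subtype.ext ?_
        show (1 + (a - 1) / b * (t / ((a - 1) / b * ((a - 1) / b) + t * ((a - 1) / b) + 1)), _) = (a, b)
        set s := (a - 1) / b with hs0
        have hs : s * b = a - 1 := div_mul_cancel₀ _ hb
        have hk : b * (s * s + t * s + 1) = t := mul_left_cancel₀ hb (by
          linear_combination hp + (s * b + (a - 1) + t * b) * hs - (a - 1) * h2 - t * b * h2)
        have hne : s * s + t * s + 1 ≠ 0 := fun h => ht (by rw [← hk, h, mul_zero])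
        have hdiv : t / (s * s + t * s + 1) = b := (div_eq_iff hne).2 hk.symm
        rw [hdiv]
        refine Prod.ext ?_ rfl
        show 1 + s * b = a
        rw [hs]; ring
    · rcases o with _ | ⟨s, hs⟩
      · exact dif_pos rfl
      · have hb : t / (s * s + t * s + 1) ≠ 0 := div_ne_zero ht hs
        refine (dif_neg hb).trans (congrArg some (Subtype.ext ?_))
        show (1 + s * (t / (s * s + t * s + 1)) - 1) / (t / (s * s + t * s + 1)) = s
        rw [add_sub_cancel_left, mul_div_cancel_right₀ _ hb]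
  rw [Nat.card_congr e, Finite.card_option, Nat.card_eq_fintype_card, Fintype.card_subtype_compl]
  split_ifs with h
  · obtain ⟨r, hr⟩ := h
    have hcard : Fintype.card {s : F // s * s + t * s + 1 = 0} = 2 := by
      rw [Fintype.card_subtype, Finset.card_eq_two]
      refine ⟨r, r + t, fun h => ht (by linear_combination -h), ?_⟩
      ext s
      simp only [Finset.mem_filter, Finset.mem_univ, true_and, Finset.mem_insert, Finset.mem_singleton]
      constructor
      · intro hs
        have : (s - r) * (s - (r + t)) = 0 := by linear_combination hs - hr + (r * r + r * t - r * s - t * s) * h2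
        rcases mul_eq_zero.1 this with h' | h'
        · exact Or.inl (sub_eq_zero.1 h')
        · exact Or.inr (sub_eq_zero.1 h')
      · rintro (rfl | rfl)
        · exact hr
        · linear_combination hr + (r * t + t * t) * h2
    rw [hcard]
    have := Fintype.card_subtype_le (fun s : F => s * s + t * s + 1 = 0)
    omega
  · have hcard : Fintype.card {s : F // s * s + t * s + 1 = 0} = 0 :=
      Fintype.card_eq_zero_iff.2 ⟨fun s => h ⟨s.1, s.2⟩⟩
    rw [hcard]
    omega

theorem cent_values {M : SL2} (hM : M ≠ 1) :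
    Nat.card (Subgroup.centralizer ({M} : Set SL2)) = Fintype.card F ∨
    Nat.card (Subgroup.centralizer ({M} : Set SL2)) = Fintype.card F - 1 ∨
    Nat.card (Subgroup.centralizer ({M} : Set SL2)) = Fintype.card F + 1 := by
  classical
  rw [card_cent hM]
  by_cases ht : M.1 0 0 + M.1 1 1 = 0
  · left; rw [ht, card_sol_zero]
  · right; rw [card_sol _ ht]; split_ifs <;> simp

/-- A matrix with given trace. -/
def traceMat (t : F) : SL2 := ⟨!![t, 1; 1, 0], by
  rw [det_fin_two_of]; linear_combination -(two_eq_zero (F := F))⟩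

theorem traceMat_ne_one (t : F) : traceMat t ≠ 1 := fun h => by
  have h1 := congrArg (fun M : SL2 => M.1 0 1) h
  simp [traceMat] at h1

theorem card_cent_traceMat (t : F) :
    Nat.card (Subgroup.centralizer ({traceMat t} : Set SL2)) = Nat.card (Sol t) := by
  rw [card_cent (traceMat_ne_one t)]
  simp [traceMat]

theorem cent_exists (hq : 3 ≤ Fintype.card F) (c : ℕ)
    (hc : c = Fintype.card F ∨ c = Fintype.card F - 1 ∨ c = Fintype.card F + 1) :
    ∃ M : SL2, M ≠ 1 ∧ Nat.card (Subgroup.centralizer ({M} : Set SL2)) = c := by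
  classical
  have h2 : (2 : F) = 0 := two_eq_zero
  rcases hc with rfl | rfl | rfl
  · exact ⟨traceMat 0, traceMat_ne_one 0, by rw [card_cent_traceMat, card_sol_zero]⟩
  · obtain ⟨s, hs0, hs1⟩ : ∃ s : F, s ≠ 0 ∧ s ≠ 1 := by
      by_contra h
      push Not at h
      have hle : Fintype.card F ≤ ({0, 1} : Finset F).card := by
        rw [← Finset.card_univ]
        refine Finset.card_le_card fun s _ => ?_
        by_cases h0 : s = 0
        · simp [h0]
        · simp [h s h0]
      have := hle.trans Finset.card_le_two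
      omega
    have ht : s + s⁻¹ ≠ 0 := fun h => hs1 (by
      have h1 : (s - 1) * (s - 1) = 0 := by
        have := mul_inv_cancel₀ hs0
        linear_combination s * h - this - s * h2
      exact sub_eq_zero.1 (mul_self_eq_zero.1 h1))
    refine ⟨traceMat (s + s⁻¹), traceMat_ne_one _, ?_⟩
    rw [card_cent_traceMat, card_sol _ ht, if_pos]
    refine ⟨s, ?_⟩
    have := mul_inv_cancel₀ hs0
    linear_combination this + (s * s + 1) * h2
  · obtain ⟨t, ht⟩ : ∃ t : F, ∀ s : F, s ≠ 0 → s + s⁻¹ ≠ t := by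
      by_contra h
      push Not at h
      choose g hg0 hg using h
      have hsurj : Function.Injective (fun t => (⟨g t, hg0 t⟩ : {s : F // s ≠ 0})) := by
        intro a b hab
        rw [← hg a, ← hg b, show g a = g b from congrArg Subtype.val hab]
      have h1 := Fintype.card_le_of_injective _ hsurj
      have h2 : Fintype.card {s : F // s ≠ 0} = Fintype.card F - 1 := by simp
      omega
    have ht0 : t ≠ 0 := fun h => ht 1 one_ne_zero (by rw [h, inv_one]; linear_combination h2)
    refine ⟨traceMat t, traceMat_ne_one _, ?_⟩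
    rw [card_cent_traceMat, card_sol _ ht0, if_neg]
    rintro ⟨s, hs⟩
    have hs0 : s ≠ 0 := fun h => by rw [h] at hs; simp at hs
    refine ht s hs0 (mul_left_cancel₀ hs0 ?_)
    have := mul_inv_cancel₀ hs0
    linear_combination hs + this - t * s * h2

end CfsgLib.Inv53.SL2Cent
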