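import Cfsg.Agent.Inv53.RudvalisStructure
import Cfsg.Agent.FusionClosed.Stabilizer

/-!
# Automorphisms of odd order fix everything
-/

set_option autoImplicit false

namespace CfsgLib.Inv53.Rudvalis

open Subgroup
open scoped commutatorElement

variable {T : Type*} [Group T] [Finite T] {W : Subgroup T}

local notation "ucs" => Subgroup.upperCentralSeries T

theorem Hyp.fix_of_odd (H : Hyp T W) (α : MulAut T) (hα : Odd (orderOf α)) : ∀ t, α t = t := by
  haveI : Fact (Nat.Prime 2) := ⟨Nat.prime_two⟩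
  haveI := H.nilpotent
  haveI := H.normal_W
  obtain ⟨-, -, hΦ, -⟩ := H.main
  obtain ⟨-, -, hexp⟩ := H.commutator_eq
  have hchar : ∀ (i : ℕ) (x : T), x ∈ ucs i → α x ∈ ucs i := by
    intro i
    induction i with
    | zero =>
      intro x hx
      rw [Subgroup.upperCentralSeries_zero, mem_bot] at hx ⊢
      rw [hx, map_one]
    | succ i ih =>
      intro x hx
      rw [Subgroup.mem_upperCentralSeries_succ_iff] at hx ⊢
      intro y
      have h := ih _ (hx (α.symm y))
      rwa [map_commutatorElement, MulEquiv.apply_symm_apply] at h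
  have hback : ∀ (i : ℕ) (x : T), α x ∈ ucs i → x ∈ ucs i := by
    intro i x hx
    have hb : Function.Bijective (fun z : ucs i => (⟨α z, hchar i z z.2⟩ : ucs i)) :=
      Finite.injective_iff_bijective.1 fun a b e => Subtype.ext (α.injective (congrArg Subtype.val e))
    obtain ⟨z, hz⟩ := hb.2 ⟨α x, hx⟩
    exact α.injective (congrArg Subtype.val hz) ▸ z.2
  have hstab : CfsgLib.FusionClosed.StabSeries (fun i => ucs i) 4 α := by
    intro i hi x hx
    have hidx : ((ucs i).subgroupOf (ucs (i + 1))).index = 2 := by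
      have h1 := relIndex_mul_relIndex ⊥ (ucs i) (ucs (i + 1)) bot_le
        (Subgroup.upperCentralSeries_mono T (Nat.le_succ i))
      rw [relIndex_bot_left, relIndex_bot_left, H.card_upper i (by omega), H.card_upper (i + 1) (by omega),
        pow_succ] at h1
      exact Nat.eq_of_mul_eq_mul_left (Nat.two_pow_pos i) h1
    refine (mul_mem_iff_of_index_two hidx (a := (⟨α x, hchar _ x hx⟩ : ucs (i + 1)))
      (b := ⟨x⁻¹, inv_mem hx⟩)).2 ?_
    show α x ∈ ucs i ↔ x⁻¹ ∈ ucs i
    rw [inv_mem_iff]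
    exact ⟨hback i x, hchar i x⟩
  have hfix := CfsgLib.FusionClosed.fix_of_stab H.twoGroup (Subgroup.upperCentralSeries_zero T) hstab
    (Nat.coprime_two_right.2 hα)
  have hdiff : ∀ t : T, t⁻¹ * α t ∈ W := by
    intro t
    rw [H.def_W]
    refine mem_centralizer_iff.2 fun z hz => ?_
    have h1 : α (t * z * t⁻¹) = t * z * t⁻¹ :=
      hfix 3 (by norm_num) _ ((inferInstance : (ucs 3).Normal).conj_mem z hz t)
    rw [map_mul, map_mul, hfix 3 (by norm_num) z hz, map_inv] at h1
    calc z * (t⁻¹ * α t) = t⁻¹ * (t * z * t⁻¹) * α t := by group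
      _ = t⁻¹ * (α t * z * (α t)⁻¹) * α t := by rw [h1]
      _ = t⁻¹ * α t * z := by group
  have hαW : ∀ w ∈ W, α w ∈ W := fun w hw => by
    have := mul_mem hw (hdiff w); rwa [mul_inv_cancel_left] at this
  -- odd powers
  have hper : ∀ (x d : T), α x = x * d → α d = d → x * d ^ orderOf α = x := by
    intro x d hx hd
    have hp : ∀ k : ℕ, (α ^ k) x = x * d ^ k := by
      intro k
      induction k with
      | zero => simp
      | succ k ih => rw [pow_succ', MulAut.mul_apply, ih, map_mul, map_pow, hd, hx, pow_succ', mul_assoc]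
    have := hp (orderOf α)
    rw [pow_orderOf_eq_one, MulAut.one_apply] at this
    exact this.symm
  have hone : ∀ (d : T) (k : ℕ), Odd k → d ^ k = 1 → d = 1 := by
    intro d k hk hdk
    obtain ⟨j, hj⟩ := H.twoGroup d
    have h3 : orderOf d ∣ Nat.gcd k (2 ^ j) :=
      Nat.dvd_gcd (orderOf_dvd_of_pow_eq_one hdk) (orderOf_dvd_of_pow_eq_one hj)
    rw [((Nat.coprime_two_right.2 hk).pow_right j).gcd_eq_one] at h3
    exact orderOf_eq_one_iff.mp (Nat.eq_one_of_dvd_one h3)
  -- modulo Z₃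
  set ψ := QuotientGroup.mk' (ucs 3)
  have key3 : ∀ g : T, g ∈ ucs 3 ↔ ψ g = 1 := fun g => (QuotientGroup.eq_one_iff g).symm
  have habel : ∀ {a b : T}, a ∈ W → b ∈ W → Commute (ψ a) (ψ b) := fun {a b} ha hb => by
    rw [← commutatorElement_eq_one_iff_commute, ← map_commutatorElement]
    exact (key3 _).1 (hΦ ▸ H.comm_mem_frat ha hb)
  have hψα : ∀ {a b : T}, ψ a = ψ b → ψ (α a) = ψ (α b) := fun {a b} h => by
    rw [← mul_inv_eq_one, ← map_inv, ← map_mul, ← key3, ← map_inv α, ← map_mul α]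
    exact hchar 3 _ ((key3 _).2 (by rw [map_mul, map_inv, h, mul_inv_cancel]))
  let K : Subgroup T :=
    { carrier := {w | w ∈ W ∧ ψ (α w) = ψ w}
      one_mem' := ⟨one_mem _, by rw [map_one]⟩
      mul_mem' := fun {a b} ha hb => ⟨mul_mem ha.1 hb.1, by rw [map_mul α, map_mul, ha.2, hb.2, map_mul]⟩
      inv_mem' := fun {a} ha => ⟨inv_mem ha.1, by rw [map_inv α, map_inv, ha.2, map_inv]⟩ }
  have hconjW : ∀ {v a : T}, v ∈ W → a ∈ W → ψ (v * a * v⁻¹) = ψ a := fun {v a} hv ha => by
    rw [map_mul, map_mul, (habel hv ha).eq, map_inv, mul_inv_cancel_right]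
  have hαconj : ∀ (t : T) {a : T}, a ∈ W → ψ (α (t * a * t⁻¹)) = ψ (t * α a * t⁻¹) := fun t {a} ha => by
    have e : α (t * a * t⁻¹) = t * ((t⁻¹ * α t) * α a * (t⁻¹ * α t)⁻¹) * t⁻¹ := by
      rw [map_mul, map_mul, map_inv]; group
    rw [e, map_mul, map_mul ψ t, hconjW (hdiff t) (hαW a ha), ← map_mul, ← map_mul]
  have hKn : K.Normal := ⟨fun a ha t => ⟨‹W.Normal›.conj_mem a ha.1 t, by
    rw [hαconj t ha.1, map_mul, map_mul ψ t, ha.2, ← map_mul, ← map_mul]⟩⟩
  have hKW : ∀ w ∈ W, ψ (α w) = ψ w := by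
    classical
    by_contra hall
    push Not at hall
    obtain ⟨w₀, hw₀, hne⟩ := hall
    obtain ⟨n, hn⟩ := Group.IsNilpotent.nilpotent T
    have hex : ∃ k, ∃ w ∈ W, w ∈ ucs k ∧ w ∉ K :=
      ⟨n, w₀, hw₀, hn ▸ mem_top _, fun h => hne h.2⟩
    obtain ⟨w, hw, hwk, hwK⟩ := Nat.find_spec hex
    have hK' : ∀ t : T, w * t * w⁻¹ * t⁻¹ ∈ K := by
      intro t
      by_contra ht
      have hW' : w * t * w⁻¹ * t⁻¹ ∈ W := by
        rw [show w * t * w⁻¹ * t⁻¹ = w * (t * w⁻¹ * t⁻¹) by group]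
        exact mul_mem hw (‹W.Normal›.conj_mem _ (inv_mem hw) t)
      cases hk : Nat.find hex with
      | zero =>
        rw [hk, Subgroup.upperCentralSeries_zero, mem_bot] at hwk
        exact hwK (hwk ▸ one_mem K)
      | succ k =>
        rw [hk, Subgroup.mem_upperCentralSeries_succ_iff] at hwk
        have := hwk t
        rw [commutatorElement_def] at this
        exact Nat.find_min hex (show k < Nat.find hex by omega) ⟨_, hW', this, ht⟩
    set δ := w⁻¹ * α w with hδ
    have hδW : δ ∈ W := hdiff w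
    have hδ4 : δ ∈ ucs 4 := by
      rw [Subgroup.mem_upperCentralSeries_succ_iff]
      intro t
      rw [key3, map_commutatorElement, commutatorElement_eq_one_iff_commute]
      obtain ⟨hkW, hk⟩ := hK' t
      set k := w * t * w⁻¹ * t⁻¹ with hkdef
      have h1 : t * w * t⁻¹ = k⁻¹ * w := by rw [hkdef]; group
      have h2 : ψ (t * α w * t⁻¹) = ψ k⁻¹ * ψ (α w) := by
        rw [← hαconj t hw, h1, map_mul α, map_mul, map_inv α, map_inv, hk, map_inv]
      have h3 : ψ (t * δ * t⁻¹) = ψ δ := by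
        have h4 : t * δ * t⁻¹ = (t * w * t⁻¹)⁻¹ * (t * α w * t⁻¹) := by rw [hδ]; group
        rw [h4, map_mul, h2, h1, hδ]
        simp only [map_mul, map_inv]
        group
      rw [map_mul, map_mul, map_inv] at h3
      exact (mul_inv_eq_iff_eq_mul.1 h3).symm
    have hδ1 : δ ^ orderOf α = 1 :=
      mul_eq_left.1 (hper w δ (by rw [hδ, mul_inv_cancel_left]) (hfix 4 le_rfl δ hδ4))
    have hδone := hone δ _ hα hδ1
    rw [hδ, inv_mul_eq_one] at hδone
    exact hwK ⟨hw, by rw [← hδone]⟩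
  have hWfix : ∀ w ∈ W, α w = w := by
    intro w hw
    have hd : w⁻¹ * α w ∈ ucs 3 := by rw [key3, map_mul, map_inv, hKW w hw, inv_mul_cancel]
    have h1 := hper w (w⁻¹ * α w) (by rw [mul_inv_cancel_left]) (hfix 3 (by norm_num) _ hd)
    exact (inv_mul_eq_one.1 (hone _ _ hα (mul_eq_left.1 h1))).symm
  intro t
  have h1 := hper t (t⁻¹ * α t) (by rw [mul_inv_cancel_left]) (hWfix _ (hdiff t))
  exact (inv_mul_eq_one.1 (hone _ _ hα (mul_eq_left.1 h1))).symm

/-- A subgroup isomorphic to `W` is equal to it. -/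
theorem Hyp.eq_of_equiv (H : Hyp T W) {V : Subgroup T} (e : W ≃* V) : V = W := by
  haveI : Fact (Nat.Prime 2) := ⟨Nat.prime_two⟩
  haveI := H.normal_W
  obtain ⟨hidx, -, hΦ, -⟩ := H.main
  let f : W →* T := V.subtype.comp e.toMonoidHom
  set P := (frattini W).map f with hP
  have hfinj : Function.Injective f := V.subtype_injective.comp e.injective
  have hPV : ∀ v ∈ V, ∀ v' ∈ V, v * v ∈ P ∧ v * v' * v⁻¹ * v'⁻¹ ∈ P := by
    intro v hv v' hv'
    refine ⟨⟨e.symm ⟨v, hv⟩ ^ 2, CfsgLib.Solvable.pow_mem_frattini (H.twoGroup.to_subgroup W) _, ?_⟩,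
      ⟨⁅e.symm ⟨v, hv⟩, e.symm ⟨v', hv'⟩⁆, CfsgLib.Solvable.commutator_le_frattini (H.twoGroup.to_subgroup W)
        (commutator_mem_commutator (mem_top _) (mem_top _)), ?_⟩⟩
    · simp [f, sq]
    · simp [f, commutatorElement_def]
  have hcardV : Nat.card V = Nat.card W := (Nat.card_congr e.toEquiv).symm
  have hidxV : V.index = 8 := by
    have h1 := card_mul_index V
    rw [hcardV, ← card_mul_index W, hidx] at h1
    exact Nat.eq_of_mul_eq_mul_left Nat.card_pos h1
  set U := V.subgroupOf W with hU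
  have hUidx : U.index ≤ 8 := by
    rw [← hidxV]
    calc U.index = V.relIndex W := rfl
      _ ≤ V.relIndex ⊤ := relIndex_le_of_le_right le_top (by rw [relIndex_top_right, hidxV]; norm_num)
      _ = V.index := relIndex_top_right V
  have hΦU : frattini W ≤ U := H.avoid U (by omega)
  have key : frattini W ≤ P.subgroupOf W := by
    intro s hs
    by_contra hsP
    have hsU : s ∈ U := hΦU hs
    set N := (P.subgroupOf W).subgroupOf U with hN
    have hsN : (⟨s, hsU⟩ : U) ∉ frattini U := by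
      intro h
      refine hsP (CfsgLib.Solvable.frattini_le_of_elementary (p := 2) (N := N) ?_ ?_ h)
      · rw [commutator_def, commutator_le]
        intro a _ b _
        have := (hPV _ a.2 _ b.2).2
        exact this
      · intro a
        have := (hPV _ a.2 _ a.2).1
        rw [sq]
        exact this
    rw [CfsgLib.Solvable.mem_frattini_iff] at hsN
    push Not at hsN
    obtain ⟨M, hM, hsM⟩ := hsN
    have hMidx := CfsgLib.Solvable.index_coatom ((H.twoGroup.to_subgroup W).to_subgroup U) hM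
    have h16 : (M.map U.subtype).index ≤ 16 := by
      rw [index_map_subtype, hMidx]; omega
    obtain ⟨m, hm, hms⟩ := H.avoid _ h16 hs
    exact hsM ((Subtype.ext hms : m = ⟨s, hsU⟩) ▸ hm)
  have hPeq : ucs 3 = P := by
    refine eq_of_le_of_card_ge ?_ ?_
    · intro z hz
      rw [← hΦ] at hz
      obtain ⟨c, hc, rfl⟩ := hz
      exact key hc
    · rw [hP, card_map_of_injective hfinj, ← card_map_of_injective (K := frattini W) W.subtype_injective, hΦ]
  refine eq_of_le_of_card_ge ?_ hcardV.ge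
  intro v hv
  rw [H.def_W]
  refine mem_centralizer_iff.2 fun z hz => ?_
  rw [SetLike.mem_coe, hPeq] at hz
  obtain ⟨c, hc, rfl⟩ := hz
  have hcW : ((c : W) : T) ∈ ucs 3 := hΦ ▸ ⟨c, hc, rfl⟩
  have h := H.commute_three (e.symm ⟨v, hv⟩).2 hcW
  have h2 : e.symm ⟨v, hv⟩ * c = c * e.symm ⟨v, hv⟩ := Subtype.ext h
  have h3 := congrArg f h2
  simp only [map_mul] at h3
  have h4 : f (e.symm ⟨v, hv⟩) = v := by simp [f]
  rw [h4] at h3
  exact h3.symm

end CfsgLib.Inv53.Rudvalis
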