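import Cfsg.Agent.Solvable.Frattini
import Cfsg.Agent.TwoGroupsQ.UniqueInvolution
import Mathlib

/-!
# 2-groups with small upper central terms and small Frattini subgroup of a centraliser
-/

set_option autoImplicit false

namespace CfsgLib.Inv53.Rudvalis

open Subgroup
open scoped commutatorElement

variable {T : Type*} [Group T] [Finite T]

/-- The `i`-th upper central term. -/
local notation "ucs" => Subgroup.upperCentralSeries T

omit [Finite T] in
theorem exists_mem_succ [Group.IsNilpotent T] {N : Subgroup T} [N.Normal] {j : ℕ}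
    (h : ¬ N ≤ ucs j) : ∃ x ∈ N, x ∈ ucs (j + 1) ∧ x ∉ ucs j := by
  classical
  obtain ⟨n, hn⟩ := Group.IsNilpotent.nilpotent T
  have hex : ∃ k, ∃ x ∈ N, x ∈ ucs k ∧ x ∉ ucs j := by
    obtain ⟨x, hx, hxj⟩ := SetLike.not_le_iff_exists.1 h
    exact ⟨n, x, hx, hn ▸ mem_top x, hxj⟩
  obtain ⟨x, hxN, hxk, hxj⟩ := Nat.find_spec hex
  refine ⟨x, hxN, ?_, hxj⟩
  rw [Subgroup.mem_upperCentralSeries_succ_iff]
  intro y
  by_contra hy
  have hyN : ⁅x, y⁆ ∈ N := by
    rw [commutatorElement_def, show x * y * x⁻¹ * y⁻¹ = x * (y * x⁻¹ * y⁻¹) by group]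
    exact mul_mem hxN (‹N.Normal›.conj_mem _ (inv_mem hxN) y)
  cases hk : Nat.find hex with
  | zero =>
    rw [hk, Subgroup.upperCentralSeries_zero, mem_bot] at hxk
    exact hxj (hxk ▸ one_mem _)
  | succ k =>
    rw [hk, Subgroup.mem_upperCentralSeries_succ_iff] at hxk
    exact Nat.find_min hex (show k < Nat.find hex by omega) ⟨_, hyN, hxk y, hy⟩

/-- The hypotheses. -/
structure Hyp (T : Type*) [Group T] [Finite T] (W : Subgroup T) : Prop where
  twoGroup : IsPGroup 2 T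
  card_ge : 2 ^ 14 ≤ Nat.card T
  card_four : Nat.card (Subgroup.upperCentralSeries T 4) = 16
  def_W : W = centralizer ((Subgroup.upperCentralSeries T 3 : Subgroup T) : Set T)
  frat_le : Nat.card (frattini W) ≤ 8
  avoid : ∀ U : Subgroup W, U.index ≤ 16 → frattini W ≤ U

variable {W : Subgroup T}

theorem Hyp.nilpotent (H : Hyp T W) : Group.IsNilpotent T :=
  haveI : Fact (Nat.Prime 2) := ⟨Nat.prime_two⟩
  H.twoGroup.isNilpotent

omit [Finite T] in
theorem two_mul_card_le [Finite T] (hT : IsPGroup 2 T) {A B : Subgroup T} (h : A < B) :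
    2 * Nat.card A ≤ Nat.card B := by
  haveI : Fact (Nat.Prime 2) := ⟨Nat.prime_two⟩
  obtain ⟨a, ha⟩ := IsPGroup.iff_card.mp (hT.to_subgroup A)
  obtain ⟨b, hb⟩ := IsPGroup.iff_card.mp (hT.to_subgroup B)
  have hlt : Nat.card A < Nat.card B := Set.Finite.card_lt_card (Set.toFinite _) h
  rw [ha, hb] at hlt ⊢
  rw [← pow_succ']
  exact Nat.pow_le_pow_right two_pos ((Nat.pow_lt_pow_iff_right (by norm_num)).1 hlt)

theorem Hyp.card_upper (H : Hyp T W) : ∀ i ≤ 4, Nat.card (ucs i) = 2 ^ i := by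
  haveI := H.nilpotent
  have hne : ∀ i ≤ 4, ucs i ≠ ⊤ := by
    intro i hi e
    have h1 := card_le_of_le (Subgroup.upperCentralSeries_mono T hi)
    rw [e, card_top, H.card_four] at h1
    have := H.card_ge
    omega
  have hstep : ∀ i ≤ 3, 2 * Nat.card (ucs i) ≤ Nat.card (ucs (i + 1)) := by
    intro i hi
    refine two_mul_card_le H.twoGroup (lt_of_le_of_ne (Subgroup.upperCentralSeries_mono T (Nat.le_succ i)) ?_)
    intro e
    obtain ⟨x, -, hx, hxn⟩ := exists_mem_succ (N := (⊤ : Subgroup T)) (j := i)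
      (fun h => hne i (by omega) (top_le_iff.1 h))
    exact hxn (e ▸ hx)
  have h0 : Nat.card (ucs 0) = 1 := by rw [Subgroup.upperCentralSeries_zero, card_bot]
  have h4 := H.card_four
  have s0 : 2 * Nat.card (ucs 0) ≤ Nat.card (ucs 1) := hstep 0 (by omega)
  have s1 : 2 * Nat.card (ucs 1) ≤ Nat.card (ucs 2) := hstep 1 (by omega)
  have s2 : 2 * Nat.card (ucs 2) ≤ Nat.card (ucs 3) := hstep 2 (by omega)
  have s3 : 2 * Nat.card (ucs 3) ≤ Nat.card (ucs 4) := hstep 3 (by omega)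
  intro i hi
  interval_cases i <;> omega

/-- A normal subgroup not in `Z_j` contains `Z_{j+1}`. -/
theorem Hyp.upper_le (H : Hyp T W) {N : Subgroup T} [N.Normal] : ∀ j ≤ 3, ¬ N ≤ ucs j → ucs (j + 1) ≤ N := by
  haveI := H.nilpotent
  intro j
  induction j with
  | zero =>
    intro _ hN
    obtain ⟨x, hxN, hx, hxn⟩ := exists_mem_succ hN
    have hle : zpowers x ≤ ucs (0 + 1) := zpowers_le.2 hx
    have h1 : zpowers x = ucs (0 + 1) := by
      refine eq_of_le_of_card_ge hle ?_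
      have h2 := two_mul_card_le H.twoGroup (A := ⊥) (B := zpowers x) (bot_lt_iff_ne_bot.2 fun e =>
        hxn (by rw [zpowers_eq_bot] at e; exact e ▸ one_mem _))
      rw [card_bot] at h2
      rw [H.card_upper 1 (by omega)]
      omega
    exact h1 ▸ zpowers_le.2 hxN
  | succ j ih =>
    intro hj hN
    have hlow : ucs (j + 1) ≤ N :=
      ih (by omega) fun h => hN (h.trans (Subgroup.upperCentralSeries_mono T (Nat.le_succ j)))
    obtain ⟨x, hxN, hx, hxn⟩ := exists_mem_succ hN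
    have hle : ucs (j + 1) ⊔ zpowers x ≤ ucs (j + 1 + 1) :=
      sup_le (Subgroup.upperCentralSeries_mono T (Nat.le_succ _)) (zpowers_le.2 hx)
    have h1 : ucs (j + 1) ⊔ zpowers x = ucs (j + 1 + 1) := by
      refine eq_of_le_of_card_ge hle ?_
      have h2 := two_mul_card_le H.twoGroup (lt_of_le_of_ne (le_sup_left (a := ucs (j + 1)) (b := zpowers x))
        fun e => hxn (e ▸ mem_sup_right (mem_zpowers x)))
      rw [H.card_upper (j + 1) (by omega)] at h2
      rw [H.card_upper (j + 1 + 1) (by omega), pow_succ]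
      omega
    exact h1 ▸ sup_le hlow (zpowers_le.2 hxN)

theorem Hyp.normal_eq (H : Hyp T W) {N : Subgroup T} [N.Normal] {j : ℕ} (hj : j ≤ 3)
    (hc : Nat.card N = 2 ^ j) : N = ucs j := by
  refine eq_of_le_of_card_ge ?_ (by rw [hc, H.card_upper j (by omega)])
  by_contra h
  have h1 := card_le_of_le (H.upper_le j hj h)
  rw [H.card_upper (j + 1) (by omega), hc, pow_succ] at h1
  have := Nat.two_pow_pos j
  omega

theorem Hyp.normal_W (H : Hyp T W) : W.Normal := by
  rw [H.def_W]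
  refine ⟨fun c hc g => mem_centralizer_iff.2 fun z hz => ?_⟩
  have h := mem_centralizer_iff.1 hc (g⁻¹ * z * g) (by
    have := (inferInstance : (ucs 3).Normal).conj_mem z hz g⁻¹
    rwa [inv_inv] at this)
  calc z * (g * c * g⁻¹) = g * ((g⁻¹ * z * g) * c) * g⁻¹ := by group
    _ = g * (c * (g⁻¹ * z * g)) * g⁻¹ := by rw [h]
    _ = g * c * g⁻¹ * z := by group

theorem Hyp.exists_gens (H : Hyp T W) :
    ∃ z2 z3, z2 ∈ ucs 2 ∧ z2 ∉ ucs 1 ∧ z3 ∈ ucs 3 ∧ z3 ∉ ucs 2 ∧
      (∀ z ∈ ucs 2, z ∈ ucs 1 ∨ z * z2⁻¹ ∈ ucs 1) ∧ (∀ z ∈ ucs 3, z ∈ ucs 2 ∨ z * z3⁻¹ ∈ ucs 2) := by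
  have key : ∀ j ≤ 2, ∃ y ∈ ucs (j + 1), y ∉ ucs j ∧ ∀ z ∈ ucs (j + 1), z ∈ ucs j ∨ z * y⁻¹ ∈ ucs j := by
    intro j hj
    have hle := Subgroup.upperCentralSeries_mono T (Nat.le_succ j)
    have hlt : ucs j < ucs (j + 1) := lt_of_le_of_ne hle fun e => by
      have h1 := H.card_upper j (by omega)
      rw [e, H.card_upper (j + 1) (by omega), pow_succ] at h1
      have := Nat.two_pow_pos j
      omega
    obtain ⟨y, hy, hyn⟩ := SetLike.exists_of_lt hlt
    refine ⟨y, hy, hyn, fun z hz => ?_⟩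
    have hidx : ((ucs j).subgroupOf (ucs (j + 1))).index = 2 := by
      have h1 := relIndex_mul_relIndex ⊥ (ucs j) (ucs (j + 1)) bot_le hle
      rw [relIndex_bot_left, relIndex_bot_left, H.card_upper j (by omega), H.card_upper (j + 1) (by omega),
        pow_succ] at h1
      exact Nat.eq_of_mul_eq_mul_left (Nat.two_pow_pos j) h1
    by_cases hzj : z ∈ ucs j
    · exact Or.inl hzj
    · exact Or.inr ((mul_mem_iff_of_index_two hidx (a := (⟨z, hz⟩ : ucs (j + 1)))
        (b := ⟨y⁻¹, inv_mem hy⟩)).2 (iff_of_false hzj (fun h => hyn ((inv_mem_iff (H := ucs j)).1 h))))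
  obtain ⟨z2, h2, h2', h2''⟩ := key 1 (by omega)
  obtain ⟨z3, h3, h3', h3''⟩ := key 2 (by omega)
  exact ⟨z2, z3, h2, h2', h3, h3', h2'', h3''⟩

/-- An element fixing the two generators lies in `W`. -/
theorem Hyp.mem_W_of_fix (H : Hyp T W) {z2 z3 : T}
    (h2c : ∀ z ∈ ucs 2, z ∈ ucs 1 ∨ z * z2⁻¹ ∈ ucs 1) (h3c : ∀ z ∈ ucs 3, z ∈ ucs 2 ∨ z * z3⁻¹ ∈ ucs 2)
    {t : T} (ht2 : t * z2 * t⁻¹ = z2) (ht3 : t * z3 * t⁻¹ = z3) : t ∈ W := by
  have h1 : ∀ z ∈ ucs 1, t * z = z * t := fun z hz => by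
    rw [Subgroup.upperCentralSeries_one] at hz; exact mem_center_iff.1 hz t
  have e2 : t * z2 = z2 * t := mul_inv_eq_iff_eq_mul.1 ht2
  have e3 : t * z3 = z3 * t := mul_inv_eq_iff_eq_mul.1 ht3
  have h2 : ∀ z ∈ ucs 2, t * z = z * t := fun z hz => by
    rcases h2c z hz with h | h
    · exact h1 z h
    · have := (Commute.mul_right (h1 _ h) (show Commute t z2 from e2)).eq
      rwa [inv_mul_cancel_right] at this
  rw [H.def_W]
  refine mem_centralizer_iff.2 fun z hz => Eq.symm ?_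
  rcases h3c z hz with h | h
  · exact h2 z h
  · have := (Commute.mul_right (h2 _ h) (show Commute t z3 from e3)).eq
    rwa [inv_mul_cancel_right] at this

/-- The pair of displacements of the two generators determines the coset of `W`. -/
theorem Hyp.exists_displacement (H : Hyp T W) {z2 z3 : T} (hz2 : z2 ∈ ucs 2) (hz3 : z3 ∈ ucs 3)
    (h2c : ∀ z ∈ ucs 2, z ∈ ucs 1 ∨ z * z2⁻¹ ∈ ucs 1) (h3c : ∀ z ∈ ucs 3, z ∈ ucs 2 ∨ z * z3⁻¹ ∈ ucs 2) :
    ∃ f : T ⧸ W → ucs 1 × ucs 2, Function.Injective f ∧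
      ∀ t : T, ((f t).1 : T) = ⁅t, z2⁆ ∧ ((f t).2 : T) = ⁅t, z3⁆ := by
  haveI := H.normal_W
  have m1 : ∀ t, ⁅t, z2⁆ ∈ ucs 1 := fun t => by
    rw [← commutatorElement_inv]; exact inv_mem ((Subgroup.mem_upperCentralSeries_succ_iff).1 hz2 t)
  have m2 : ∀ t, ⁅t, z3⁆ ∈ ucs 2 := fun t => by
    rw [← commutatorElement_inv]; exact inv_mem ((Subgroup.mem_upperCentralSeries_succ_iff).1 hz3 t)
  let f0 : T → ucs 1 × ucs 2 := fun t => (⟨_, m1 t⟩, ⟨_, m2 t⟩)
  have key : ∀ a b : T, f0 a = f0 b ↔ a⁻¹ * b ∈ W := by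
    intro a b
    simp only [f0, Prod.mk.injEq, Subtype.mk.injEq, commutatorElement_def]
    constructor
    · rintro ⟨ha, hb⟩
      refine H.mem_W_of_fix h2c h3c ?_ ?_
      · calc a⁻¹ * b * z2 * (a⁻¹ * b)⁻¹ = a⁻¹ * ((b * z2 * b⁻¹ * z2⁻¹) * z2) * a := by group
          _ = z2 := by rw [← ha]; group
      · calc a⁻¹ * b * z3 * (a⁻¹ * b)⁻¹ = a⁻¹ * ((b * z3 * b⁻¹ * z3⁻¹) * z3) * a := by group
          _ = z3 := by rw [← hb]; group
    · intro hw
      rw [H.def_W] at hw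
      have aux : ∀ z ∈ ucs 3, a * z * a⁻¹ * z⁻¹ = b * z * b⁻¹ * z⁻¹ := fun z hz => by
        have hwz := mem_centralizer_iff.1 hw z hz
        calc a * z * a⁻¹ * z⁻¹ = a * (z * (a⁻¹ * b)) * (a⁻¹ * b)⁻¹ * a⁻¹ * z⁻¹ := by group
          _ = b * z * b⁻¹ * z⁻¹ := by rw [hwz]; group
      exact ⟨aux z2 (Subgroup.upperCentralSeries_mono T (by norm_num) hz2), aux z3 hz3⟩
  refine ⟨fun q => Quotient.liftOn' q f0 (fun a b h => (key a b).2 (QuotientGroup.leftRel_apply.1 h)), ?_, fun t => ⟨rfl, rfl⟩⟩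
  intro q q' h
  induction q using QuotientGroup.induction_on with
  | H a =>
    induction q' using QuotientGroup.induction_on with
    | H b => exact QuotientGroup.eq.2 ((key a b).1 h)

theorem Hyp.index_W_le (H : Hyp T W) : W.index ≤ 8 := by
  obtain ⟨z2, z3, hz2, -, hz3, -, h2c, h3c⟩ := H.exists_gens
  obtain ⟨f, hf, -⟩ := H.exists_displacement hz2 hz3 h2c h3c
  rw [index_eq_card]
  refine (Nat.card_le_card_of_injective f hf).trans ?_
  rw [Nat.card_prod, H.card_upper 1 (by omega), H.card_upper 2 (by omega)]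
  norm_num

theorem Hyp.card_W_ge (H : Hyp T W) : 2 ^ 11 ≤ Nat.card W := by
  have h1 := card_mul_index W
  have h2 := H.index_W_le
  have h3 := H.card_ge
  have h4 : Nat.card W * W.index ≤ Nat.card W * 8 := Nat.mul_le_mul_left _ h2
  omega

theorem Hyp.upper_le_W (H : Hyp T W) : ∀ i ≤ 4, ucs i ≤ W := by
  haveI := H.normal_W
  have hbig := H.card_W_ge
  intro i hi
  rcases Nat.eq_zero_or_pos i with rfl | hpos
  · rw [Subgroup.upperCentralSeries_zero]; exact bot_le
  obtain ⟨j, rfl⟩ : ∃ j, i = j + 1 := ⟨i - 1, by omega⟩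
  refine H.upper_le j (by omega) fun h => ?_
  have h1 := card_le_of_le h
  rw [H.card_upper j (by omega)] at h1
  have : 2 ^ j ≤ 2 ^ 3 := Nat.pow_le_pow_right two_pos (by omega)
  omega

theorem Hyp.commute_three (H : Hyp T W) {w z : T} (hw : w ∈ W) (hz : z ∈ ucs 3) : w * z = z * w := by
  rw [H.def_W] at hw
  exact (mem_centralizer_iff.1 hw z hz).symm

theorem Hyp.frat_normal (H : Hyp T W) : ((frattini W).map W.subtype).Normal := by
  haveI := H.normal_W
  infer_instance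

theorem Hyp.frat_eq_upper (H : Hyp T W) : ∃ f ≤ 3, (frattini W).map W.subtype = ucs f := by
  haveI : Fact (Nat.Prime 2) := ⟨Nat.prime_two⟩
  haveI := H.frat_normal
  obtain ⟨f, hf⟩ := IsPGroup.iff_card.1 (H.twoGroup.to_subgroup ((frattini W).map W.subtype))
  have h1 : 2 ^ f ≤ 2 ^ 3 := by
    rw [← hf, card_map_of_injective W.subtype_injective]; exact H.frat_le
  have h2 : f ≤ 3 := (Nat.pow_le_pow_iff_right (by norm_num)).1 h1
  exact ⟨f, h2, H.normal_eq h2 hf⟩

theorem Hyp.sq_mem_frat (H : Hyp T W) {w : T} (hw : w ∈ W) : w * w ∈ (frattini W).map W.subtype := by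
  haveI : Fact (Nat.Prime 2) := ⟨Nat.prime_two⟩
  refine ⟨⟨w, hw⟩ ^ 2, CfsgLib.Solvable.pow_mem_frattini (H.twoGroup.to_subgroup W) _, ?_⟩
  rw [map_pow, sq]; rfl

theorem Hyp.comm_mem_frat (H : Hyp T W) {v w : T} (hv : v ∈ W) (hw : w ∈ W) :
    ⁅v, w⁆ ∈ (frattini W).map W.subtype := by
  haveI : Fact (Nat.Prime 2) := ⟨Nat.prime_two⟩
  exact ⟨⁅(⟨v, hv⟩ : W), ⟨w, hw⟩⁆, CfsgLib.Solvable.commutator_le_frattini (H.twoGroup.to_subgroup W)
    (commutator_mem_commutator (mem_top _) (mem_top _)), rfl⟩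

/-- A maximal subgroup of `W` missing an element outside the Frattini subgroup, seen in `T`. -/
theorem Hyp.exists_functional (H : Hyp T W) {u : T} (hu : u ∈ W)
    (huF : u ∉ (frattini W).map W.subtype) :
    ∃ M : Subgroup T, M ≤ W ∧ (frattini W).map W.subtype ≤ M ∧ u ∉ M ∧
      (∀ a ∈ W, ∀ b ∈ W, (a * b ∈ M ↔ (a ∈ M ↔ b ∈ M))) := by
  haveI : Fact (Nat.Prime 2) := ⟨Nat.prime_two⟩
  have h : (⟨u, hu⟩ : W) ∉ frattini W := fun h => huF ⟨_, h, rfl⟩
  rw [CfsgLib.Solvable.mem_frattini_iff] at h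
  push Not at h
  obtain ⟨M₀, hM₀, huM⟩ := h
  have hidx := CfsgLib.Solvable.index_coatom (H.twoGroup.to_subgroup W) hM₀
  have hmem : ∀ (a : T) (ha : a ∈ W), a ∈ M₀.map W.subtype ↔ (⟨a, ha⟩ : W) ∈ M₀ := fun a ha =>
    ⟨fun ⟨b, hb, e⟩ => (Subtype.ext e : b = ⟨a, ha⟩) ▸ hb, fun h => ⟨_, h, rfl⟩⟩
  refine ⟨M₀.map W.subtype, map_subtype_le _, map_mono (frattini_le_coatom hM₀), fun h => huM ((hmem u hu).1 h),
    fun a ha b hb => ?_⟩
  rw [hmem _ (mul_mem ha hb), hmem a ha, hmem b hb]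
  exact mul_mem_iff_of_index_two hidx (a := (⟨a, ha⟩ : W)) (b := ⟨b, hb⟩)

/-- The common core of the arguments: everything is forced. -/
theorem Hyp.main (H : Hyp T W) :
    W.index = 8 ∧ Nat.card T = 2 ^ 14 ∧ (frattini W).map W.subtype = ucs 3 ∧
      (∃ u ∈ ucs 4, u ∉ ucs 3 ∧ ∃ M : Subgroup T, M ≤ W ∧ ucs 3 ≤ M ∧ u ∉ M ∧
        (∀ a ∈ W, ∀ b ∈ W, (a * b ∈ M ↔ (a ∈ M ↔ b ∈ M))) ∧
        (∀ w ∈ W, (∀ t : T, t * w * t⁻¹ ∈ M) → w ∈ ucs 3) ∧
        (∀ f : T → Prop, (∀ t t' : T, t⁻¹ * t' ∈ W → (f t ↔ f t')) →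
          ∃ w ∈ W, ∀ t : T, t * w * t⁻¹ ∈ M ↔ f t⁻¹)) := by
  classical
  haveI : Fact (Nat.Prime 2) := ⟨Nat.prime_two⟩
  haveI := H.normal_W
  obtain ⟨f, hf3, hfeq⟩ := H.frat_eq_upper
  have hlt : ¬ ucs (f + 1) ≤ ucs f := fun h => by
    have h1 := card_le_of_le h
    rw [H.card_upper f (by omega), H.card_upper (f + 1) (by omega), pow_succ] at h1
    have := Nat.two_pow_pos f
    omega
  obtain ⟨u, hu, huf⟩ := SetLike.not_le_iff_exists.1 hlt
  have huW : u ∈ W := H.upper_le_W (f + 1) (by omega) hu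
  obtain ⟨M, hMW, hΦM, huM, hM⟩ := H.exists_functional huW (hfeq ▸ huf)
  rw [hfeq] at hΦM
  -- invariance under W
  have hinv : ∀ v ∈ W, ∀ a ∈ W, (v * a * v⁻¹ ∈ M ↔ a ∈ M) := by
    intro v hv a ha
    have h1 : v * a * v⁻¹ * a⁻¹ ∈ M := hΦM (hfeq ▸ H.comm_mem_frat hv ha)
    have h2 := hM (v * a * v⁻¹ * a⁻¹) (mul_mem (mul_mem (mul_mem hv ha) (inv_mem hv)) (inv_mem ha)) a ha
    rw [inv_mul_cancel_right] at h2
    exact ⟨fun h => (h2.1 h).1 h1, fun h => h2.2 (iff_of_true h1 h)⟩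
  have hcore : ∀ w ∈ W, (∀ t : T, t * w * t⁻¹ ∈ M) → w ∈ ucs f := by
    intro w hw hwt
    by_contra hwf
    have hK : w ∈ M.normalCore := hwt
    have hle := H.upper_le (N := M.normalCore) f hf3 fun h => hwf (h hK)
    exact huM (normalCore_le M (hle hu))
  let φ : W ⧸ frattini W → (T ⧸ W → Bool) := fun q => Quotient.liftOn' q
    (fun w q => decide ((q.out)⁻¹ * (w : T) * q.out ∈ M))
    (fun a b hab => by
      funext q
      rw [QuotientGroup.leftRel_apply] at hab
      apply decide_eq_decide.2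
      have hc : (q.out)⁻¹ * ((a⁻¹ * b : W) : T) * q.out ∈ M := by
        have hN : ((frattini W).map W.subtype).Normal := H.frat_normal
        have h1 := hN.conj_mem _ ⟨_, hab, rfl⟩ (q.out)⁻¹
        rw [inv_inv] at h1
        exact hΦM (hfeq ▸ h1)
      have hW' : ∀ w : W, (q.out)⁻¹ * (w : T) * q.out ∈ W := fun w => by
        have := ‹W.Normal›.conj_mem _ w.2 (q.out)⁻¹
        rwa [inv_inv] at this
      have h2 := hM _ (hW' a) _ (hW' (a⁻¹ * b))
      rw [show (q.out)⁻¹ * (a : T) * q.out * ((q.out)⁻¹ * ((a⁻¹ * b : W) : T) * q.out) =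
        (q.out)⁻¹ * (b : T) * q.out by simp only [coe_mul, coe_inv]; group] at h2
      exact ⟨fun h => h2.2 (iff_of_true h hc), fun h => (h2.1 h).2 hc⟩)
  have heval : ∀ (w : W) (t : T), φ w (QuotientGroup.mk t) = decide (t⁻¹ * (w : T) * t ∈ M) := by
    intro w t
    show decide _ = decide _
    apply decide_eq_decide.2
    obtain ⟨v, hv⟩ := QuotientGroup.mk_out_eq_mul W t
    rw [hv]
    have hWw : t⁻¹ * (w : T) * t ∈ W := by
      have := ‹W.Normal›.conj_mem _ w.2 t⁻¹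
      rwa [inv_inv] at this
    rw [show (t * (v : T))⁻¹ * (w : T) * (t * v) = (v : T)⁻¹ * (t⁻¹ * w * t) * (v : T)⁻¹⁻¹ by group]
    exact hinv _ (inv_mem v.2) _ hWw
  have hinj : Function.Injective φ := by
    intro p p' h
    induction p using QuotientGroup.induction_on with
    | H a =>
      induction p' using QuotientGroup.induction_on with
      | H b =>
        rw [QuotientGroup.eq]
        have h2 : ((a⁻¹ * b : W) : T) ∈ ucs f := hcore _ (a⁻¹ * b).2 fun t => by
          have h1 := congrFun h (QuotientGroup.mk t⁻¹)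
          rw [heval, heval, decide_eq_decide, inv_inv] at h1
          have hW' : ∀ w : W, t * (w : T) * t⁻¹ ∈ W := fun w => ‹W.Normal›.conj_mem _ w.2 t
          have h3 := hM _ (hW' a) _ (hW' (a⁻¹ * b))
          rw [show t * (a : T) * t⁻¹ * (t * ((a⁻¹ * b : W) : T) * t⁻¹) = t * (b : T) * t⁻¹ by
            simp only [coe_mul, coe_inv]; group] at h3
          tauto
        rw [← hfeq] at h2
        obtain ⟨c, hc, hce⟩ := h2
        exact (Subtype.ext hce : c = a⁻¹ * b) ▸ hc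
  have hcard := Nat.card_le_card_of_injective φ hinj
  rw [Nat.card_fun, Nat.card_eq_fintype_card (α := Bool), Fintype.card_bool, ← index_eq_card, ← index_eq_card] at hcard
  have hfc : Nat.card (frattini W) = 2 ^ f := by
    rw [← card_map_of_injective W.subtype_injective, hfeq, H.card_upper f (by omega)]
  have hWcard : Nat.card W = 2 ^ f * (frattini W).index := by rw [← hfc, card_mul_index]
  obtain ⟨k, hk⟩ : ∃ k, W.index = 2 ^ k := H.twoGroup.index W
  have hk3 : k ≤ 3 := by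
    have h := H.index_W_le
    rw [hk] at h
    exact (Nat.pow_le_pow_iff_right (by norm_num : 1 < 2)).1 (h.trans_eq (by norm_num : (8 : ℕ) = 2 ^ 3))
  have hT : Nat.card T = 2 ^ f * (frattini W).index * 2 ^ k := by
    rw [← hWcard, ← hk, card_mul_index]
  have hub : Nat.card T ≤ 2 ^ f * 2 ^ 2 ^ k * 2 ^ k := by
    rw [hT]; exact Nat.mul_le_mul_right _ (Nat.mul_le_mul_left _ (hk ▸ hcard))
  have h14 := H.card_ge
  obtain ⟨hf, hk'⟩ : f = 3 ∧ k = 3 := by
    interval_cases f <;> interval_cases k <;> first | omega | (norm_num at hub; omega)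
  subst hf; subst hk'
  have hidx8 : W.index = 8 := by rw [hk]; norm_num
  rw [hidx8] at hcard
  have hfi : (frattini W).index = 2 ^ 8 := by
    norm_num at hT hub hcard ⊢
    omega
  refine ⟨hidx8, by rw [hT, hfi]; norm_num, hfeq, u, hu, huf, M, hMW, hΦM, huM, hM, hcore, ?_⟩
  intro F hF
  have hsurj : Function.Surjective φ := by
    refine ((Nat.bijective_iff_injective_and_card φ).2 ⟨hinj, ?_⟩).2
    rw [Nat.card_fun, Nat.card_eq_fintype_card (α := Bool), Fintype.card_bool, ← index_eq_card,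
      ← index_eq_card, hidx8, hfi]
  obtain ⟨p, hp⟩ := hsurj fun q => decide (F q.out)
  obtain ⟨w, rfl⟩ := QuotientGroup.mk_surjective p
  refine ⟨w, w.2, fun t => ?_⟩
  have h := congrFun hp (QuotientGroup.mk t⁻¹)
  rw [heval, decide_eq_decide, inv_inv] at h
  rw [h]
  obtain ⟨v, hv⟩ := QuotientGroup.mk_out_eq_mul W t⁻¹
  exact (hF _ _ (by rw [hv, inv_mul_cancel_left]; exact v.2)).symm

theorem Hyp.commutator_eq (H : Hyp T W) :
    (commutator W).map W.subtype = ucs 3 ∧ commutator W = frattini W ∧ ∀ z ∈ ucs 3, z ^ 2 = 1 := by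
  haveI : Fact (Nat.Prime 2) := ⟨Nat.prime_two⟩
  haveI := H.normal_W
  obtain ⟨-, -, hΦ, -⟩ := H.main
  set C := commutator W
  have hle : C ≤ frattini W := CfsgLib.Solvable.commutator_le_frattini (H.twoGroup.to_subgroup W)
  have hmem3 : ∀ c ∈ frattini W, (c : T) ∈ ucs 3 := fun c hc => hΦ ▸ ⟨c, hc, rfl⟩
  have hC : C = frattini W := by
    by_contra hne
    obtain ⟨s, hs, hsC⟩ := SetLike.exists_of_lt (lt_of_le_of_ne hle hne)
    obtain ⟨U, ⟨hCU, hsU⟩, hmax⟩ := WellFounded.has_min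
      (wellFounded_gt : WellFounded ((· > ·) : Subgroup W → Subgroup W → Prop))
      {U : Subgroup W | C ≤ U ∧ s ∉ U} ⟨C, le_rfl, hsC⟩
    have hUn : U.Normal := ⟨fun m hm g => by
      have h1 : ⁅g, m⁆ ∈ U := hCU (commutator_mem_commutator (mem_top g) (mem_top m))
      have h2 := U.mul_mem h1 hm
      rwa [commutatorElement_def, inv_mul_cancel_right] at h2⟩
    have hab : ∀ a b : W ⧸ U, a * b = b * a := by
      intro a b
      obtain ⟨a, rfl⟩ := QuotientGroup.mk'_surjective U a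
      obtain ⟨b, rfl⟩ := QuotientGroup.mk'_surjective U b
      rw [← commutatorElement_eq_one_iff_mul_comm, ← map_commutatorElement]
      exact (QuotientGroup.eq_one_iff _).2 (hCU (commutator_mem_commutator (mem_top a) (mem_top b)))
    have hu : CfsgLib.TwoGroupsQ.HasUniqueOrderP (W ⧸ U) 2 :=
      CfsgLib.TwoGroupsQ.hasUniqueOrderP_two fun p q hp hp1 hq hq1 => by
        have key : ∀ r : W ⧸ U, r ^ 2 = 1 → r ≠ 1 → r = QuotientGroup.mk' U s := by
          intro r hr hr1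
          have hlt : U < (zpowers r).comap (QuotientGroup.mk' U) := by
            refine lt_of_le_of_ne (fun a ha => ?_) fun e => ?_
            · rw [mem_comap, show QuotientGroup.mk' U a = 1 from (QuotientGroup.eq_one_iff a).2 ha]
              exact one_mem _
            · obtain ⟨a, rfl⟩ := QuotientGroup.mk'_surjective U r
              exact hr1 ((QuotientGroup.eq_one_iff a).2 (e ▸ mem_comap.2 (mem_zpowers _)))
          have hsmem : s ∈ (zpowers r).comap (QuotientGroup.mk' U) := by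
            by_contra h
            exact hmax _ ⟨hCU.trans hlt.le, h⟩ hlt
          obtain ⟨i, hi⟩ := mem_comap.1 hsmem
          simp only at hi
          rcases Int.even_or_odd' i with ⟨c, rfl | rfl⟩
          · rw [zpow_mul, zpow_two, ← sq, hr, one_zpow] at hi
            exact absurd ((QuotientGroup.eq_one_iff s).1 hi.symm) hsU
          · rwa [zpow_add, zpow_mul, zpow_two, ← sq, hr, one_zpow, one_mul, zpow_one] at hi
        exact (key p hp hp1).trans (key q hq hq1).symm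
    have hcyc : IsCyclic (W ⧸ U) := by
      rcases CfsgLib.TwoGroupsQ.isCyclic_or_quaternion ((H.twoGroup.to_subgroup W).to_quotient U) hu with h | ⟨-, n, hn, ⟨e⟩⟩
      · exact h
      · exfalso
        haveI : NeZero (2 ^ n) := ⟨by positivity⟩
        haveI : Fact (1 < 2 * 2 ^ n) := ⟨by have := Nat.one_le_two_pow (n := n); omega⟩
        have h1 : (QuaternionGroup.a 1 : QuaternionGroup (2 ^ n)) * QuaternionGroup.xa 0 =
            QuaternionGroup.xa 0 * QuaternionGroup.a 1 := by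
          apply e.symm.injective
          rw [map_mul, map_mul]; exact hab _ _
        simp only [QuaternionGroup.a_mul_xa, QuaternionGroup.xa_mul_a, QuaternionGroup.xa.injEq] at h1
        have h2 : ((2 : ℕ) : ZMod (2 * 2 ^ n)) = 0 := by
          push_cast
          linear_combination -h1
        rw [ZMod.natCast_eq_zero_iff] at h2
        have := Nat.le_of_dvd two_pos h2
        have : 2 ≤ 2 ^ n := Nat.le_self_pow (by omega) 2
        omega
    have hidx : U.index ≤ 16 := by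
      obtain ⟨g, hg⟩ := hcyc.exists_generator
      rw [index_eq_card, ← orderOf_eq_card_of_forall_mem_zpowers hg]
      obtain ⟨a, rfl⟩ := QuotientGroup.mk'_surjective U g
      refine Nat.le_of_dvd (by norm_num) ((orderOf_map_dvd _ a).trans (orderOf_dvd_of_pow_eq_one ?_))
      have h1 : ((a ^ 2 : W) : T) ∈ ucs 3 := by
        refine hmem3 _ ?_
        exact CfsgLib.Solvable.pow_mem_frattini (H.twoGroup.to_subgroup W) a
      have h2 : ((a ^ 2 : W) : T) ^ 8 = 1 := by
        have h3 := orderOf_dvd_natCard (⟨_, h1⟩ : ucs 3)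
        rw [Subgroup.orderOf_mk, H.card_upper 3 (by omega)] at h3
        exact orderOf_dvd_iff_pow_eq_one.1 h3
      apply Subtype.ext
      rw [coe_pow] at h2 ⊢
      rw [show (16 : ℕ) = 2 * 8 from rfl, pow_mul]
      exact h2
    exact hsU (H.avoid U hidx hs)
  have hC3 : C.map W.subtype = ucs 3 := by rw [hC]; exact hΦ
  refine ⟨hC3, hC, ?_⟩
  -- elementary
  let E : Subgroup W :=
    { carrier := {c | (c : T) ∈ ucs 3 ∧ (c : T) ^ 2 = 1}
      one_mem' := ⟨one_mem _, one_pow 2⟩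
      mul_mem' := by
        rintro a b ⟨ha, ha2⟩ ⟨hb, hb2⟩
        refine ⟨mul_mem ha hb, ?_⟩
        rw [coe_mul, (show Commute (a : T) (b : T) from H.commute_three (H.upper_le_W 3 (by omega) ha) hb).mul_pow,
          ha2, hb2, one_mul]
      inv_mem' := by
        rintro a ⟨ha, ha2⟩
        exact ⟨inv_mem ha, by rw [coe_inv, inv_pow, ha2, inv_one]⟩ }
  have hCE : C ≤ E := by
    rw [show C = ⁅(⊤ : Subgroup W), ⊤⁆ from commutator_def W, commutator_le]
    intro a _ b _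
    have hc : (⁅a, b⁆ : W) ∈ frattini W := hle (commutator_mem_commutator (mem_top a) (mem_top b))
    refine ⟨hmem3 _ hc, ?_⟩
    have hsq : ((a * a : W) : T) ∈ ucs 3 := by
      refine hmem3 _ ?_
      rw [← sq]; exact CfsgLib.Solvable.pow_mem_frattini (H.twoGroup.to_subgroup W) a
    have h1 := H.commute_three a.2 (hmem3 _ hc)
    have h2 := H.commute_three b.2 hsq
    simp only [coe_mul, commutatorElement_def, coe_inv] at h1 h2 ⊢
    calc ((a : T) * b * (a : T)⁻¹ * (b : T)⁻¹) ^ 2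
        = (a : T) * ((a : T) * b * (a : T)⁻¹ * (b : T)⁻¹) * (a : T)⁻¹ * ((a : T) * b * (a : T)⁻¹ * (b : T)⁻¹) := by
          rw [h1, mul_inv_cancel_right, sq]
      _ = (a : T) * a * b * ((a : T) * a)⁻¹ * (b : T)⁻¹ := by group
      _ = 1 := by rw [← h2]; group
  intro z hz
  rw [← hC3] at hz
  obtain ⟨c, hc, rfl⟩ := hz
  exact (hCE hc).2

end CfsgLib.Inv53.Rudvalis
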