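import Cfsg.Agent.Inv53.RudvalisBasic
import Cfsg.Agent.TwoGroups.Models

/-!
# The factor group by the centraliser, and the centre
-/

set_option autoImplicit false

namespace CfsgLib.Inv53.Rudvalis

open Subgroup
open scoped commutatorElement

variable {T : Type*} [Group T] [Finite T] {W : Subgroup T}

local notation "ucs" => Subgroup.upperCentralSeries T

/-- Elements of order four and two generating `T` modulo `W`. -/
theorem Hyp.exists_dihedral_gens (H : Hyp T W) :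
    ∃ r s : T, r ^ 4 ∈ W ∧ r ^ 2 ∉ W ∧ s * s ∈ W ∧ s * r * s⁻¹ * r ∈ W ∧
      (∀ i : ℕ, s * r ^ i ∉ W) := by
  haveI := H.normal_W
  obtain ⟨z2, z3, hz2, hz2', hz3, hz3', h2c, h3c⟩ := H.exists_gens
  obtain ⟨f, hf, hfv⟩ := H.exists_displacement hz2 hz3 h2c h3c
  obtain ⟨hidx, -, -, -⟩ := H.main
  obtain ⟨-, -, hexp⟩ := H.commutator_eq
  have hsurj : Function.Surjective f := by
    refine ((Nat.bijective_iff_injective_and_card f).2 ⟨hf, ?_⟩).2
    rw [← index_eq_card, hidx, Nat.card_prod, H.card_upper 1 (by omega), H.card_upper 2 (by omega)]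
    norm_num
  obtain ⟨e, he, he1⟩ : ∃ e ∈ ucs 1, e ≠ (1 : T) := by
    refine ((ucs 1).bot_or_exists_ne_one).resolve_left fun h => ?_
    have := H.card_upper 1 (by omega)
    rw [h, card_bot] at this
    norm_num at this
  have hecen : ∀ g : T, g * e = e * g := fun g => by
    rw [Subgroup.upperCentralSeries_one] at he; exact mem_center_iff.1 he g
  have hex : ∀ (a : T) (b : T), a ∈ ucs 1 → b ∈ ucs 2 → ∃ t : T, t * z2 * t⁻¹ = a * z2 ∧ t * z3 * t⁻¹ = b * z3 := by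
    intro a b ha hb
    obtain ⟨q, hq⟩ := hsurj (⟨a, ha⟩, ⟨b, hb⟩)
    obtain ⟨t, rfl⟩ := QuotientGroup.mk_surjective q
    obtain ⟨h1, h2⟩ := hfv t
    rw [hq] at h1 h2
    simp only [commutatorElement_def] at h1 h2
    exact ⟨t, by rw [h1, inv_mul_cancel_right], by rw [h2, inv_mul_cancel_right]⟩
  obtain ⟨r, hr2, hr3⟩ := hex e z2 he hz2
  obtain ⟨s, hs2, hs3⟩ := hex e 1 he (one_mem _)
  rw [one_mul] at hs3
  have hW : ∀ t : T, t ∈ W → t * z2 * t⁻¹ = z2 ∧ t * z3 * t⁻¹ = z3 := fun t ht => by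
    refine ⟨?_, ?_⟩ <;> rw [mul_inv_eq_iff_eq_mul]
    · exact H.commute_three ht (Subgroup.upperCentralSeries_mono T (by norm_num) hz2)
    · exact H.commute_three ht hz3
  have hfix : ∀ t : T, t * z2 * t⁻¹ = z2 → t * z3 * t⁻¹ = z3 → t ∈ W :=
    fun t a b => H.mem_W_of_fix h2c h3c a b
  have cj : ∀ g a b : T, g * (a * b) * g⁻¹ = (g * a * g⁻¹) * (g * b * g⁻¹) := fun g a b => by group
  have ce : ∀ g : T, g * e * g⁻¹ = e := fun g => by rw [hecen, mul_inv_cancel_right]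
  have e2 : e * e = 1 := by
    rw [← sq]; exact hexp e (Subgroup.upperCentralSeries_mono T (by norm_num) he)
  have z22 : z2 * z2 = 1 := by
    rw [← sq]; exact hexp z2 (Subgroup.upperCentralSeries_mono T (by norm_num) hz2)
  have eA : ∀ c : T, e * (e * c) = c := fun c => by rw [← mul_assoc, e2, one_mul]
  have zA : ∀ c : T, z2 * (z2 * c) = c := fun c => by rw [← mul_assoc, z22, one_mul]
  have eC : ∀ c : T, z2 * (e * c) = e * (z2 * c) := fun c => by
    rw [← mul_assoc, hecen, mul_assoc]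
  have pw : ∀ g c : T, g ^ 2 * c * (g ^ 2)⁻¹ = g * (g * c * g⁻¹) * g⁻¹ := fun g c => by rw [sq]; group
  have r22 : r ^ 2 * z2 * (r ^ 2)⁻¹ = z2 := by rw [pw, hr2, cj, ce, hr2, eA]
  have r23 : r ^ 2 * z3 * (r ^ 2)⁻¹ = e * z3 := by
    rw [pw, hr3, cj, hr2, hr3, mul_assoc, zA]
  have hr2W : r ^ 2 ∉ W := fun h => he1 (by
    have h1 := (hW _ h).2
    rw [r23] at h1
    exact mul_eq_right.1 h1)
  have hr4 : r ^ 4 ∈ W := by
    refine hfix _ ?_ ?_ <;> rw [show (4 : ℕ) = 2 * 2 from rfl, pow_mul, pw]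
    · rw [r22, r22]
    · rw [r23, cj, ce, r23, eA]
  have hssfix : s * s ∈ W := by
    refine hfix _ ?_ ?_ <;> rw [← sq, pw]
    · rw [hs2, cj, ce, hs2, eA]
    · rw [hs3, hs3]
  -- conjugation by the inverse of s
  have si2 : s⁻¹ * z2 * s = e * z2 := by
    have h : s * (e * z2) * s⁻¹ = z2 := by rw [cj, ce, hs2, eA]
    calc s⁻¹ * z2 * s = s⁻¹ * (s * (e * z2) * s⁻¹) * s := by rw [h]
      _ = e * z2 := by group
  have si3 : s⁻¹ * z3 * s = z3 := by
    calc s⁻¹ * z3 * s = s⁻¹ * (s * z3 * s⁻¹) * s := by rw [hs3]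
      _ = z3 := by group
  have hdih : s * r * s⁻¹ * r ∈ W := by
    refine hfix _ ?_ ?_
    · calc s * r * s⁻¹ * r * z2 * (s * r * s⁻¹ * r)⁻¹
          = s * (r * (s⁻¹ * (r * z2 * r⁻¹) * s) * r⁻¹) * s⁻¹ := by group
        _ = s * (r * ((s⁻¹ * e * s) * (s⁻¹ * z2 * s)) * r⁻¹) * s⁻¹ := by rw [hr2]; group
        _ = z2 := by
            rw [si2, show s⁻¹ * e * s = e by rw [mul_assoc, ← hecen s, inv_mul_cancel_left],
              eA, hr2, cj, ce, hs2, eA]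
    · calc s * r * s⁻¹ * r * z3 * (s * r * s⁻¹ * r)⁻¹
          = s * (r * (s⁻¹ * (r * z3 * r⁻¹) * s) * r⁻¹) * s⁻¹ := by group
        _ = s * (r * ((s⁻¹ * z2 * s) * (s⁻¹ * z3 * s)) * r⁻¹) * s⁻¹ := by rw [hr3]; group
        _ = z3 := by
            rw [si2, si3, mul_assoc e z2 z3, cj r e, ce, cj r z2, hr2, hr3,
              mul_assoc e z2 (z2 * z3), zA, eA, hs3]
  refine ⟨r, s, hr4, hr2W, hssfix, hdih, fun i hi => ?_⟩
  obtain ⟨c2, c3⟩ := hW _ hi
  have rW : ∀ j : ℕ, r ^ (4 * j) ∈ W := fun j => by rw [pow_mul]; exact pow_mem hr4 j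
  have h' : s * r ^ (i % 4) ∈ W := by
    have h1 := mul_mem hi (inv_mem (rW (i / 4)))
    have e : r ^ i = r ^ (i % 4) * r ^ (4 * (i / 4)) := by rw [← pow_add, Nat.mod_add_div]
    rwa [e, mul_assoc s, mul_inv_cancel_right] at h1
  obtain ⟨d2, d3⟩ := hW _ h'
  have sp : ∀ c : T, ∀ j : ℕ, s * r ^ j * c * (s * r ^ j)⁻¹ = s * (r ^ j * c * (r ^ j)⁻¹) * s⁻¹ := fun c j => by group
  rw [sp] at d2 d3
  obtain h | h | h | h : i % 4 = 0 ∨ i % 4 = 1 ∨ i % 4 = 2 ∨ i % 4 = 3 := by omega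
  · rw [h, pow_zero, one_mul, inv_one, mul_one, hs2] at d2
    exact he1 (mul_eq_right.1 d2)
  · rw [h, pow_one, hr3, cj, hs2, hs3] at d3
    have h1 := mul_eq_right.1 d3
    exact hz2' (by rw [eq_inv_of_mul_eq_one_right h1]; exact inv_mem he)
  · rw [h, r22, hs2] at d2
    exact he1 (mul_eq_right.1 d2)
  · have h3 : r ^ 3 * z3 * (r ^ 3)⁻¹ = e * (z2 * z3) := by
      calc r ^ 3 * z3 * (r ^ 3)⁻¹ = r * (r ^ 2 * z3 * (r ^ 2)⁻¹) * r⁻¹ := by group
        _ = _ := by rw [r23, cj, ce, hr3]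
    rw [h, h3, cj, ce, cj, hs2, hs3, mul_assoc e z2 z3, eA] at d3
    exact hz2' (by rw [mul_eq_right.1 d3]; exact one_mem _)

theorem Hyp.quotient_dihedral (H : Hyp T W) [W.Normal] : Nonempty (T ⧸ W ≃* DihedralGroup 4) := by
  haveI : Fact (Nat.Prime 2) := ⟨Nat.prime_two⟩
  obtain ⟨r, s, hr4, hr2, hss, hdih, hns⟩ := H.exists_dihedral_gens
  obtain ⟨hidx, -⟩ := H.main
  set π := QuotientGroup.mk' W
  have key : ∀ g : T, g ∈ W ↔ π g = 1 := fun g => (QuotientGroup.eq_one_iff g).symm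
  have ho : orderOf (π r) = 4 := by
    have h1 : (π r) ^ 4 = 1 := by rw [← map_pow]; exact (key _).1 hr4
    refine orderOf_eq_prime_pow (p := 2) (n := 1) ?_ h1
    rw [pow_one, ← map_pow, ← key]; exact hr2
  have hs1 : π s * π s = 1 := by rw [← map_mul]; exact (key _).1 hss
  have hrel : π s * π r * (π s)⁻¹ = (π r)⁻¹ := by
    rw [eq_inv_iff_mul_eq_one, ← map_inv, ← map_mul, ← map_mul, ← map_mul]
    exact (key _).1 hdih
  have hnot : π s ∉ zpowers (π r) := by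
    intro h
    rw [← mem_powers_iff_mem_zpowers] at h
    obtain ⟨i, hi⟩ := h
    simp only at hi
    apply hns (3 * i)
    rw [key, map_mul, map_pow, ← hi, ← pow_add, show i + 3 * i = 4 * i by ring, pow_mul, ← map_pow,
      (key _).1 hr4, one_pow]
  obtain ⟨e⟩ := CfsgLib.TwoGroups.nonempty_equiv_dihedral (H := ⊤) (mem_top (π r)) (mem_top (π s)) ho hs1
    hrel hnot (by rw [card_top, ← index_eq_card, hidx])
  exact ⟨topEquiv.symm.trans e⟩

/-- The centre of `W` is `Z₃(T)`. -/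
theorem Hyp.center_eq (H : Hyp T W) : (center W).map W.subtype = ucs 3 := by
  classical
  haveI := H.normal_W
  obtain ⟨hidx, hT, hΦ, u, hu, hu3, M, hMW, hZM, huM, hM, hcore, hpat⟩ := H.main
  obtain ⟨r, s, hr4, hr2, hss, hdih, hns⟩ := H.exists_dihedral_gens
  have hle : ucs 3 ≤ (center W).map W.subtype := fun z hz =>
    ⟨⟨z, H.upper_le_W 3 (by omega) hz⟩, mem_center_iff.2 fun w => Subtype.ext (H.commute_three w.2 hz), rfl⟩
  by_contra hne
  have hnotle : ¬ (center W).map W.subtype ≤ ucs 3 := fun h => hne (le_antisymm h hle)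
  have hZ4 : ucs 4 ≤ (center W).map W.subtype := H.upper_le 3 le_rfl hnotle
  have hucen : ∀ w ∈ W, u * w = w * u := fun w hw => by
    obtain ⟨c, hc, hce⟩ := hZ4 hu
    rw [← hce]
    exact congrArg Subtype.val (mem_center_iff.1 hc ⟨w, hw⟩).symm
  have hR : ∀ i : ℕ, r ^ i ∈ W ↔ i % 4 = 0 := by
    intro i
    have hm : r ^ (4 * (i / 4)) ∈ W := by rw [pow_mul]; exact pow_mem hr4 _
    have e : r ^ i = r ^ (i % 4) * r ^ (4 * (i / 4)) := by rw [← pow_add, Nat.mod_add_div]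
    rw [e, mul_mem_cancel_right hm]
    have hr1 : r ∉ W := fun h => hr2 (pow_mem h 2)
    refine ⟨fun h => ?_, fun h => by rw [h, pow_zero]; exact one_mem _⟩
    obtain h' | h' | h' | h' : i % 4 = 0 ∨ i % 4 = 1 ∨ i % 4 = 2 ∨ i % 4 = 3 := by omega
    · exact h'
    · rw [h', pow_one] at h; exact absurd h hr1
    · rw [h'] at h; exact absurd h hr2
    · rw [h'] at h
      exfalso; apply hr1
      have := mul_mem (inv_mem h) hr4
      rwa [show (r ^ 3)⁻¹ * r ^ 4 = r by group] at this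
  have hcv : ∀ {g w : T}, w ∈ W → g * w * g⁻¹ ∈ W := fun {g w} hw => ‹W.Normal›.conj_mem w hw g
  have hpow : ∀ g : T, g⁻¹ ∈ W ↔ g ∈ W := fun g => inv_mem_iff
  -- the element with one translate outside `M`
  obtain ⟨x, hx, hxpat⟩ := hpat (fun t => t ∈ W) (fun t t' h =>
    ⟨fun h1 => by have := mul_mem h1 h; rwa [mul_inv_cancel_left] at this,
     fun h1 => by have := mul_mem h1 (inv_mem h); rwa [mul_inv_rev, inv_inv, mul_inv_cancel_left] at this⟩)
  have hxM : ∀ t : T, t * x * t⁻¹ ∈ M ↔ t ∈ W := fun t => (hxpat t).trans inv_mem_iff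
  -- translate the pattern: now exactly one translate lies in `M`; complement it
  obtain ⟨N₀, hN₀, hN₀pat⟩ := hpat (fun _ => False) (fun _ _ _ => Iff.rfl)
  obtain ⟨y, hy, hyout⟩ : ∃ y ∈ W, ∀ t : T, t * y * t⁻¹ ∈ M ↔ t ∉ W := by
    refine ⟨x * N₀, mul_mem hx hN₀, fun t => ?_⟩
    rw [show t * (x * N₀) * t⁻¹ = (t * x * t⁻¹) * (t * N₀ * t⁻¹) by group, hM _ (hcv hx) _ (hcv hN₀),
      hxM, hN₀pat]
    tauto
  obtain ⟨X, hX⟩ : ∃ X : ℕ → T, ∀ i, X i = r ^ i * y * (r ^ i)⁻¹ := ⟨_, fun _ => rfl⟩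
  have hXW : ∀ i, X i ∈ W := fun i => by rw [hX]; exact hcv hy
  obtain ⟨P, hP⟩ : ∃ P, P = X 0 * X 1 * X 2 * X 3 := ⟨_, rfl⟩
  have hPW : P ∈ W := by rw [hP]; exact mul_mem (mul_mem (mul_mem (hXW 0) (hXW 1)) (hXW 2)) (hXW 3)
  obtain ⟨Q, hQ⟩ : ∃ Q, Q = s * P * s⁻¹ := ⟨_, rfl⟩
  have hQW : Q ∈ W := by rw [hQ]; exact hcv hPW
  have hM1 : ∀ i, X i ∈ M ↔ i % 4 ≠ 0 := fun i => by rw [hX, hyout, hR]
  have hM2 : ∀ i, s * X i * s⁻¹ ∈ M := fun i => by
    rw [hX, show s * (r ^ i * y * (r ^ i)⁻¹) * s⁻¹ = (s * r ^ i) * y * (s * r ^ i)⁻¹ by group, hyout]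
    exact hns i
  have hPQM : P * Q ∉ M := by
    rw [hM P hPW Q hQW, hP, hM _ (mul_mem (mul_mem (hXW 0) (hXW 1)) (hXW 2)) _ (hXW 3),
      hM _ (mul_mem (hXW 0) (hXW 1)) _ (hXW 2), hM _ (hXW 0) _ (hXW 1), hM1, hM1, hM1, hM1]
    have hQM : Q ∈ M := by
      rw [hQ, hP, show s * (X 0 * X 1 * X 2 * X 3) * s⁻¹ =
        (s * X 0 * s⁻¹) * (s * X 1 * s⁻¹) * (s * X 2 * s⁻¹) * (s * X 3 * s⁻¹) by group]
      exact mul_mem (mul_mem (mul_mem (hM2 0) (hM2 1)) (hM2 2)) (hM2 3)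
    simp [hQM]
  -- the quotient by Z₂
  set π := QuotientGroup.mk' (ucs 2)
  have hzc : ∀ z ∈ ucs 3, ∀ g : T, Commute (π z) (π g) := fun z hz g => by
    have h : π ⁅z, g⁆ = 1 :=
      (QuotientGroup.eq_one_iff _).2 ((Subgroup.mem_upperCentralSeries_succ_iff).1 hz g)
    rw [map_commutatorElement] at h
    exact commutatorElement_eq_one_iff_commute.1 h
  let c : T → T → T ⧸ ucs 2 := fun a b => ⁅π a, π b⁆
  have cdef : ∀ a b, c a b = π ⁅a, b⁆ := fun a b => (map_commutatorElement π a b).symm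
  have hcomm3 : ∀ {a b : T}, a ∈ W → b ∈ W → ⁅a, b⁆ ∈ ucs 3 := fun ha hb => hΦ ▸ H.comm_mem_frat ha hb
  have ccen : ∀ {a b : T}, a ∈ W → b ∈ W → ∀ g, Commute (c a b) g := fun {a b} ha hb g => by
    obtain ⟨g, rfl⟩ := QuotientGroup.mk'_surjective (ucs 2) g
    rw [cdef]; exact hzc _ (hcomm3 ha hb) g
  obtain ⟨-, -, hexp⟩ := H.commutator_eq
  have csq : ∀ {a b : T}, a ∈ W → b ∈ W → c a b * c a b = 1 := fun {a b} ha hb => by
    rw [cdef, ← map_mul, ← sq, hexp _ (hcomm3 ha hb), map_one]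
  have cconj : ∀ (g : T) {a b : T}, a ∈ W → b ∈ W → c (g * a * g⁻¹) (g * b * g⁻¹) = c a b := by
    intro g a b ha hb
    rw [cdef, cdef, ← conjugate_commutatorElement, map_mul, map_mul, map_inv,
      ← (hzc _ (hcomm3 ha hb) g).eq, mul_inv_cancel_right]
  have cmul : ∀ {a b d : T}, a ∈ W → b ∈ W → d ∈ W → c (a * b) d = c a d * c b d := fun {a b d} ha hb hd => by
    show ⁅π (a * b), π d⁆ = ⁅π a, π d⁆ * ⁅π b, π d⁆
    have h := (ccen hb hd (π a)).eq
    calc ⁅π (a * b), π d⁆ = π a * ⁅π b, π d⁆ * π d * (π a)⁻¹ * (π d)⁻¹ := by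
          rw [map_mul]; simp only [commutatorElement_def]; group
      _ = ⁅π b, π d⁆ * ⁅π a, π d⁆ := by
          rw [← h]; simp only [c, commutatorElement_def]; group
      _ = _ := (ccen hb hd _).eq
  have csymm : ∀ {a b : T}, a ∈ W → b ∈ W → c a b = c b a := fun {a b} ha hb => by
    show ⁅π a, π b⁆ = ⁅π b, π a⁆
    rw [← commutatorElement_inv (π b) (π a)]
    exact inv_eq_of_mul_eq_one_right (csq hb ha)
  have cmul' : ∀ {a b d : T}, a ∈ W → b ∈ W → d ∈ W → c a (b * d) = c a b * c a d := fun {a b d} ha hb hd => by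
    rw [csymm ha (mul_mem hb hd), cmul hb hd ha, csymm hb ha, csymm hd ha]
  have cz : ∀ {a b : T}, a ∈ ucs 3 → b ∈ W → c a b = 1 := fun {a b} ha hb => by
    show ⁅π a, π b⁆ = 1
    exact commutatorElement_eq_one_iff_commute.2 (hzc _ ha b)
  have ccong : ∀ {a a' b : T}, a ∈ W → a' ∈ W → b ∈ W → a⁻¹ * a' ∈ ucs 3 → c a b = c a' b := by
    intro a a' b ha ha' hb h
    conv_rhs => rw [← mul_inv_cancel_left a a']
    rw [cmul ha (H.upper_le_W 3 (by omega) h) hb, cz h hb, mul_one]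
  -- congruences modulo Z₃
  set ψ := QuotientGroup.mk' (ucs 3) with hψ
  have key3 : ∀ g : T, g ∈ ucs 3 ↔ ψ g = 1 := fun g => (QuotientGroup.eq_one_iff g).symm
  have habel : ∀ {a b : T}, a ∈ W → b ∈ W → Commute (ψ a) (ψ b) := fun {a b} ha hb => by
    rw [← commutatorElement_eq_one_iff_commute, ← map_commutatorElement]; exact (key3 _).1 (hcomm3 ha hb)
  have hconjW : ∀ {v a : T}, v ∈ W → a ∈ W → ψ (v * a * v⁻¹) = ψ a := fun {v a} hv ha => by
    rw [map_mul, map_mul, (habel hv ha).eq, map_inv, mul_inv_cancel_right]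
  have toC : ∀ {a a' : T}, ψ a = ψ a' → a⁻¹ * a' ∈ ucs 3 := fun {a a'} h => by
    rw [key3, map_mul, map_inv, h, inv_mul_cancel]
  -- elements fixed by r and s modulo Z₃ lie in Z₄
  have hgen : ∀ t : T, ∃ i : ℕ, (r ^ i)⁻¹ * t ∈ W ∨ (s * r ^ i)⁻¹ * t ∈ W := by
    intro t
    let g : Fin 4 ⊕ Fin 4 → T ⧸ W := Sum.elim (fun i : Fin 4 => QuotientGroup.mk (r ^ (i : ℕ)))
      (fun i : Fin 4 => QuotientGroup.mk (s * r ^ (i : ℕ)))
    have key : ∀ i j : Fin 4, (r ^ (i : ℕ))⁻¹ * r ^ (j : ℕ) ∈ W → i = j := by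
      intro i j h
      have h1 : r ^ ((j : ℕ) + (4 - (i : ℕ))) ∈ W := by
        have h4 : r ^ 4 * ((r ^ (i : ℕ))⁻¹ * r ^ (j : ℕ)) ∈ W := mul_mem hr4 h
        rwa [← mul_assoc, ← pow_sub r i.2.le, ← pow_add, add_comm] at h4
      rw [hR] at h1
      apply Fin.ext
      omega
    have hginj : Function.Injective g := by
      rintro (i | i) (j | j) h <;> simp only [g, Sum.elim_inl, Sum.elim_inr, QuotientGroup.eq] at h
      · exact congrArg Sum.inl (key i j h)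
      · exfalso
        apply hns ((j : ℕ) + (4 - (i : ℕ)))
        have h1 : r ^ (i : ℕ) * ((r ^ (i : ℕ))⁻¹ * (s * r ^ (j : ℕ))) * r ^ (4 - (i : ℕ)) ∈ W := by
          have h2 := hcv (g := r ^ (i : ℕ)) h
          rw [show r ^ (i : ℕ) * ((r ^ (i : ℕ))⁻¹ * (s * r ^ (j : ℕ))) * (r ^ (i : ℕ))⁻¹ =
            s * r ^ (j : ℕ) * (r ^ (i : ℕ))⁻¹ by group] at h2
          have h3 := mul_mem h2 hr4
          rwa [show s * r ^ (j : ℕ) * (r ^ (i : ℕ))⁻¹ * r ^ 4 =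
            r ^ (i : ℕ) * ((r ^ (i : ℕ))⁻¹ * (s * r ^ (j : ℕ))) * r ^ (4 - (i : ℕ)) by
              rw [mul_inv_cancel_left, mul_assoc (s * r ^ (j : ℕ))]
              congr 1
              rw [inv_mul_eq_iff_eq_mul, ← pow_add]; congr 1; omega] at h3
        rwa [mul_inv_cancel_left, mul_assoc, ← pow_add] at h1
      · exfalso
        have h' := inv_mem h
        rw [mul_inv_rev, inv_inv] at h'
        apply hns ((i : ℕ) + (4 - (j : ℕ)))
        have h2 := hcv (g := r ^ (j : ℕ)) h'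
        rw [show r ^ (j : ℕ) * ((r ^ (j : ℕ))⁻¹ * (s * r ^ (i : ℕ))) * (r ^ (j : ℕ))⁻¹ =
          s * r ^ (i : ℕ) * (r ^ (j : ℕ))⁻¹ by group] at h2
        have h3 := mul_mem h2 hr4
        rwa [mul_assoc (s * r ^ (i : ℕ)), show (r ^ (j : ℕ))⁻¹ * r ^ 4 = r ^ (4 - (j : ℕ)) by
          rw [inv_mul_eq_iff_eq_mul, ← pow_add]; congr 1; omega, mul_assoc, ← pow_add] at h3
      · rw [show (s * r ^ (i : ℕ))⁻¹ * (s * r ^ (j : ℕ)) = (r ^ (i : ℕ))⁻¹ * r ^ (j : ℕ) by group] at h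
        exact congrArg Sum.inr (key i j h)
    have hb := (Nat.bijective_iff_injective_and_card g).2 ⟨hginj, by
      rw [Nat.card_eq_fintype_card, Fintype.card_sum, Fintype.card_fin, ← index_eq_card, hidx]⟩
    obtain ⟨k, hk⟩ := hb.2 (QuotientGroup.mk t)
    cases k with
    | inl i => exact ⟨i, Or.inl (QuotientGroup.eq.1 hk)⟩
    | inr i => exact ⟨i, Or.inr (QuotientGroup.eq.1 hk)⟩
  have hfixed : ∀ {n : T}, n ∈ W → ψ (r * n * r⁻¹) = ψ n → ψ (s * n * s⁻¹) = ψ n → n ∈ ucs 4 := by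
    intro n hn h1 h2
    rw [Subgroup.mem_upperCentralSeries_succ_iff]
    intro t
    rw [key3, map_commutatorElement, commutatorElement_eq_one_iff_commute]
    have c1 : Commute (ψ n) (ψ r) := by
      rw [map_mul, map_mul, map_inv] at h1; exact (mul_inv_eq_iff_eq_mul.1 h1).symm
    have c2 : Commute (ψ n) (ψ s) := by
      rw [map_mul, map_mul, map_inv] at h2; exact (mul_inv_eq_iff_eq_mul.1 h2).symm
    obtain ⟨i, h | h⟩ := hgen t
    · have := (c1.pow_right i).mul_right (habel hn h)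
      rwa [← map_pow, ← map_mul, mul_inv_cancel_left] at this
    · have := (c2.mul_right (c1.pow_right i)).mul_right (habel hn h)
      rwa [← map_pow, ← map_mul, ← map_mul, mul_inv_cancel_left] at this
  -- elements of Z₄ are central in W
  have hZ4cen : ∀ {n b : T}, n ∈ ucs 4 → b ∈ W → c n b = 1 := fun {n b} hn hb => by
    obtain ⟨k, hk, hke⟩ := hZ4 hn
    rw [cdef, show ⁅n, b⁆ = 1 by
      rw [commutatorElement_eq_one_iff_commute, ← hke]
      exact congrArg Subtype.val (mem_center_iff.1 hk ⟨b, hb⟩).symm, map_one]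
  -- conjugation of P by r
  set w := r ^ 4 with hw
  obtain ⟨R, hRdef⟩ : ∃ R, R = X 1 * X 2 * X 3 := ⟨_, rfl⟩
  have hRW : R ∈ W := by rw [hRdef]; exact mul_mem (mul_mem (hXW 1) (hXW 2)) (hXW 3)
  set d := c w (X 0) * c R (X 0) with hd
  have hdc : ∀ g, Commute d g := fun g => (ccen hr4 (hXW 0) g).mul_left (ccen hRW (hXW 0) g)
  have hdd : d * d = 1 := by
    rw [hd, mul_assoc, ← mul_assoc (c R (X 0)) (c w (X 0)), (ccen hRW (hXW 0) (c w (X 0))).eq]
    simp only [mul_assoc, csq hRW (hXW 0), mul_one]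
    exact csq hr4 (hXW 0)
  have hX4 : X 4 = ⁅w, X 0⁆ * X 0 := by
    simp only [hX, hw, commutatorElement_def]; group
  have hrP : π (r * P * r⁻¹) = d * π P := by
    have h1 : r * P * r⁻¹ = R * X 4 := by simp only [hP, hX, hRdef]; group
    have h2 : P = X 0 * R := by simp only [hP, hRdef, mul_assoc]
    rw [h1, hX4, map_mul, map_mul, ← cdef, ← mul_assoc, ← (ccen hr4 (hXW 0) (π R)).eq, h2, map_mul, hd]
    have h3 : π R * π (X 0) = c R (X 0) * (π (X 0) * π R) := by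
      show _ = ⁅π R, π (X 0)⁆ * _
      rw [commutatorElement_def]; group
    rw [mul_assoc, h3, mul_assoc]
  have hriP : π (r⁻¹ * P * r) = d * π P := by
    have h1 : π P = d * π (r⁻¹ * P * r) := by
      rw [map_mul, map_mul, map_inv]
      have h2 : π r * π P * (π r)⁻¹ = d * π P := by rw [← map_inv, ← map_mul, ← map_mul]; exact hrP
      calc π P = (π r)⁻¹ * (π r * π P * (π r)⁻¹) * π r := by group
        _ = (π r)⁻¹ * d * (π P * π r) := by rw [h2]; group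
        _ = d * ((π r)⁻¹ * π P * π r) := by rw [← (hdc _).eq]; group
    conv_rhs => rw [h1]
    rw [← mul_assoc, hdd, one_mul]
  -- conjugation of Q by r
  set w₂ := r * s⁻¹ * r * s with hw₂
  have hw₂W : w₂ ∈ W := by
    have h := hcv (g := s⁻¹) hdih
    rwa [show s⁻¹ * (s * r * s⁻¹ * r) * s⁻¹⁻¹ = r * s⁻¹ * r * s by group] at h
  have hrQ : π (r * Q * r⁻¹) = c w₂ P * d * π Q := by
    have hwP : π (w₂ * P * w₂⁻¹) = c w₂ P * π P := by
      rw [cdef, ← map_mul, commutatorElement_def]; group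
    have h1 : r * Q * r⁻¹ = s * (r⁻¹ * (w₂ * P * w₂⁻¹) * r) * s⁻¹ := by
      simp only [hQ, hw₂]; group
    rw [h1, map_mul, map_mul, map_mul, map_mul, hwP, map_inv, map_inv, hQ, map_mul, map_mul, map_inv]
    have h2 : (π r)⁻¹ * π P * π r = d * π P := by rw [← map_inv, ← map_mul, ← map_mul]; exact hriP
    calc π s * ((π r)⁻¹ * (c w₂ P * π P) * π r) * (π s)⁻¹
        = π s * (c w₂ P * ((π r)⁻¹ * π P * π r)) * (π s)⁻¹ := by
          rw [← mul_assoc (π r)⁻¹ (c w₂ P), ← (ccen hw₂W hPW _).eq]; simp only [mul_assoc]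
      _ = π s * ((c w₂ P * d) * π P) * (π s)⁻¹ := by rw [h2, ← mul_assoc (c w₂ P)]
      _ = c w₂ P * d * (π s * π P * (π s)⁻¹) := by
          rw [← mul_assoc (π s), ← ((ccen hw₂W hPW _).mul_left (hdc _)).eq]; simp only [mul_assoc]
  -- the correction vanishes
  set n := s⁻¹ * r ^ 4 * s * r ^ 4 with hn
  have hsw : s⁻¹ * r ^ 4 * s ∈ W := by have := hcv (g := s⁻¹) hr4; rwa [inv_inv] at this
  have hnW : n ∈ W := mul_mem hsw hr4
  have hn4 : n ∈ ucs 4 := by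
    refine hfixed hnW ?_ ?_
    · set v := s * r * s⁻¹ * r
      have e1 : r * n * r⁻¹ = s⁻¹ * ((v * r⁻¹) * r ^ 4 * (v * r⁻¹)⁻¹) * s * r ^ 4 := by
        simp only [hn, v]; group
      have e2 : (v * r⁻¹) * r ^ 4 * (v * r⁻¹)⁻¹ = v * r ^ 4 * v⁻¹ := by group
      rw [e1, e2, hn]
      simp only [map_mul, map_inv]
      congr 2
      have h1 := hconjW hdih hr4
      rw [map_mul, map_mul, map_inv] at h1
      rw [h1]
    · have e1 : s * n * s⁻¹ = r ^ 4 * (s * r ^ 4 * s⁻¹) := by simp only [hn]; group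
      have e2 : s * r ^ 4 * s⁻¹ = (s * s) * (s⁻¹ * r ^ 4 * s) * (s * s)⁻¹ := by group
      have h1 := hconjW hss hsw
      rw [e1, e2, hn, map_mul, map_mul _ (s⁻¹ * r ^ 4 * s) (r ^ 4), h1]
      exact habel hr4 hsw
  have he0 : c w₂ P = 1 := by
    set Y : ℕ → T := fun i => (r ^ i)⁻¹ * w₂ * r ^ i with hY
    have hYW : ∀ i, Y i ∈ W := fun i => by
      have := hcv (g := (r ^ i)⁻¹) hw₂W; rwa [inv_inv] at this
    have hcX : ∀ i, c w₂ (X i) = c (Y i) (X 0) := fun i => by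
      have h := cconj (r ^ i)⁻¹ hw₂W (hXW i)
      simp only [inv_inv, hX] at h ⊢
      rw [show (r ^ i)⁻¹ * (r ^ i * y * (r ^ i)⁻¹) * r ^ i = r ^ 0 * y * (r ^ 0)⁻¹ by group] at h
      exact h.symm
    have hY4 : ψ (Y 4) = ψ (Y 0) := by
      simp only [hY, pow_zero, inv_one, one_mul, mul_one]
      have := hconjW (inv_mem hr4) hw₂W
      rwa [inv_inv] at this
    have hnY : n = Y 1 * Y 2 * Y 3 * Y 4 := by
      simp only [hn, hY, hw₂]; group
      simp [pow_succ, mul_assoc]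
    rw [hP, cmul' hw₂W (mul_mem (mul_mem (hXW 0) (hXW 1)) (hXW 2)) (hXW 3),
      cmul' hw₂W (mul_mem (hXW 0) (hXW 1)) (hXW 2), cmul' hw₂W (hXW 0) (hXW 1), hcX, hcX, hcX, hcX,
      ← cmul (hYW 0) (hYW 1) (hXW 0), ← cmul (mul_mem (hYW 0) (hYW 1)) (hYW 2) (hXW 0),
      ← cmul (mul_mem (mul_mem (hYW 0) (hYW 1)) (hYW 2)) (hYW 3) (hXW 0)]
    have hYY : Y 0 * Y 1 * Y 2 * Y 3 ∈ W := mul_mem (mul_mem (mul_mem (hYW 0) (hYW 1)) (hYW 2)) (hYW 3)
    rw [ccong hYY hnW (hXW 0) (toC ?_)]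
    · exact hZ4cen hn4 (hXW 0)
    · rw [hnY]
      simp only [map_mul, hY4]
      calc ψ (Y 0) * ψ (Y 1) * ψ (Y 2) * ψ (Y 3) = ψ (Y 0) * (ψ (Y 1) * ψ (Y 2) * ψ (Y 3)) := by
            simp only [mul_assoc]
        _ = (ψ (Y 1) * ψ (Y 2) * ψ (Y 3)) * ψ (Y 0) :=
            (((habel (hYW 0) (hYW 1)).mul_right (habel (hYW 0) (hYW 2))).mul_right (habel (hYW 0) (hYW 3))).eq
  have hfr : π (r * (P * Q) * r⁻¹) = π (P * Q) := by
    rw [show r * (P * Q) * r⁻¹ = (r * P * r⁻¹) * (r * Q * r⁻¹) by group, map_mul, hrP, hrQ, he0, one_mul,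
      map_mul]
    calc d * π P * (d * π Q) = d * (π P * d) * π Q := by simp only [mul_assoc]
      _ = d * d * (π P * π Q) := by rw [← (hdc _).eq]; simp only [mul_assoc]
      _ = π P * π Q := by rw [hdd, one_mul]
  -- P Q lies in Z₄, hence is central in W
  have hpi : ∀ {a b : T}, π a = π b → ψ a = ψ b := fun {a b} h => by
    rw [← mul_inv_eq_one, ← map_inv, ← map_mul, ← key3]
    refine Subgroup.upperCentralSeries_mono T (by norm_num : 2 ≤ 3) ((QuotientGroup.eq_one_iff _).1 ?_)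
    show π (a * b⁻¹) = 1
    rw [map_mul, map_inv, h, mul_inv_cancel]
  have hsfix3 : ψ (s * (P * Q) * s⁻¹) = ψ (P * Q) := by
    rw [show s * (P * Q) * s⁻¹ = (s * P * s⁻¹) * ((s * s) * P * (s * s)⁻¹) by rw [hQ]; group, ← hQ, map_mul,
      hconjW hss hPW, map_mul]
    exact (habel hQW hPW).eq
  have hPQ4 : P * Q ∈ ucs 4 := hfixed (mul_mem hPW hQW) (hpi hfr) hsfix3
  -- conjugation by s
  have hcvP : c (s * s) P = 1 := by
    have hwd : ∀ t t' : T, t⁻¹ * t' ∈ W →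
        (((∃ i : ℕ, (r ^ i)⁻¹ * t⁻¹ ∈ W) → t⁻¹ * (s * s) * t ∈ M) ↔
          ((∃ i : ℕ, (r ^ i)⁻¹ * t'⁻¹ ∈ W) → t'⁻¹ * (s * s) * t' ∈ M)) := by
      intro t t' h
      have e1 : (∃ i : ℕ, (r ^ i)⁻¹ * t⁻¹ ∈ W) ↔ (∃ i : ℕ, (r ^ i)⁻¹ * t'⁻¹ ∈ W) := by
        refine exists_congr fun i => ?_
        have hd : t'⁻¹ * t ∈ W := by have := inv_mem h; rwa [mul_inv_rev, inv_inv] at this
        have h1 : (r ^ i)⁻¹ * t'⁻¹ = ((r ^ i)⁻¹ * (t'⁻¹ * t) * (r ^ i)⁻¹⁻¹) * ((r ^ i)⁻¹ * t⁻¹) := by group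
        rw [h1, mul_mem_cancel_left (hcv hd)]
      have e2 : t⁻¹ * (s * s) * t ∈ M ↔ t'⁻¹ * (s * s) * t' ∈ M := by
        have hW2 : t⁻¹ * (s * s) * t ∈ W := by have := hcv (g := t⁻¹) hss; rwa [inv_inv] at this
        rw [show t'⁻¹ * (s * s) * t' = (t⁻¹ * t')⁻¹ * (t⁻¹ * (s * s) * t) * (t⁻¹ * t')⁻¹⁻¹ by group]
        have h1 : (t⁻¹ * t')⁻¹ * (t⁻¹ * (s * s) * t) * (t⁻¹ * t')⁻¹⁻¹ * (t⁻¹ * (s * s) * t)⁻¹ ∈ M :=
          hZM (hcomm3 (inv_mem h) hW2)
        have h2 := hM _ (mul_mem (hcv (g := (t⁻¹ * t')⁻¹) hW2) (inv_mem hW2)) _ hW2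
        rw [inv_mul_cancel_right] at h2
        tauto
      rw [e1, e2]
    obtain ⟨v, hv, hvpat⟩ := hpat _ hwd
    have hvs : ψ (v * (s * v * s⁻¹)) = ψ (s * s) := by
      have hvW' : s * v * s⁻¹ ∈ W := hcv hv
      have hdiff : (v * (s * v * s⁻¹))⁻¹ * (s * s) ∈ W := mul_mem (inv_mem (mul_mem hv hvW')) hss
      have h3 : (v * (s * v * s⁻¹))⁻¹ * (s * s) ∈ ucs 3 := by
        refine hcore _ hdiff fun t => ?_
        rw [show t * ((v * (s * v * s⁻¹))⁻¹ * (s * s)) * t⁻¹ =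
          (t * (v * (s * v * s⁻¹)) * t⁻¹)⁻¹ * (t * (s * s) * t⁻¹) by group,
          hM _ (inv_mem (hcv (mul_mem hv hvW'))) _ (hcv hss), inv_mem_iff,
          show t * (v * (s * v * s⁻¹)) * t⁻¹ = (t * v * t⁻¹) * ((t * s) * v * (t * s)⁻¹) by group,
          hM _ (hcv hv) _ (hcv hv), hvpat, hvpat]
        simp only [inv_inv]
        rw [show t * s * (s * s) * (t * s)⁻¹ = t * (s * s) * t⁻¹ by group]
        -- exactly one of `t`, `t * s` is a power of r modulo W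
        have hxor : (∃ i : ℕ, (r ^ i)⁻¹ * (t * s) ∈ W) ↔ ¬ (∃ i : ℕ, (r ^ i)⁻¹ * t ∈ W) := by
          constructor
          · rintro ⟨i, hi⟩ ⟨j, hj⟩
            have h1 := mul_mem (inv_mem hi) (mul_mem (inv_mem hr4) (mul_mem hr4 (one_mem W)))
            have h2 : ((r ^ j)⁻¹ * t)⁻¹ * (r ^ j)⁻¹ * r ^ i * ((r ^ i)⁻¹ * (t * s)) = s := by group
            have h3 : (r ^ j)⁻¹ * r ^ i * ((r ^ i)⁻¹ * (t * s)) ∈ W ↔ (r ^ j)⁻¹ * r ^ i ∈ W :=
              mul_mem_cancel_right hi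
            have hs' : (r ^ j)⁻¹ * r ^ i * ((r ^ i)⁻¹ * (t * s)) * s⁻¹ ∈ W := by
              rwa [show (r ^ j)⁻¹ * r ^ i * ((r ^ i)⁻¹ * (t * s)) * s⁻¹ = (r ^ j)⁻¹ * t by group]
            -- s ∈ ⟨r⟩W
            have hsR : ((r ^ j)⁻¹ * r ^ i)⁻¹ * s ∈ W := by
              have h5 := mul_mem (inv_mem hs') (hcv (g := 1) (one_mem W))
              have h6 : ((r ^ j)⁻¹ * r ^ i)⁻¹ * s =
                  ((r ^ i)⁻¹ * (t * s)) * (s⁻¹ * (((r ^ j)⁻¹ * r ^ i * ((r ^ i)⁻¹ * (t * s)) * s⁻¹)⁻¹) * s⁻¹⁻¹) := by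
                group
              rw [h6]
              exact mul_mem hi (hcv (inv_mem hs'))
            apply hns ((4 * j + 4 * i) + j - i)
            have h7 : s * r ^ ((4 * j + 4 * i) + j - i) = ((r ^ j)⁻¹ * r ^ i) * (((r ^ j)⁻¹ * r ^ i)⁻¹ * s) * ((r ^ j)⁻¹ * r ^ i)⁻¹ * r ^ (4 * (i + j)) := by
              have e : r ^ ((4 * j + 4 * i) + j - i) = (r ^ i)⁻¹ * r ^ j * r ^ (4 * (i + j)) := by
                rw [mul_assoc, ← pow_add, eq_inv_mul_iff_mul_eq, ← pow_add]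
                congr 1
                omega
              rw [e]; group
            rw [h7]
            exact mul_mem (hcv hsR) (by rw [pow_mul]; exact pow_mem hr4 _)
          · intro hnot
            obtain ⟨i, h | h⟩ := hgen t
            · exact absurd ⟨i, h⟩ hnot
            · -- t ∈ s r^i W, so t s ∈ r^(-i) W
              refine ⟨3 * i, ?_⟩
              have hsi : (r ^ (3 * i))⁻¹ * (s * r ^ i * s) ∈ W := by
                rw [← QuotientGroup.eq]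
                have e1 : ∀ g : T, g ∈ W → (g : T ⧸ W) = 1 := fun g hg => (QuotientGroup.eq_one_iff g).2 hg
                have a4 : (r : T ⧸ W) ^ 4 = 1 := by rw [← QuotientGroup.mk_pow]; exact e1 _ hr4
                have as' : (s : T ⧸ W) * s = 1 := by rw [← QuotientGroup.mk_mul]; exact e1 _ hss
                have arel : (s : T ⧸ W) * r * (s : T ⧸ W)⁻¹ = (r : T ⧸ W)⁻¹ := by
                  rw [eq_inv_iff_mul_eq_one, ← QuotientGroup.mk_inv, ← QuotientGroup.mk_mul, ← QuotientGroup.mk_mul,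
                    ← QuotientGroup.mk_mul]
                  exact e1 _ hdih
                simp only [QuotientGroup.mk_mul, QuotientGroup.mk_pow]
                calc (r : T ⧸ W) ^ (3 * i) = ((r : T ⧸ W) ^ 3) ^ i := pow_mul _ _ _
                  _ = ((r : T ⧸ W)⁻¹) ^ i := by
                      congr 1
                      rw [eq_inv_iff_mul_eq_one, ← pow_succ]; exact a4
                  _ = (s : T ⧸ W) * r ^ i * (s : T ⧸ W)⁻¹ := by rw [← arel, conj_pow]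
                  _ = _ := by rw [inv_eq_of_mul_eq_one_right as']
              have h8 : (r ^ (3 * i))⁻¹ * (t * s) =
                  ((r ^ (3 * i))⁻¹ * (s * r ^ i * s)) * (s⁻¹ * ((s * r ^ i)⁻¹ * t) * s⁻¹⁻¹) := by group
              rw [h8]
              exact mul_mem hsi (hcv h)
        by_cases hA : ∃ i : ℕ, (r ^ i)⁻¹ * t ∈ W
        · have hB : ¬ ∃ i : ℕ, (r ^ i)⁻¹ * (t * s) ∈ W := fun h => hxor.1 h hA
          simp only [hA, hB, false_implies, true_implies]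
          tauto
        · have hB : ∃ i : ℕ, (r ^ i)⁻¹ * (t * s) ∈ W := hxor.2 hA
          simp only [hA, hB, false_implies, true_implies]
          tauto
      rw [key3, map_mul, map_inv, inv_mul_eq_one] at h3
      exact h3
    have hvW' : s * v * s⁻¹ ∈ W := hcv hv
    rw [← ccong (mul_mem hv hvW') hss hPW (toC hvs), cmul hv hvW' hPW]
    set Pm := s⁻¹ * P * s with hPm
    have hPmW : Pm ∈ W := by have := hcv (g := s⁻¹) hPW; rwa [inv_inv] at this
    have h1 : c (s * v * s⁻¹) P = c v Q := by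
      have h := cconj s hv hPmW
      rw [show s * Pm * s⁻¹ = P by rw [hPm]; group] at h
      rw [h, csymm hv hPmW, csymm hv hQW]
      refine ccong hPmW hQW hv (toC ?_)
      have h2 := hconjW hss hPmW
      rw [show (s * s) * Pm * (s * s)⁻¹ = s * P * s⁻¹ by rw [hPm]; group, ← hQ] at h2
      exact h2.symm
    rw [h1, ← cmul' hv hPW hQW, csymm hv (mul_mem hPW hQW), hZ4cen hPQ4 hv]
  have hfs : π (s * (P * Q) * s⁻¹) = π (P * Q) := by
    have h1 : s * (P * Q) * s⁻¹ = Q * (⁅s * s, P⁆ * P) := by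
      rw [commutatorElement_def, hQ]; group
    rw [h1, map_mul, map_mul, ← cdef, hcvP, one_mul, map_mul]
    have h2 : c Q P = 1 := by
      have h3 := hZ4cen hPQ4 hPW
      rw [cmul hPW hQW hPW] at h3
      have h4 : c P P = 1 := commutatorElement_eq_one_iff_commute.2 (Commute.refl _)
      rwa [h4, one_mul] at h3
    exact (commutatorElement_eq_one_iff_commute.1 h2).eq
  -- hence P Q lies in Z₃
  apply hPQM
  apply hZM
  rw [Subgroup.mem_upperCentralSeries_succ_iff]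
  intro t
  rw [← QuotientGroup.eq_one_iff]
  show π ⁅P * Q, t⁆ = 1
  rw [map_commutatorElement, commutatorElement_eq_one_iff_commute]
  have c1 : Commute (π (P * Q)) (π r) := by
    rw [map_mul _ (r * (P * Q)), map_mul _ r, map_inv] at hfr; exact (mul_inv_eq_iff_eq_mul.1 hfr).symm
  have c2 : Commute (π (P * Q)) (π s) := by
    rw [map_mul _ (s * (P * Q)), map_mul _ s, map_inv] at hfs; exact (mul_inv_eq_iff_eq_mul.1 hfs).symm
  have c3 : ∀ {b : T}, b ∈ W → Commute (π (P * Q)) (π b) := fun hb =>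
    commutatorElement_eq_one_iff_commute.1 (hZ4cen hPQ4 hb)
  obtain ⟨i, h | h⟩ := hgen t
  · have := (c1.pow_right i).mul_right (c3 h)
    rwa [← map_pow, ← map_mul, mul_inv_cancel_left] at this
  · have := (c2.mul_right (c1.pow_right i)).mul_right (c3 h)
    rwa [← map_pow, ← map_mul, ← map_mul, mul_inv_cancel_left] at this

end CfsgLib.Inv53.Rudvalis
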