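import Cfsg.Agent.Inv53.SL2Involutions
import Cfsg.Agent.Inv53.CentralPair
import Cfsg.Agent.PLocal.Cores

/-!
# Consequences for the whole group of the swapped central product
-/

set_option autoImplicit false

namespace CfsgLib.Inv53

open scoped MatrixGroups

variable {G : Type*} [Group G] [Finite G]

/-- `C(u)` supplements the odd core when `u` is central modulo an odd normal subgroup. -/
theorem centralizer_sup_oddCore_eq_top {u : G} (hu : u * u = 1)
    (h : ∃ N : Subgroup G, N.Normal ∧ Odd (Nat.card N) ∧ ∀ g : G, (u * g * u⁻¹ * g⁻¹) ∈ N) :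
    Subgroup.centralizer ({u} : Set G) ⊔ Cfsg.oddCore G = ⊤ := by
  obtain ⟨N, hN, hodd, hmem⟩ := h
  have hle : N ≤ Cfsg.oddCore G := CfsgLib.PLocal.le_pPrimeCore (Nat.coprime_two_right.2 hodd)
  rw [eq_top_iff]
  intro g _
  have hui : u⁻¹ = u := inv_eq_of_mul_eq_one_right hu
  set x := u * g * u⁻¹ * g⁻¹ with hxdef
  have hx : x ∈ N := hmem g
  obtain ⟨m, hm⟩ : Odd (orderOf x) := by
    have hd : orderOf x ∣ Nat.card N := Subgroup.orderOf_mk x hx ▸ orderOf_dvd_natCard (⟨x, hx⟩ : N)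
    exact Odd.of_dvd_nat hodd hd
  set y := x ^ (m + 1) with hy
  have hinvx : u * x * u⁻¹ = x⁻¹ := by
    rw [hxdef, hui]
    calc u * (u * g * u * g⁻¹) * u = (u * u) * (g * u * g⁻¹ * u) := by group
      _ = (g * u * g⁻¹) * u := by rw [hu, one_mul]
      _ = (u * g * u * g⁻¹)⁻¹ := by simp only [mul_inv_rev, hui, inv_inv, mul_assoc]
  have hyy : y * y = x := by
    rw [hy, ← pow_add, show m + 1 + (m + 1) = orderOf x + 1 by omega, pow_succ, pow_orderOf_eq_one,
      one_mul]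
  have hgu : g * u * g⁻¹ = u * x := by
    rw [hxdef, hui, ← mul_assoc, ← mul_assoc, ← mul_assoc, hu, one_mul]
  have hyu : y⁻¹ * u * y = u * x := by
    have h1 : u * y * u⁻¹ = y⁻¹ := by rw [hy, ← conj_pow, hinvx, inv_pow]
    rw [← h1, hui, mul_assoc (u * y) u u, hu, mul_one, mul_assoc, hyy]
  have hcen : y * g ∈ Subgroup.centralizer ({u} : Set G) := by
    rw [Subgroup.mem_centralizer_singleton_iff]
    have h2 : y * (g * u * g⁻¹) * y⁻¹ = u := by rw [hgu, ← hyu]; group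
    calc y * g * u = y * (g * u * g⁻¹) * y⁻¹ * (y * g) := by group
      _ = u * (y * g) := by rw [h2]
  have := mul_mem (Subgroup.mem_sup_right (S := Subgroup.centralizer ({u} : Set G)) (hle (inv_mem (N.pow_mem hx (m + 1)))))
    (Subgroup.mem_sup_left (T := Cfsg.oddCore G) hcen)
  rwa [← hy, inv_mul_cancel_left] at this

/-- An involution conjugate to no other involution of its centraliser is isolated in a Sylow
2-subgroup. -/
theorem exists_sylow_isolated {j : G} (hjj : j * j = 1)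
    (h : ∀ g : G, j * (g * j * g⁻¹) = g * j * g⁻¹ * j → g * j * g⁻¹ = j) :
    ∃ P : Sylow 2 G, j ∈ P ∧ ∀ g : G, g * j * g⁻¹ ∈ P → g * j * g⁻¹ = j := by
  haveI : Fact (Nat.Prime 2) := ⟨Nat.prime_two⟩
  set H := Subgroup.centralizer ({j} : Set G) with hH
  have hmem : ∀ g, g ∈ H ↔ j * g = g * j := fun g => by
    rw [hH, Subgroup.mem_centralizer_singleton_iff, eq_comm]
  let Z := Subgroup.zpowers j
  have hZ : IsPGroup 2 Z := by
    apply IsPGroup.iff_card.2
    rw [Nat.card_zpowers]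
    obtain ⟨k, -, hk⟩ := (Nat.dvd_prime_pow Nat.prime_two).1
      (show orderOf j ∣ 2 ^ 1 from orderOf_dvd_of_pow_eq_one (by rw [pow_one, sq, hjj]))
    exact ⟨k, hk⟩
  have hjH : j ∈ H := (hmem j).2 rfl
  have hfix : MulAction.fixedPoints Z (G ⧸ H) = {((1 : G) : G ⧸ H)} := by
    ext q
    induction q using QuotientGroup.induction_on with
    | H g =>
      constructor
      · intro hg
        have h1 : (j * g : G ⧸ H) = (g : G ⧸ H) := hg ⟨j, Subgroup.mem_zpowers j⟩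
        rw [QuotientGroup.eq, hmem] at h1
        rw [Set.mem_singleton_iff, QuotientGroup.eq, mul_one, hmem]
        have hji : j⁻¹ = j := inv_eq_of_mul_eq_one_right hjj
        have h2 : j * ((j * g)⁻¹ * g) = (j * g)⁻¹ * g * j := h1
        have h3 : j * (g⁻¹ * j * g⁻¹⁻¹) = g⁻¹ * j * g⁻¹⁻¹ * j := by
          rw [mul_inv_rev, hji] at h2
          rw [inv_inv]; exact h2
        have h4 := h g⁻¹ h3
        exact (mul_inv_eq_iff_eq_mul.1 h4).symm
      · intro hg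
        rw [Set.mem_singleton_iff, QuotientGroup.eq, mul_one] at hg
        rintro ⟨z, hz⟩
        obtain ⟨i, rfl⟩ := hz
        show ((j ^ i * g : G) : G ⧸ H) = (g : G ⧸ H)
        rw [QuotientGroup.eq]
        have hg' : g ∈ H := (inv_inv g) ▸ inv_mem hg
        exact mul_mem (inv_mem (mul_mem (zpow_mem hjH i) hg')) hg'
  have hodd : ¬ 2 ∣ H.index := by
    have hc := hZ.card_modEq_card_fixedPoints (G ⧸ H)
    rw [hfix] at hc
    intro hd
    rw [← Subgroup.index_eq_card] at hc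
    simp [Nat.ModEq, Nat.mod_eq_zero_of_dvd, hd] at hc
  obtain ⟨S⟩ := (inferInstance : Nonempty (Sylow 2 H))
  have hS : IsPGroup 2 ((S : Subgroup H).map H.subtype) := S.isPGroup'.map _
  have hidx : ¬ 2 ∣ ((S : Subgroup H).map H.subtype).index := by
    rw [Subgroup.index_map_subtype]
    intro hd
    rcases (Nat.Prime.dvd_mul Nat.prime_two).1 hd with h1 | h1
    · exact S.not_dvd_index h1
    · exact hodd h1
  let P : Sylow 2 G := hS.toSylow hidx
  have hPH : ∀ g ∈ (P : Subgroup G), g ∈ H := fun g hg => Subgroup.map_subtype_le _ hg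
  have hjP : j ∈ (P : Subgroup G) := by
    have hle : (P : Subgroup G) ⊔ Z = (P : Subgroup G) := by
      refine P.is_maximal' ?_ le_sup_left
      exact P.isPGroup'.to_sup_of_normal_right' hZ fun g hg => by
        apply Subgroup.centralizer_le_normalizer
        refine Subgroup.mem_centralizer_iff.2 fun z hz => ?_
        obtain ⟨i, rfl⟩ := hz
        exact ((Commute.zpow_left ((hmem g).1 (hPH g hg)) i).eq)
    exact hle ▸ Subgroup.mem_sup_right (Subgroup.mem_zpowers j)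
  exact ⟨P, hjP, fun g hg => h g ((hmem _).1 (hPH _ hg))⟩

variable {F₁ : Type*} [Field F₁] [Fintype F₁] {F₂ : Type*} [Field F₂] [Fintype F₂]

/-- In the setting of the swapped central product, `j` is isolated. -/
theorem exists_sylow_isolated_of_swap
    (hF₁ : Odd (Fintype.card F₁)) (hF₂ : Odd (Fintype.card F₂)) (L₁ L₂ : Subgroup G)
    (e₁ : ↥L₁ ≃* SL(2, F₁)) (e₂ : ↥L₂ ≃* SL(2, F₂))
    (hc : ∀ x ∈ L₁, ∀ y ∈ L₂, x * y = y * x) (j : G) (hj : orderOf j = 2)
    (hm : L₁ ⊓ L₂ = Subgroup.zpowers j) (hle : L₁ ⊔ L₂ ≤ Subgroup.centralizer ({j} : Set G))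
    (hi : (L₁ ⊔ L₂).relIndex (Subgroup.centralizer ({j} : Set G)) = 2) (n : G)
    (hn : n ∈ Subgroup.centralizer ({j} : Set G))
    (hn2 : n ^ 2 = j) (hswap : L₁.map (MulAut.conj n).toMonoidHom = L₂) :
    ∃ P : Sylow 2 G, j ∈ P ∧ ∀ g : G, g * j * g⁻¹ ∈ P → g * j * g⁻¹ = j := by
  have hj1 : j ≠ 1 := fun h => by rw [h, orderOf_one] at hj; omega
  have hjj : j * j = 1 := by rw [← sq, ← hj, pow_orderOf_eq_one]
  have hjm : j ∈ L₁ ⊓ L₂ := hm ▸ Subgroup.mem_zpowers j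
  obtain ⟨p1, p2, p3, p4, p5⟩ := sl2_subgroup_facts e₁ hF₁ hj hjm.1
  obtain ⟨q1, q2, q3, q4, q5⟩ := sl2_subgroup_facts e₂ hF₂ hj hjm.2
  have hcen : ∀ g ∈ L₁ ⊔ L₂, j * g = g * j := fun g hg =>
    (Subgroup.mem_centralizer_singleton_iff.1 (hle hg)).symm
  have sw₁ : ∀ x ∈ L₁, n * x * n⁻¹ ∈ L₂ := fun x hx => hswap ▸ ⟨x, hx, rfl⟩
  have nn : n * n = j := by rw [← sq, hn2]
  have sw₂ : ∀ y ∈ L₂, n * y * n⁻¹ ∈ L₁ := by
    intro y hy
    rw [← hswap] at hy
    obtain ⟨x, hx, rfl⟩ := hy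
    show n * (n * x * n⁻¹) * n⁻¹ ∈ L₁
    rw [show n * (n * x * n⁻¹) * n⁻¹ = (n * n) * x * (n * n)⁻¹ by group, nn,
      hcen x (Subgroup.mem_sup_left hx), mul_inv_cancel_right]
    exact hx
  have hnA : n ∉ L₁ ⊔ L₂ := by
    intro hn'
    obtain ⟨c, hcm, d, hd, hcd⟩ := (mem_sup_iff_exists_mul hc).1 hn'
    obtain ⟨a, ha, haa⟩ := p2
    have h1 : n * a * n⁻¹ ∈ L₁ := by
      rw [← hcd, show c * d * a * (c * d)⁻¹ = c * (d * a * d⁻¹) * c⁻¹ by group, ← hc a ha d hd,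
        mul_inv_cancel_right]
      exact mul_mem (mul_mem hcm ha) (inv_mem hcm)
    have h2 : n * a * n⁻¹ ∈ L₁ ⊓ L₂ := ⟨h1, sw₁ a ha⟩
    rw [hm] at h2
    obtain ⟨i, hi⟩ := h2
    simp only at hi
    apply hj1
    calc j = n * (a * a) * n⁻¹ := by
          rw [haa, (Subgroup.mem_centralizer_singleton_iff.1 hn), mul_inv_cancel_right]
      _ = (n * a * n⁻¹) * (n * a * n⁻¹) := by group
      _ = 1 := by rw [← hi, ← zpow_add, ← two_mul, zpow_mul, zpow_two, hjj, one_zpow]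
  have cov : ∀ g, j * g = g * j → g ∈ L₁ ⊔ L₂ ∨ g * n⁻¹ ∈ L₁ ⊔ L₂ := by
    intro g hg
    by_cases hgA : g ∈ L₁ ⊔ L₂
    · exact Or.inl hgA
    refine Or.inr ?_
    have hgC : g ∈ Subgroup.centralizer ({j} : Set G) :=
      Subgroup.mem_centralizer_singleton_iff.2 hg.symm
    exact (Subgroup.mul_mem_iff_of_index_two (H := (L₁ ⊔ L₂).subgroupOf _) hi
      (a := (⟨g, hgC⟩ : Subgroup.centralizer ({j} : Set G))) (b := ⟨n⁻¹, inv_mem hn⟩)).2
      (iff_of_false hgA (fun h => hnA (by simpa using (L₁ ⊔ L₂).inv_mem h)))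
  have S : SwapSetting L₁ L₂ j n :=
    ⟨⟨hjm.1, p1, p2, p3, p4, p5⟩, ⟨hjm.2, q1, q2, q3, q4, q5⟩, hjj, hj1, hm.le, hc, nn, sw₁, sw₂, cov, hcen⟩
  exact exists_sylow_isolated hjj fun g hg => S.not_conj hg

end CfsgLib.Inv53
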