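import Cfsg.Agent.Inv53.ZTwoSFour
import Cfsg.Agent.Small.ThompsonOrder
import Cfsg.Agent.Inv54.CentralizerFour
import Cfsg.Agent.ZStar.Theorem
import Cfsg.Agent.AutAlt.Basic
import Cfsg.Agent.S0497

/-!
# Groups with a central involution whose centralizer is `C₂ × S₄`

If some involution `t` central in a Sylow 2-subgroup has centralizer `C₂ × S₄` and the centralizer
of the derived subgroup of a Sylow 2-subgroup `T` is `T`, then either `t` is central or the group is
the symmetric group of degree 6.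
-/

set_option autoImplicit false
set_option linter.style.haveILetI false
set_option linter.unusedSectionVars false
set_option maxRecDepth 20000

namespace CfsgLib.Inv53

open ZTwoSFour

variable {G : Type*} [Group G] [Finite G]

/-- The counting identity behind the Thompson order formula, for three classes of involutions. -/
theorem thompson_three (x₁ x₂ x₃ : G) (h₁ : orderOf x₁ = 2) (h₂ : orderOf x₂ = 2)
    (h₃ : orderOf x₃ = 2) (h12 : ¬ IsConj x₁ x₂) (h13 : ¬ IsConj x₁ x₃) (h23 : ¬ IsConj x₂ x₃)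
    (hall : ∀ t : G, orderOf t = 2 → IsConj x₁ t ∨ IsConj x₂ t ∨ IsConj x₃ t) :
    Nat.card {u : G // IsConj x₁ u} * Nat.card {v : G // IsConj x₂ v} =
      Nat.card {u : G // IsConj x₁ u} *
          Nat.card {p : G × G // IsConj x₁ p.1 ∧ IsConj x₂ p.2 ∧ x₁ ∈ Subgroup.zpowers (p.1 * p.2)} +
        Nat.card {u : G // IsConj x₂ u} *
          Nat.card {p : G × G // IsConj x₁ p.1 ∧ IsConj x₂ p.2 ∧ x₂ ∈ Subgroup.zpowers (p.1 * p.2)} +
        Nat.card {u : G // IsConj x₃ u} *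
          Nat.card {p : G × G // IsConj x₁ p.1 ∧ IsConj x₂ p.2 ∧ x₃ ∈ Subgroup.zpowers (p.1 * p.2)} := by
  classical
  haveI := Fintype.ofFinite G
  have hord : ∀ x a : G, orderOf x = 2 → IsConj x a → orderOf a = 2 := by
    intro x a hx h
    obtain ⟨c, rfl⟩ := isConj_iff.1 h
    rw [CfsgLib.Small.orderOf_conj_eq, hx]
  have heven : ∀ u v : G, IsConj x₁ u → IsConj x₂ v → Even (orderOf (u * v)) := by
    intro u v hu hv
    by_contra h
    obtain ⟨k, hk⟩ := CfsgLib.Small.conj_pow_eq_of_odd (hord _ _ h₁ hu) (hord _ _ h₂ hv)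
      (Nat.not_even_iff_odd.1 h)
    exact h12 ((hu.trans (isConj_iff.2 ⟨_, hk⟩)).trans hv.symm)
  let F : G → ℕ := fun z =>
    Nat.card {p : G × G // IsConj x₁ p.1 ∧ IsConj x₂ p.2 ∧ z ∈ Subgroup.zpowers (p.1 * p.2)}
  let e : ({u : G // IsConj x₁ u} × {v : G // IsConj x₂ v}) ≃
      Σ z : {z : G // orderOf z = 2},
        {p : G × G // IsConj x₁ p.1 ∧ IsConj x₂ p.2 ∧ z.1 ∈ Subgroup.zpowers (p.1 * p.2)} :=
    { toFun := fun q => ⟨⟨(q.1.1 * q.2.1) ^ (orderOf (q.1.1 * q.2.1) / 2),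
          (CfsgLib.Small.half_pow_spec (hord _ _ h₁ q.1.2) (hord _ _ h₂ q.2.2)
            (heven _ _ q.1.2 q.2.2)).1⟩,
        ⟨(q.1.1, q.2.1), q.1.2, q.2.2, CfsgLib.Small.half_pow_mem _ _⟩⟩
      invFun := fun s => (⟨s.2.1.1, s.2.2.1⟩, ⟨s.2.1.2, s.2.2.2.1⟩)
      left_inv := fun q => rfl
      right_inv := by
        rintro ⟨⟨z, hz⟩, ⟨p, hu, hv, hmem⟩⟩
        obtain rfl := CfsgLib.Small.invol_mem_zpowers_eq hz hmem
        rfl }
  have hprod := Nat.card_congr e
  rw [Nat.card_prod, Nat.card_sigma] at hprod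
  rw [hprod]
  have hcl : ∀ x, orderOf x = 2 → ∑ z ∈ Finset.univ.filter (fun z : G => IsConj x z), F z
      = Nat.card {u : G // IsConj x u} * F x := by
    intro x _
    rw [Finset.sum_congr rfl (g := fun _ => F x) (fun z hz =>
      (CfsgLib.Small.card_pairs_conj x₁ x₂ (Finset.mem_filter.1 hz).2).symm),
      Finset.sum_const, smul_eq_mul, Nat.card_eq_fintype_card, Fintype.card_subtype]
  change ∑ z : {z : G // orderOf z = 2}, F z.1 = _
  rw [← Finset.sum_subtype (Finset.univ.filter fun z : G => orderOf z = 2) (by simp) F]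
  have hset : (Finset.univ.filter fun z : G => orderOf z = 2) =
      (Finset.univ.filter fun z : G => IsConj x₁ z) ∪ (Finset.univ.filter fun z : G => IsConj x₂ z) ∪
        (Finset.univ.filter fun z : G => IsConj x₃ z) := by
    ext z
    simp only [Finset.mem_filter, Finset.mem_univ, true_and, Finset.mem_union]
    refine ⟨fun h => by
      rcases hall z h with h' | h' | h'
      exacts [Or.inl (Or.inl h'), Or.inl (Or.inr h'), Or.inr h'], ?_⟩
    rintro ((h | h) | h)
    exacts [hord _ _ h₁ h, hord _ _ h₂ h, hord _ _ h₃ h]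
  rw [hset, Finset.sum_union, Finset.sum_union, hcl x₁ h₁, hcl x₂ h₂, hcl x₃ h₃]
  · rw [Finset.disjoint_left]
    intro z hz hz'
    exact h12 ((Finset.mem_filter.1 hz).2.trans (Finset.mem_filter.1 hz').2.symm)
  · rw [Finset.disjoint_left]
    intro z hz hz'
    rcases Finset.mem_union.1 hz with hz | hz
    · exact h13 ((Finset.mem_filter.1 hz).2.trans (Finset.mem_filter.1 hz').2.symm)
    · exact h23 ((Finset.mem_filter.1 hz).2.trans (Finset.mem_filter.1 hz').2.symm)

/-- An automorphism of `A₆` fixing an element of order 3 comes from `S₆`. -/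
theorem altSix_auto_of_fix (φ : alternatingGroup (Fin 6) ≃* alternatingGroup (Fin 6))
    {r : alternatingGroup (Fin 6)} (hr : orderOf r = 3) (hφ : φ r = r) :
    ∃ σ : Equiv.Perm (Fin 6), ∀ g : alternatingGroup (Fin 6),
      ((φ g : alternatingGroup (Fin 6)) : Equiv.Perm (Fin 6)) = σ * g * σ⁻¹ := by
  classical
  haveI : Fact (Nat.Prime 3) := ⟨Nat.prime_three⟩
  refine CfsgLib.AutAlt.exists_conj_of_preserves φ (by simp) ?_
  have h3 : ∀ g : alternatingGroup (Fin 6), orderOf g = 3 → ¬ (g : Equiv.Perm (Fin 6)).IsThreeCycle →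
      (g : Equiv.Perm (Fin 6)).cycleType = {3, 3} := by
    intro g hg hn
    have hord : orderOf (g : Equiv.Perm (Fin 6)) = 3 := by rw [Subgroup.orderOf_coe, hg]
    obtain ⟨k, hk⟩ := Equiv.Perm.cycleType_prime_order (by rw [hord]; exact Nat.prime_three)
    rw [hord] at hk
    have hsum : (g : Equiv.Perm (Fin 6)).cycleType.sum ≤ 6 := by
      rw [Equiv.Perm.sum_cycleType]
      exact (Finset.card_le_univ _).trans (by simp)
    rw [hk, Multiset.sum_replicate, smul_eq_mul] at hsum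
    rcases (show k = 0 ∨ k = 1 by omega) with rfl | rfl
    · exact absurd hk hn
    · rw [hk]; rfl
  have hord3 : ∀ g : alternatingGroup (Fin 6), (g : Equiv.Perm (Fin 6)).IsThreeCycle → orderOf g = 3 :=
    fun g hg => by rw [← Subgroup.orderOf_coe]; exact hg.orderOf
  -- double three-cycles form one class
  have hdouble : ∀ g h : alternatingGroup (Fin 6), (g : Equiv.Perm (Fin 6)).cycleType = {3, 3} →
      (h : Equiv.Perm (Fin 6)).cycleType = {3, 3} → IsConj g h := by
    have hstd : ∀ g : alternatingGroup (Fin 6), (g : Equiv.Perm (Fin 6)).cycleType = {3, 3} →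
        ∃ c : alternatingGroup (Fin 6), ((c * g * c⁻¹ : alternatingGroup (Fin 6)) : Equiv.Perm (Fin 6)) =
          Equiv.swap 0 1 * Equiv.swap 1 2 * (Equiv.swap 3 4 * Equiv.swap 4 5) := by
      intro g hg
      set d : Equiv.Perm (Fin 6) := Equiv.swap 0 1 * Equiv.swap 1 2 * (Equiv.swap 3 4 * Equiv.swap 4 5)
      have hd : d.cycleType = {3, 3} := by decide +kernel
      obtain ⟨c, hc⟩ := isConj_iff.1 (Equiv.Perm.isConj_iff_cycleType_eq.2 (hg.trans hd.symm))
      set π : Equiv.Perm (Fin 6) := Equiv.swap 0 3 * Equiv.swap 1 4 * Equiv.swap 2 5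
      have hπ : π * d * π⁻¹ = d ∧ Equiv.Perm.sign π = -1 := by decide +kernel
      rcases Int.units_eq_one_or (Equiv.Perm.sign c) with hs | hs
      · exact ⟨⟨c, Equiv.Perm.mem_alternatingGroup.2 hs⟩, hc⟩
      · refine ⟨⟨π * c, Equiv.Perm.mem_alternatingGroup.2 (by rw [map_mul, hπ.2, hs]; rfl)⟩, ?_⟩
        change π * c * (g : Equiv.Perm (Fin 6)) * (π * c)⁻¹ = d
        rw [mul_inv_rev, ← mul_assoc, mul_assoc π c, mul_assoc π (c * g), hc]
        exact hπ.1
    intro g h hg hh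
    obtain ⟨a, ha⟩ := hstd g hg
    obtain ⟨b, hb⟩ := hstd h hh
    have : a * g * a⁻¹ = b * h * b⁻¹ := Subtype.ext (ha.trans hb.symm)
    exact isConj_iff.2 ⟨b⁻¹ * a, by
      rw [mul_inv_rev, inv_inv, mul_assoc b⁻¹, ← mul_assoc, mul_assoc b⁻¹, this]; group⟩
  have hsingle : ∀ g h : alternatingGroup (Fin 6), (g : Equiv.Perm (Fin 6)).IsThreeCycle →
      (h : Equiv.Perm (Fin 6)).IsThreeCycle → IsConj g h := fun g h hg hh =>
    alternatingGroup.isThreeCycle_isConj (by simp) hg hh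
  intro g hg
  by_contra hn
  have hφg : orderOf (φ g) = 3 := by rw [MulEquiv.orderOf_eq, hord3 g hg]
  have hd := h3 _ hφg hn
  by_cases hrc : (r : Equiv.Perm (Fin 6)).IsThreeCycle
  · -- `φ g` would be conjugate to `φ r = r`
    have hc := φ.toMonoidHom.map_isConj (hsingle g r hg hrc)
    change IsConj (φ g) (φ r) at hc
    rw [hφ] at hc
    obtain ⟨c, hc⟩ := isConj_iff.1 hc
    apply hn
    rw [Equiv.Perm.IsThreeCycle] at hrc ⊢
    rw [← hrc, ← hc]
    simp
  · have hc := φ.symm.toMonoidHom.map_isConj (hdouble (φ g) r hd (h3 r hr hrc))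
    change IsConj (φ.symm (φ g)) (φ.symm r) at hc
    rw [φ.symm_apply_apply, show φ.symm r = r from φ.symm_apply_eq.2 hφ.symm] at hc
    obtain ⟨c, hc⟩ := isConj_iff.1 hc
    apply hrc
    rw [Equiv.Perm.IsThreeCycle] at hg ⊢
    rw [← hg, ← hc]
    simp

/-- The set-up: `μ` embeds `C₂ × S₄` as the centralizer of `μ tau`. -/
structure SixData (μ : M2 →* G) (T : Sylow 2 G) : Prop where
  inj : Function.Injective μ
  cent_tau : ∀ g : G, g * μ tau = μ tau * g → ∃ m, μ m = g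
  mem_T : ∀ g : G, g ∈ T ↔ ∃ m : M2, m * zeta = zeta * m ∧ μ m = g
  cent_zeta : ∀ g : G, g * μ zeta = μ zeta * g → g ∈ T

namespace SixData

variable {μ : M2 →* G} {T : Sylow 2 G}

theorem twisted (d : SixData μ T) : SixData (μ.comp twist.toMonoidHom) T where
  inj := d.inj.comp twist.injective
  cent_tau g hg := by
    change g * μ (twist tau) = μ (twist tau) * g at hg
    rw [twist_values.1] at hg
    obtain ⟨m, hm⟩ := d.cent_tau g hg
    exact ⟨twist.symm m, by change μ (twist (twist.symm m)) = g; rw [twist.apply_symm_apply, hm]⟩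
  mem_T g := by
    rw [d.mem_T]
    constructor
    · rintro ⟨m, hm, rfl⟩
      refine ⟨twist.symm m, twist.injective ?_, ?_⟩
      · rw [map_mul, map_mul, twist.apply_symm_apply, twist_values.2.1, hm]
      · change μ (twist (twist.symm m)) = μ m
        rw [twist.apply_symm_apply]
    · rintro ⟨m, hm, rfl⟩
      exact ⟨twist m, by rw [← twist_values.2.1, ← map_mul, hm, map_mul], rfl⟩
  cent_zeta g hg := by
    change g * μ (twist zeta) = μ (twist zeta) * g at hg
    rw [twist_values.2.1] at hg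
    exact d.cent_zeta g hg

theorem ord (d : SixData μ T) {m : M2} (h : m * m = 1) (h1 : m ≠ 1) : orderOf (μ m) = 2 := by
  rw [orderOf_injective μ d.inj]
  exact orderOf_eq_prime (by rw [pow_two, h]) h1

theorem mem_of_invol (d : SixData μ T) {g : G} (hg : g ∈ T) (h2 : orderOf g = 2) :
    ∃ m : M2, m * zeta = zeta * m ∧ m * m = 1 ∧ m ≠ 1 ∧ μ m = g := by
  obtain ⟨m, hm, rfl⟩ := (d.mem_T g).1 hg
  rw [orderOf_injective μ d.inj] at h2
  refine ⟨m, hm, ?_, ?_, rfl⟩
  · have h := pow_orderOf_eq_one m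
    rwa [h2, pow_two] at h
  · rintro rfl
    rw [orderOf_one] at h2
    omega

theorem conj_model (μ : M2 →* G) (k m : M2) : IsConj (μ m) (μ (k * m * k⁻¹)) :=
  isConj_iff.2 ⟨μ k, by rw [map_mul, map_mul, map_inv]⟩

/-- Conjugate elements of the centre of `T` are equal. -/
theorem center_ne (d : SixData μ T) {m n : M2} (hm : m * zeta = zeta * m) (hn : n * zeta = zeta * n)
    (hmc : ∀ k : M2, k * zeta = zeta * k → m * k = k * m)
    (hnc : ∀ k : M2, k * zeta = zeta * k → n * k = k * n) (hne : m ≠ n) :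
    ¬ IsConj (μ m) (μ n) := by
  haveI : Fact (Nat.Prime 2) := ⟨Nat.prime_two⟩
  intro hc
  obtain ⟨g, hg⟩ := isConj_iff.1 hc
  have hcen : ∀ k : M2, (∀ j : M2, j * zeta = zeta * j → k * j = j * k) →
      μ k ∈ Subgroup.centralizer ((T : Subgroup G) : Set G) := by
    intro k hk
    rw [Subgroup.mem_centralizer_iff]
    intro s hs
    obtain ⟨j, hj, rfl⟩ := (d.mem_T s).1 hs
    rw [← map_mul, ← map_mul, hk j hj]
  obtain ⟨nn, hnn, he⟩ := T.conj_eq_normalizer_conj_of_mem_centralizer (μ m) g⁻¹ (hcen m hmc)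
    (by rw [inv_inv, hg]; exact hcen n hnc)
  rw [inv_inv, hg] at he
  -- the normalizer fixes `μ zeta`, hence lies in `T`
  have hz : μ zeta ∈ T := (d.mem_T _).2 ⟨zeta, rfl, rfl⟩
  have hnT : nn ∈ T := by
    apply d.cent_zeta
    have hkey : ∀ s ∈ T, ∀ s' ∈ T, s * s' * s⁻¹ * s'⁻¹ = 1 ∨ s * s' * s⁻¹ * s'⁻¹ = μ zeta := by
      intro s hs s' hs'
      obtain ⟨a, ha, rfl⟩ := (d.mem_T s).1 hs
      obtain ⟨b, hb, rfl⟩ := (d.mem_T s').1 hs'
      rcases comm_T a ha b hb with h | h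
      · left; rw [← map_inv, ← map_inv, ← map_mul, ← map_mul, ← map_mul, h, map_one]
      · right; rw [← map_inv, ← map_inv, ← map_mul, ← map_mul, ← map_mul, h]
    have hz1 : μ zeta ≠ 1 := fun h => by
      have := d.inj (h.trans (map_one μ).symm)
      exact absurd this (by decide +kernel)
    have hcj : ∀ s ∈ T, nn * s * nn⁻¹ ∈ T := fun s hs => (Subgroup.mem_normalizer_iff.1 hnn s).1 hs
    have h1 := hkey _ (hcj _ ((d.mem_T _).2 ⟨aa, ZTwoSFour.mem_T.2.1, rfl⟩)) _
      (hcj _ ((d.mem_T _).2 ⟨bb, ZTwoSFour.mem_T.2.2.1, rfl⟩))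
    have h2 : nn * μ aa * nn⁻¹ * (nn * μ bb * nn⁻¹) * (nn * μ aa * nn⁻¹)⁻¹ * (nn * μ bb * nn⁻¹)⁻¹ =
        nn * μ zeta * nn⁻¹ := by
      rw [← comm_ab, map_mul, map_mul, map_mul, map_inv, map_inv]
      group
    rw [h2] at h1
    rcases h1 with h | h
    · exact absurd (conj_eq_one_iff.1 h) hz1
    · exact mul_inv_eq_iff_eq_mul.1 h
  obtain ⟨j, hj, rfl⟩ := (d.mem_T nn).1 hnT
  apply hne
  apply d.inj
  rw [he, ← map_inv, ← map_mul, ← map_mul]
  congr 1
  rw [mul_assoc, hmc j hj, inv_mul_cancel_left]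

theorem conjT (d : SixData μ T) {g : G} (hg : orderOf g = 2) :
    ∃ m : M2, m * zeta = zeta * m ∧ m * m = 1 ∧ m ≠ 1 ∧ IsConj g (μ m) := by
  haveI : Fact (Nat.Prime 2) := ⟨Nat.prime_two⟩
  have hp : IsPGroup 2 (Subgroup.zpowers g) := IsPGroup.of_card (n := 1) (by rw [Nat.card_zpowers, hg, pow_one])
  obtain ⟨S, hS⟩ := hp.exists_le_sylow
  obtain ⟨c, hc⟩ := MulAction.exists_smul_eq G S T
  have hmem : c * g * c⁻¹ ∈ T := by
    rw [← hc]
    exact ⟨g, hS (Subgroup.mem_zpowers g), rfl⟩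
  obtain ⟨m, hm, hm2, hm1, he⟩ := d.mem_of_invol hmem (by rw [CfsgLib.Small.orderOf_conj_eq, hg])
  exact ⟨m, hm, hm2, hm1, isConj_iff.2 ⟨c, he.symm⟩⟩

/-- If `t` is not conjugate to a transposition of either kind, it is central. -/
theorem central_of_isolated (d : SixData μ T) (h1 : ¬ IsConj (μ tau) (μ aa))
    (h2 : ¬ IsConj (μ tau) (μ (tau * aa))) (g : G) : g * μ tau = μ tau * g := by
  haveI : Fact (Nat.Prime 2) := ⟨Nat.prime_two⟩
  have htc : ∀ k : M2, k * zeta = zeta * k → tau * k = k * tau := fun k _ => tau_central k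
  have hzc : ∀ k : M2, k * zeta = zeta * k → zeta * k = k * zeta := fun k hk => hk.symm
  have hwc : ∀ k : M2, k * zeta = zeta * k → tau * zeta * k = k * (tau * zeta) := fun k hk => by
    rw [mul_assoc, ← hk, ← mul_assoc, tau_central k, mul_assoc]
  have htT : tau * zeta = zeta * tau := ZTwoSFour.mem_T.1
  have hzT : zeta * zeta = zeta * zeta := rfl
  have hwT : tau * zeta * zeta = zeta * (tau * zeta) := by rw [htT]; simp only [mul_assoc, htT]
  have hiso : ∀ c : G, c * μ tau * c⁻¹ ∈ (T : Subgroup G) → c * μ tau * c⁻¹ = μ tau := by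
    intro c hc
    have hord : orderOf (c * μ tau * c⁻¹) = 2 := by
      rw [CfsgLib.Small.orderOf_conj_eq]; exact d.ord tau_ne.2 tau_ne.1
    obtain ⟨m, -, hm2, hm1, hmc⟩ := d.mem_of_invol hc hord
    have hcj : IsConj (μ tau) (μ m) := hmc ▸ isConj_iff.2 ⟨c, rfl⟩
    rw [← hmc]
    rcases class_aa m hm2 hm1 with rfl | ⟨k, rfl⟩ | ⟨k, rfl⟩ | ⟨k, rfl⟩ | ⟨k, rfl⟩
    · rfl
    · exact absurd (hcj.trans (conj_model μ k aa).symm) h1
    · exact absurd (hcj.trans (conj_model μ k zeta).symm)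
        (d.center_ne htT hzT htc hzc model_facts.2.1)
    · exact absurd (hcj.trans (conj_model μ k (tau * aa)).symm) h2
    · exact absurd (hcj.trans (conj_model μ k (tau * zeta)).symm)
        (d.center_ne htT hwT htc hwc model_facts.1)
  obtain ⟨O, hOn, hOodd, hO⟩ := CfsgLib.ZStar.exists_oddNormal_of_sylow T
    (d.ord tau_ne.2 tau_ne.1) ((d.mem_T _).2 ⟨tau, htT, rfl⟩) hiso
  haveI := hOn
  -- `O` meets no centralizer of a conjugate of `μ zeta`
  have hfix : ∀ z, IsConj (μ zeta) z → ∀ x ∈ O, z * x * z⁻¹ = x → x = 1 := by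
    intro z hz x hx hzx
    obtain ⟨c, rfl⟩ := isConj_iff.1 hz
    have hy : c⁻¹ * x * c ∈ O := by simpa using hOn.conj_mem x hx c⁻¹
    have hyT : c⁻¹ * x * c ∈ T := d.cent_zeta _ (by
      have h := mul_inv_eq_iff_eq_mul.1 hzx
      calc c⁻¹ * x * c * μ zeta = c⁻¹ * (x * (c * μ zeta * c⁻¹)) * c := by group
        _ = μ zeta * (c⁻¹ * x * c) := by rw [← h]; group)
    obtain ⟨j, hj⟩ := T.isPGroup' ⟨_, hyT⟩
    have hy2 : (c⁻¹ * x * c) ^ 2 ^ j = 1 := congrArg Subtype.val hj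
    have hyO : (c⁻¹ * x * c) ^ Nat.card O = 1 := congrArg Subtype.val (pow_card_eq_one' (x := (⟨_, hy⟩ : O)))
    have h := pow_gcd_eq_one.2 ⟨hy2, hyO⟩
    rw [Nat.Coprime.gcd_eq_one (Nat.Coprime.pow_left _ (Nat.coprime_two_left.2 hOodd)), pow_one] at h
    have : x = c * (c⁻¹ * x * c) * c⁻¹ := by group
    rw [this, h]; group
  have hinv : ∀ z, IsConj (μ zeta) z → z * z = 1 → ∀ x ∈ O, z * x * z⁻¹ = x⁻¹ := by
    intro z hz hz2 x hx
    let φ : O →* O :=
      { toFun := fun y => ⟨z * y * z⁻¹, hOn.conj_mem y y.2 z⟩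
        map_one' := Subtype.ext (by simp)
        map_mul' := fun a b => Subtype.ext (by simp [mul_assoc]) }
    have hfp : MonoidHom.FixedPointFree φ := fun y hy =>
      Subtype.ext (hfix z hz y y.2 (congrArg Subtype.val hy))
    have hinvol : Function.Involutive φ := fun y => Subtype.ext (by
      change z * (z * (y : G) * z⁻¹) * z⁻¹ = y
      rw [inv_eq_of_mul_eq_one_right hz2]
      simp only [← mul_assoc]
      rw [hz2, one_mul, mul_assoc, hz2, mul_one])
    exact congrArg Subtype.val (congrFun (hfp.coe_eq_inv_of_involutive hinvol) ⟨x, hx⟩)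
  have hb : IsConj (μ zeta) (μ bb) := by
    obtain ⟨k, hk⟩ := (classZ bb distinct.2.2.2.2.2.2.1).resolve_right model_facts.2.2.2.2.2.2.1
    exact hk ▸ conj_model μ k zeta
  have hbz : IsConj (μ zeta) (μ (bb * zeta)) := by
    obtain ⟨k, hk⟩ := (classZ (bb * zeta) distinct.2.2.2.2.2.2.2.2.1).resolve_right model_facts.2.2.2.2.2.2.2.1
    exact hk ▸ conj_model μ k zeta
  have hsq : ∀ m : M2, m * m = 1 → μ m * μ m = 1 := fun m h => by rw [← map_mul, h, map_one]
  have hO1 : ∀ x ∈ O, x = 1 := by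
    intro x hx
    have i1 := hinv _ (IsConj.refl _) (hsq zeta model_facts.2.2.2.1) x hx
    have i2 := hinv _ hb (hsq bb model_facts.2.2.2.2.1) x⁻¹ (inv_mem hx)
    have i3 := hinv _ hbz (hsq (bb * zeta) model_facts.2.2.2.2.2.1) x hx
    rw [inv_inv] at i2
    have : μ (bb * zeta) * x * (μ (bb * zeta))⁻¹ = x := by
      rw [map_mul, mul_inv_rev]
      calc μ bb * μ zeta * x * ((μ zeta)⁻¹ * (μ bb)⁻¹) = μ bb * (μ zeta * x * (μ zeta)⁻¹) * (μ bb)⁻¹ := by group
        _ = x := by rw [i1, i2]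
    rw [this] at i3
    obtain ⟨k, hk⟩ := hOodd
    have hx2 : x ^ 2 = 1 := by rw [pow_two]; exact mul_eq_one_iff_eq_inv.2 i3
    have hxO : x ^ Nat.card O = 1 := congrArg Subtype.val (pow_card_eq_one' (x := (⟨x, hx⟩ : O)))
    rwa [hk, pow_succ, pow_mul, hx2, one_pow, one_mul] at hxO
  exact (commutatorElement_eq_one_iff_mul_comm.1 (hO1 _ (hO g))).symm

end SixData

end CfsgLib.Inv53
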