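import Cfsg.Agent.Inv53.SymSix

/-!
# The nonsolvable case of the `C₂ × S₄` centralizer problem: `|G| = 720`, and `G ≅ S₆`
-/

set_option autoImplicit false
set_option linter.style.haveILetI false
set_option linter.unusedSectionVars false
set_option maxRecDepth 20000

namespace CfsgLib.Inv53

open ZTwoSFour

variable {G : Type*} [Group G] [Finite G]

/-- An involution in the subgroup generated by a product of two involutions commutes with both. -/
theorem invol_commute_of_mem_zpowers {x u v : G} (hx : x * x = 1) (hu : u * u = 1) (hv : v * v = 1)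
    (h : x ∈ Subgroup.zpowers (u * v)) : u * x = x * u ∧ v * x = x * v := by
  obtain ⟨k, rfl⟩ := Subgroup.mem_zpowers_iff.1 h
  have hu' : u⁻¹ = u := inv_eq_of_mul_eq_one_right hu
  have hv' : v⁻¹ = v := inv_eq_of_mul_eq_one_right hv
  have hxi : ((u * v) ^ k)⁻¹ = (u * v) ^ k := inv_eq_of_mul_eq_one_right hx
  have h1 : u * (u * v) ^ k * u⁻¹ = (u * v) ^ k := by
    rw [← conj_zpow, show u * (u * v) * u⁻¹ = (u * v)⁻¹ by
      rw [mul_inv_rev, hu', hv', ← mul_assoc, hu, one_mul], inv_zpow, hxi]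
  have h2 : u * (u * v) ^ k = (u * v) ^ k * u := mul_inv_eq_iff_eq_mul.1 h1
  refine ⟨h2, ?_⟩
  have h3 : Commute (u * v) ((u * v) ^ k) := Commute.self_zpow _ _
  have h4 : Commute (u⁻¹ * (u * v)) ((u * v) ^ k) := (Commute.inv_left h2).mul_left h3
  rwa [inv_mul_cancel_left] at h4

namespace SixData

variable {μ : M2 →* G} {T : Sylow 2 G}

theorem sq_map (μ : M2 →* G) {m : M2} (h : m * m = 1) : μ m * μ m = 1 := by rw [← map_mul, h, map_one]

theorem mem_T_of (d : SixData μ T) {m : M2} (h : m * zeta = zeta * m) : μ m ∈ T :=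
  (d.mem_T _).2 ⟨m, h, rfl⟩

theorem card_T (d : SixData μ T) : Nat.card (T : Subgroup G) = 16 := by
  classical
  rw [← card_Tset, ← Nat.card_eq_finsetCard]
  refine (Nat.card_congr (Equiv.ofBijective
    (fun m => (⟨μ m.1, d.mem_T_of (m := m.1) (by have := m.2; simp only [Finset.mem_filter] at this; exact this.2)⟩ : (T : Subgroup G))) ⟨?_, ?_⟩)).symm
  · intro a b h
    exact Subtype.ext (d.inj (congrArg Subtype.val h))
  · rintro ⟨g, hg⟩
    obtain ⟨m, hm, rfl⟩ := (d.mem_T g).1 hg
    exact ⟨⟨m, Finset.mem_filter.2 ⟨Finset.mem_univ _, hm⟩⟩, rfl⟩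

theorem central_T {m : M2} (h : m = tau ∨ m = zeta ∨ m = tau * zeta) :
    (m * zeta = zeta * m) ∧ ∀ k : M2, k * zeta = zeta * k → m * k = k * m := by
  rcases h with rfl | rfl | rfl
  · exact ⟨tau_central zeta, fun k _ => tau_central k⟩
  · exact ⟨rfl, fun k hk => hk.symm⟩
  · refine ⟨?_, fun k hk => ?_⟩
    · rw [tau_central zeta, mul_assoc, tau_central zeta]
    · rw [mul_assoc, ← hk, ← mul_assoc, tau_central k, mul_assoc]

theorem not_conj_tz (d : SixData μ T) : ¬ IsConj (μ tau) (μ zeta) :=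
  d.center_ne (central_T (.inl rfl)).1 (central_T (.inr (.inl rfl))).1
    (central_T (.inl rfl)).2 (central_T (.inr (.inl rfl))).2 model_facts.2.1

theorem not_conj_tw (d : SixData μ T) : ¬ IsConj (μ tau) (μ (tau * zeta)) :=
  d.center_ne (central_T (.inl rfl)).1 (central_T (.inr (.inr rfl))).1
    (central_T (.inl rfl)).2 (central_T (.inr (.inr rfl))).2 model_facts.1

theorem not_conj_zw (d : SixData μ T) : ¬ IsConj (μ zeta) (μ (tau * zeta)) :=
  d.center_ne (central_T (.inr (.inl rfl))).1 (central_T (.inr (.inr rfl))).1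
    (central_T (.inr (.inl rfl))).2 (central_T (.inr (.inr rfl))).2 model_facts.2.2.1

theorem conj_of_isW (μ : M2 →* G) {m : M2} (h : IsW m) : IsConj (μ (tau * zeta)) (μ m) := by
  obtain ⟨k, rfl⟩ := classW m h
  exact conj_model μ k _

theorem conj_of_isT (hta : IsConj (μ tau) (μ aa)) {m : M2} (h : IsT m) : IsConj (μ tau) (μ m) := by
  rcases classT m h with rfl | ⟨k, rfl⟩
  · exact IsConj.refl _
  · exact hta.trans (conj_model μ k _)

/-- An element centralizing `μ (tau * zeta)` moving `μ zeta` to the other kind of involution. -/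
theorem exists_fuser (d : SixData μ T) (hta : IsConj (μ tau) (μ aa)) :
    ∃ g : G, g * μ (tau * zeta) * g⁻¹ = μ (tau * zeta) ∧
      (g * μ zeta * g⁻¹ = μ (tau * aa) ∨ g * μ zeta * g⁻¹ = μ (tau * aa * zeta)) := by
  classical
  haveI : Fact (Nat.Prime 2) := ⟨Nat.prime_two⟩
  let Ca : Subgroup G := Subgroup.centralizer ({μ aa} : Set G)
  let E : Subgroup G := (T : Subgroup G) ⊓ Ca
  have hmemCa : ∀ g, g ∈ Ca ↔ g * μ aa = μ aa * g := fun g => by
    change g ∈ Subgroup.centralizer ({μ aa} : Set G) ↔ _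
    rw [Subgroup.mem_centralizer_iff]
    exact ⟨fun h => (h _ rfl).symm, fun h => by rintro _ rfl; exact h.symm⟩
  have hEmem : ∀ g, g ∈ E ↔ ∃ m : M2, m * zeta = zeta * m ∧ m * aa = aa * m ∧ μ m = g := by
    intro g
    rw [Subgroup.mem_inf, hmemCa]
    constructor
    · rintro ⟨hT, hc⟩
      obtain ⟨m, hm, rfl⟩ := (d.mem_T g).1 hT
      exact ⟨m, hm, d.inj (by rw [map_mul, map_mul, hc]), rfl⟩
    · rintro ⟨m, hm, hm', rfl⟩
      exact ⟨d.mem_T_of hm, by rw [← map_mul, ← map_mul, hm']⟩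
  have hE : Nat.card E = 8 := by
    rw [← ZTwoSFour.card_E, ← Nat.card_eq_finsetCard]
    refine (Nat.card_congr (Equiv.ofBijective (fun m => (⟨μ m.1, (hEmem _).2
      ⟨m.1, (Finset.mem_filter.1 m.2).2.1, (Finset.mem_filter.1 m.2).2.2, rfl⟩⟩ : E)) ⟨?_, ?_⟩)).symm
    · intro a b h
      exact Subtype.ext (d.inj (congrArg Subtype.val h))
    · rintro ⟨g, hg⟩
      obtain ⟨m, hm, hm', rfl⟩ := (hEmem g).1 hg
      exact ⟨⟨m, Finset.mem_filter.2 ⟨Finset.mem_univ _, hm, hm'⟩⟩, rfl⟩
  -- a Sylow 2-subgroup of `C(a)` containing `E`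
  have hEp : IsPGroup 2 (E.subgroupOf Ca) :=
    (T.isPGroup'.to_le inf_le_left).comap_of_injective Ca.subtype Ca.subtype_injective
  obtain ⟨S', hS'⟩ := hEp.exists_le_sylow
  obtain ⟨c, hc⟩ := isConj_iff.1 hta
  have hT16 := d.card_T
  have h16 : 16 ≤ Nat.card (S' : Subgroup Ca) := by
    have hmem : ∀ s ∈ (T : Subgroup G), c * s * c⁻¹ ∈ Ca := by
      intro s hs
      obtain ⟨m, hm, rfl⟩ := (d.mem_T s).1 hs
      have h : μ m * μ tau = μ tau * μ m := by rw [← map_mul, ← map_mul, tau_central m]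
      rw [hmemCa, ← hc]
      calc c * μ m * c⁻¹ * (c * μ tau * c⁻¹) = c * (μ m * μ tau) * c⁻¹ := by group
        _ = c * μ tau * c⁻¹ * (c * μ m * c⁻¹) := by rw [h]; group
    let Tc : Subgroup Ca := ((T : Subgroup G).map (MulAut.conj c).toMonoidHom).subgroupOf Ca
    have hle : (T : Subgroup G).map (MulAut.conj c).toMonoidHom ≤ Ca := by
      rintro _ ⟨s, hs, rfl⟩; exact hmem s hs
    have hcard : Nat.card Tc = 16 := by
      rw [Nat.card_congr (Subgroup.subgroupOfEquivOfLe hle).toEquiv,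
        Subgroup.card_map_of_injective (MulAut.conj c).injective, hT16]
    obtain ⟨S'', hS''⟩ := (IsPGroup.of_card (n := 4) hcard : IsPGroup 2 Tc).exists_le_sylow
    have h := Subgroup.card_le_of_le hS''
    rw [hcard, Nat.card_congr (S''.equiv S').toEquiv] at h
    exact h
  let T1 : Subgroup G := (S' : Subgroup Ca).map Ca.subtype
  have hT1 : Nat.card T1 = 16 := by
    have hle : Nat.card T1 ≤ 16 := by
      obtain ⟨S, hS⟩ := (S'.isPGroup'.map Ca.subtype).exists_le_sylow
      exact (Subgroup.card_le_of_le hS).trans (by rw [Nat.card_congr (S.equiv T).toEquiv, hT16])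
    have : Nat.card T1 = Nat.card (S' : Subgroup Ca) := Subgroup.card_map_of_injective Ca.subtype_injective
    omega
  have hET1 : E ≤ T1 := fun g hg => ⟨⟨g, (Subgroup.mem_inf.1 hg).2⟩, hS' hg, rfl⟩
  have hidx : (E.subgroupOf T1).index = 2 := by
    have h := Subgroup.index_mul_card (E.subgroupOf T1)
    rw [Nat.card_congr (Subgroup.subgroupOfEquivOfLe hET1).toEquiv, hE, hT1] at h
    omega
  haveI := Subgroup.normal_of_index_eq_two hidx
  -- an element of `T1` outside `T`
  obtain ⟨g, hgT1, hgT⟩ : ∃ g ∈ T1, g ∉ (T : Subgroup G) := by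
    by_contra h
    push Not at h
    have heq : T1 = (T : Subgroup G) := Subgroup.eq_of_le_of_card_ge h (by rw [hT1, hT16])
    have hb : μ bb ∈ T1 := heq ▸ d.mem_T_of ZTwoSFour.mem_T.2.2.1
    obtain ⟨⟨b', hb'⟩, -, hbe⟩ := hb
    change b' = μ bb at hbe
    rw [hmemCa, hbe, ← map_mul, ← map_mul] at hb'
    exact bb_moves.1 (d.inj hb').symm
  have himg : ∀ m : M2, m * zeta = zeta * m → m * aa = aa * m → m ≠ 1 →
      ∃ n : M2, (IsT n ∨ n = zeta ∨ n = tau * zeta ∨ n = tau * aa ∨ n = tau * aa * zeta) ∧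
        μ n = g * μ m * g⁻¹ := by
    intro m hm hm' hm1
    have hin : (⟨μ m, hET1 ((hEmem _).2 ⟨m, hm, hm', rfl⟩)⟩ : T1) ∈ E.subgroupOf T1 :=
      Subgroup.mem_subgroupOf.2 ((hEmem _).2 ⟨m, hm, hm', rfl⟩)
    have hj := (inferInstance : (E.subgroupOf T1).Normal).conj_mem _ hin ⟨g, hgT1⟩
    rw [Subgroup.mem_subgroupOf] at hj
    change g * μ m * g⁻¹ ∈ E at hj
    obtain ⟨n, hn, hn', hne⟩ := (hEmem _).1 hj
    refine ⟨n, E_cases n hn hn' (E_sq n hn hn') ?_, hne⟩
    rintro rfl
    rw [map_one, eq_comm, conj_eq_one_iff] at hne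
    exact hm1 (d.inj (hne.trans (map_one μ).symm))
  have hz : g * μ zeta * g⁻¹ = μ (tau * aa) ∨ g * μ zeta * g⁻¹ = μ (tau * aa * zeta) := by
    obtain ⟨n, hn, hne⟩ := himg zeta rfl ZTwoSFour.mem_T.2.1.symm model_facts.2.2.2.2.2.2.2.2.1
    have hcz : IsConj (μ zeta) (μ n) := isConj_iff.2 ⟨g, hne.symm⟩
    rcases hn with hn | rfl | rfl | rfl | rfl
    · exact absurd (conj_of_isT hta hn |>.trans hcz.symm) d.not_conj_tz
    · exact absurd (d.cent_zeta g (mul_inv_eq_iff_eq_mul.1 hne.symm)) hgT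
    · exact absurd hcz d.not_conj_zw
    · exact Or.inl hne.symm
    · exact Or.inr hne.symm
  have hzc : IsConj (μ zeta) (μ (tau * aa)) ∧ IsConj (μ zeta) (μ (tau * aa * zeta)) := by
    have hb : IsConj (μ (tau * aa)) (μ (tau * aa * zeta)) := bb_moves.2 ▸ conj_model μ bb (tau * aa)
    rcases hz with h | h
    · exact ⟨isConj_iff.2 ⟨g, h⟩, (isConj_iff.2 ⟨g, h⟩ : IsConj (μ zeta) _).trans hb⟩
    · exact ⟨(isConj_iff.2 ⟨g, h⟩ : IsConj (μ zeta) _).trans hb.symm, isConj_iff.2 ⟨g, h⟩⟩
  refine ⟨g, ?_, hz⟩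
  have hwa : (tau * zeta) * aa = aa * (tau * zeta) :=
    (central_T (.inr (.inr rfl))).2 aa ZTwoSFour.mem_T.2.1
  obtain ⟨n, hn, hne⟩ := himg (tau * zeta) (central_T (.inr (.inr rfl))).1 hwa
    model_facts.2.2.2.2.2.2.2.2.2.1
  have hcw : IsConj (μ (tau * zeta)) (μ n) := isConj_iff.2 ⟨g, hne.symm⟩
  rcases hn with hn | rfl | rfl | rfl | rfl
  · exact absurd ((conj_of_isT hta hn).trans hcw.symm) d.not_conj_tw
  · exact absurd hcw.symm d.not_conj_zw
  · exact hne.symm
  · exact absurd (hzc.1.trans hcw.symm) d.not_conj_zw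
  · exact absurd (hzc.2.trans hcw.symm) d.not_conj_zw

theorem conj_of_isZ (d : SixData μ T) (hta : IsConj (μ tau) (μ aa)) {m : M2} (h : IsZ m) :
    IsConj (μ zeta) (μ m) := by
  have hza : IsConj (μ zeta) (μ (tau * aa)) := by
    obtain ⟨g, -, hg | hg⟩ := d.exists_fuser hta
    · exact isConj_iff.2 ⟨g, hg⟩
    · exact (isConj_iff.2 ⟨g, hg⟩ : IsConj (μ zeta) _).trans
        (bb_moves.2 ▸ conj_model μ bb (tau * aa) : IsConj (μ (tau * aa)) (μ (tau * aa * zeta))).symm
  rcases classZ m h with ⟨k, rfl⟩ | ⟨k, rfl⟩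
  · exact conj_model μ k _
  · exact hza.trans (conj_model μ k _)

/-- The three classes of involutions. -/
theorem classes (d : SixData μ T) (hta : IsConj (μ tau) (μ aa)) (g : G) (hg : orderOf g = 2) :
    IsConj (μ tau) g ∨ IsConj (μ zeta) g ∨ IsConj (μ (tau * zeta)) g := by
  obtain ⟨m, -, hm2, hm1, hgm⟩ := d.conjT hg
  rcases invol_cases m hm2 hm1 with h | h | h
  · exact Or.inl ((conj_of_isT hta h).trans hgm.symm)
  · exact Or.inr (Or.inl ((d.conj_of_isZ hta h).trans hgm.symm))
  · exact Or.inr (Or.inr ((conj_of_isW μ h).trans hgm.symm))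

theorem isT_iff (d : SixData μ T) (hta : IsConj (μ tau) (μ aa)) {m : M2} (h2 : m * m = 1) (h1 : m ≠ 1) :
    IsConj (μ tau) (μ m) ↔ IsT m := by
  refine ⟨fun hc => ?_, conj_of_isT hta⟩
  rcases invol_cases m h2 h1 with h | h | h
  · exact h
  · exact absurd (hc.trans (d.conj_of_isZ hta h).symm) d.not_conj_tz
  · exact absurd (hc.trans (conj_of_isW μ h).symm) d.not_conj_tw

theorem isZ_iff (d : SixData μ T) (hta : IsConj (μ tau) (μ aa)) {m : M2} (h2 : m * m = 1) (h1 : m ≠ 1) :
    IsConj (μ zeta) (μ m) ↔ IsZ m := by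
  refine ⟨fun hc => ?_, d.conj_of_isZ hta⟩
  rcases invol_cases m h2 h1 with h | h | h
  · exact absurd ((conj_of_isT hta h).trans hc.symm) d.not_conj_tz
  · exact h
  · exact absurd (hc.trans (conj_of_isW μ h).symm) d.not_conj_zw

/-- The subgroup of index two. -/
theorem exists_index_two (d : SixData μ T) (hta : IsConj (μ tau) (μ aa)) :
    ∃ H : Subgroup G, H.index = 2 ∧ μ tau ∉ H ∧ (∀ m : M2, μ m ∈ H ↔ InKer m) ∧
      ∀ x, IsConj (μ zeta) x → x ∈ H := by
  classical
  haveI : Fact (Nat.Prime 2) := ⟨Nat.prime_two⟩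
  let M : Subgroup G :=
    { carrier := {g | ∃ m : M2, m * zeta = zeta * m ∧ InKer m ∧ μ m = g}
      mul_mem' := by
        rintro _ _ ⟨a, ha, ha', rfl⟩ ⟨b, hb, hb', rfl⟩
        exact ⟨a * b, by rw [mul_assoc, hb, ← mul_assoc, ha, mul_assoc], ker_mul a b ha' hb', map_mul μ a b⟩
      one_mem' := ⟨1, by rw [one_mul, mul_one], ker_one, map_one μ⟩
      inv_mem' := by
        rintro _ ⟨a, ha, ha', rfl⟩
        refine ⟨a ^ 11, (Commute.pow_left (show Commute a zeta from ha) 11).eq, ?_, ?_⟩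
        · have : ∀ k : ℕ, InKer (a ^ k) := by
            intro k
            induction k with
            | zero => rw [pow_zero]; exact ker_one
            | succ k ih => rw [pow_succ]; exact ker_mul _ _ ih ha'
          exact this 11
        · refine (inv_eq_of_mul_eq_one_right ?_).symm
          rw [← map_mul, ← pow_succ', pow_bound, map_one] }
  have hM : Nat.card M = 8 := by
    rw [← card_T_ker, ← Nat.card_eq_finsetCard]
    refine (Nat.card_congr (Equiv.ofBijective (fun m => (⟨μ m.1, m.1, (Finset.mem_filter.1 m.2).2.1,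
      (Finset.mem_filter.1 m.2).2.2, rfl⟩ : M)) ⟨?_, ?_⟩)).symm
    · intro a b h
      exact Subtype.ext (d.inj (congrArg Subtype.val h))
    · rintro ⟨_, m, hm, hm', rfl⟩
      exact ⟨⟨m, Finset.mem_filter.2 ⟨Finset.mem_univ _, hm, hm'⟩⟩, rfl⟩
  have hidx : M.index = 2 * (T : Subgroup G).index := by
    have h1 := M.index_mul_card
    have h2 := (T : Subgroup G).index_mul_card
    rw [hM] at h1
    rw [d.card_T] at h2
    omega
  obtain ⟨H, hH, htH⟩ := CfsgLib.Inv54.exists_index_two_not_mem M (d.ord tau_ne.2 tau_ne.1)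
    (m := (T : Subgroup G).index) (by rw [Nat.odd_iff, ← Nat.two_dvd_ne_zero]; exact T.not_dvd_index) hidx
    (fun g ⟨m, hmz, hmk, hm⟩ => by
      have hc : IsConj (μ tau) (μ m) := isConj_iff.2 ⟨g⁻¹, by rw [inv_inv, hm]⟩
      have h2 : m * m = 1 := d.inj (by
        rw [map_mul, hm, map_one, show g⁻¹ * μ tau * g * (g⁻¹ * μ tau * g) = g⁻¹ * (μ tau * μ tau) * g by group,
          sq_map μ tau_ne.2, mul_one, inv_mul_cancel])
      have h1 : m ≠ 1 := fun e => by
        rw [e, map_one] at hc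
        exact tau_ne.1 (d.inj ((isConj_one_left.1 hc).trans (map_one μ).symm))
      obtain ⟨-, h' | ⟨h', h''⟩⟩ := (d.isT_iff hta h2 h1).1 hc
      · exact distinct.2.2.2.1 (h' ▸ hmk)
      · exact absurd ((hmk.2 h').symm.trans h'') (by decide))
  haveI := Subgroup.normal_of_index_eq_two hH
  have hmul : ∀ a b : G, a * b ∈ H ↔ (a ∈ H ↔ b ∈ H) := fun a b => Subgroup.mul_mem_iff_of_index_two hH
  have hzH : μ zeta ∈ H := by
    rw [← comm_ab, map_mul, map_mul, map_mul, map_inv, map_inv]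
    simp only [hmul, inv_mem_iff]
    tauto
  have hcl : ∀ x, IsConj (μ zeta) x → x ∈ H := by
    intro x hx
    obtain ⟨c, rfl⟩ := isConj_iff.1 hx
    exact (inferInstance : H.Normal).conj_mem _ hzH c
  have hker : ∀ m, InKer m → μ m ∈ H := by
    intro m hm
    have h1 : ∀ x : M2, (x = 1 ∨ IsZ x) → μ x ∈ H := by
      rintro x (rfl | hx)
      · rw [map_one]; exact one_mem H
      · exact hcl _ (d.conj_of_isZ hta hx)
    obtain ⟨a, ha, b, hb, c, hc, rfl⟩ := ker_products m hm
    rw [map_mul, map_mul]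
    exact mul_mem (mul_mem (h1 a ha) (h1 b hb)) (h1 c hc)
  refine ⟨H, hH, htH, fun m => ⟨fun hm => ?_, hker m⟩, hcl⟩
  by_contra hn
  have := hker _ (not_ker m hn)
  rw [map_mul, hmul] at this
  exact htH (this.2 hm)

/-- The centralizer of `μ (tau * zeta)` has order 48, and its contribution to the order formula is 3. -/
theorem centralizer_w (d : SixData μ T) (hta : IsConj (μ tau) (μ aa)) :
    Nat.card (Subgroup.centralizer ({μ (tau * zeta)} : Set G)) = 48 ∧
      Nat.card {p : G × G // IsConj (μ tau) p.1 ∧ IsConj (μ zeta) p.2 ∧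
        μ (tau * zeta) ∈ Subgroup.zpowers (p.1 * p.2)} = 3 := by
  classical
  haveI : Fact (Nat.Prime 2) := ⟨Nat.prime_two⟩
  obtain ⟨H, hH, htH, hmemH, hclH⟩ := d.exists_index_two hta
  have hmul : ∀ a b : G, a * b ∈ H ↔ (a ∈ H ↔ b ∈ H) := fun a b => Subgroup.mul_mem_iff_of_index_two hH
  set w := μ (tau * zeta) with hw
  have hw2 : w * w = 1 := sq_map μ model_facts.2.2.2.2.2.2.2.2.2.2.1
  have hwH : w ∉ H := fun h => pairs_facts.2.2.2.2.2.2.2.1 ((hmemH _).1 h)
  let K : Subgroup G := Subgroup.centralizer ({w} : Set G)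
  have hK : ∀ g, g ∈ K ↔ g * w = w * g := fun g => by
    change g ∈ Subgroup.centralizer ({w} : Set G) ↔ _
    rw [Subgroup.mem_centralizer_iff]
    exact ⟨fun h => (h _ rfl).symm, fun h => by rintro _ rfl; exact h.symm⟩
  let K0 : Subgroup G := K ⊓ H
  have hTK : ∀ m : M2, m * zeta = zeta * m → μ m ∈ K := fun m hm => by
    rw [hK, hw, ← map_mul, ← map_mul, (central_T (.inr (.inr rfl))).2 m hm]
  have hK0m : ∀ m : M2, m * zeta = zeta * m → InKer m → μ m ∈ K0 := fun m hm hk =>
    Subgroup.mem_inf.2 ⟨hTK m hm, (hmemH m).2 hk⟩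
  have hz0 : μ zeta ∈ K0 := hK0m _ rfl distinct.2.2.2.2.1
  have hb0 : μ bb ∈ K0 := hK0m _ ZTwoSFour.mem_T.2.2.1 distinct.2.2.2.2.2.1
  have hta0 : μ (tau * aa) ∈ K0 := hK0m _ ZTwoSFour.mem_T.2.2.2 pairs_facts.2.2.2.2.2.1
  let zk : K0 := ⟨μ zeta, hz0⟩
  let bk : K0 := ⟨μ bb, hb0⟩
  let rk : K0 := ⟨μ (tau * aa), hta0⟩
  let sk : K0 := ⟨μ (tau * aa * zeta), hK0m _ commute_five.2.1 pairs_facts.2.2.2.2.2.2.1⟩
  let bzk : K0 := ⟨μ (bb * zeta), hK0m _ commute_five.2.2.2.2 pairs_facts.2.2.2.2.1⟩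
  -- conjugations inside `K0`
  have hrs : IsConj rk sk := isConj_iff.2 ⟨bk, Subtype.ext (by
    change μ bb * μ (tau * aa) * (μ bb)⁻¹ = μ (tau * aa * zeta)
    rw [← map_inv, ← map_mul, ← map_mul, bb_moves.2])⟩
  have hbbz : IsConj bk bzk := isConj_iff.2 ⟨rk, Subtype.ext (by
    change μ (tau * aa) * μ bb * (μ (tau * aa))⁻¹ = μ (bb * zeta)
    rw [← map_inv, ← map_mul, ← map_mul, comm_ta_b])⟩
  have hzr : IsConj zk rk ∧ IsConj zk sk := by
    obtain ⟨g, hgw, hg⟩ := d.exists_fuser hta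
    have hgK : g ∈ K := (hK g).2 (mul_inv_eq_iff_eq_mul.1 hgw)
    have hg' : ∃ k ∈ K0, k * μ zeta * k⁻¹ = g * μ zeta * g⁻¹ := by
      by_cases hgH : g ∈ H
      · exact ⟨g, Subgroup.mem_inf.2 ⟨hgK, hgH⟩, rfl⟩
      · refine ⟨w * g, Subgroup.mem_inf.2 ⟨mul_mem ((hK w).2 rfl) hgK, (hmul w g).2 (iff_of_false hwH hgH)⟩, ?_⟩
        have hgz : g * μ zeta * g⁻¹ ∈ K := by
          rcases hg with h | h <;> rw [h]
          · exact hTK _ ZTwoSFour.mem_T.2.2.2
          · exact hTK _ commute_five.2.1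
        rw [hK] at hgz
        calc w * g * μ zeta * (w * g)⁻¹ = w * (g * μ zeta * g⁻¹) * w⁻¹ := by group
          _ = g * μ zeta * g⁻¹ := by rw [← hgz]; group
    obtain ⟨k, hk, hke⟩ := hg'
    rcases hg with h | h
    · have h' : IsConj zk rk := isConj_iff.2 ⟨⟨k, hk⟩, Subtype.ext (hke.trans h)⟩
      exact ⟨h', h'.trans hrs⟩
    · have h' : IsConj zk sk := isConj_iff.2 ⟨⟨k, hk⟩, Subtype.ext (hke.trans h)⟩
      exact ⟨h'.trans hrs.symm, h'⟩
  have hnbz : ¬ IsConj bk zk := by
    intro h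
    obtain ⟨⟨k, hk⟩, he⟩ := isConj_iff.1 h
    have he' : k * μ bb * k⁻¹ = μ zeta := congrArg Subtype.val he
    have hkw : k * w * k⁻¹ = w := mul_inv_eq_iff_eq_mul.2 ((hK k).1 (Subgroup.mem_inf.1 hk).1)
    have : IsConj (μ (tau * zeta * bb)) (μ tau) := isConj_iff.2 ⟨k, by
      rw [map_mul, ← hw]
      calc k * (w * μ bb) * k⁻¹ = (k * w * k⁻¹) * (k * μ bb * k⁻¹) := by group
        _ = μ tau := by rw [hkw, he', hw, ← map_mul, mul_assoc, model_facts.2.2.2.1, mul_one]⟩
    exact d.not_conj_tw (this.symm.trans (conj_of_isW μ pairs_facts.1).symm)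
  -- 2-subgroups of `K0` have order at most 8
  have h8 : ∀ P : Subgroup G, P ≤ H → IsPGroup 2 P → Nat.card P ≤ 8 := by
    intro P hPH hP
    haveI := Subgroup.normal_of_index_eq_two hH
    obtain ⟨S, hS⟩ := hP.exists_le_sylow
    by_contra hlt
    obtain ⟨j, hj⟩ := hP.exists_card_eq
    have hle := Subgroup.card_le_of_le hS
    have hS16 : Nat.card (S : Subgroup G) = 16 := by rw [Nat.card_congr (S.equiv T).toEquiv, d.card_T]
    have hj4 : j = 4 := by
      rw [hj] at hlt hle
      rw [hS16] at hle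
      have h3 : 3 < j := by
        by_contra h
        have := Nat.pow_le_pow_right (show 0 < 2 by norm_num) (show j ≤ 3 by omega)
        omega
      have h5 : j < 5 := by
        by_contra h
        have := Nat.pow_le_pow_right (show 0 < 2 by norm_num) (show 5 ≤ j by omega)
        omega
      omega
    have hPS : P = (S : Subgroup G) := Subgroup.eq_of_le_of_card_ge hS (by rw [hS16, hj, hj4]; norm_num)
    obtain ⟨c, hc⟩ := MulAction.exists_smul_eq G S T
    have ht : μ tau ∈ T := d.mem_T_of (tau_central zeta)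
    rw [← hc] at ht
    obtain ⟨s, hs, hse⟩ := ht
    apply htH
    rw [← hse]
    exact (inferInstance : H.Normal).conj_mem s (hPH (hPS ▸ hs)) c
  -- the Sylow subgroup of `K0`
  let MT : Subgroup K0 := (T : Subgroup G).subgroupOf K0
  have hMTmem : ∀ k : K0, k ∈ MT ↔ ∃ m : M2, m * zeta = zeta * m ∧ InKer m ∧ μ m = k := by
    intro k
    rw [Subgroup.mem_subgroupOf]
    constructor
    · intro hk
      obtain ⟨m, hm, he⟩ := (d.mem_T _).1 hk
      exact ⟨m, hm, (hmemH m).1 (he ▸ (Subgroup.mem_inf.1 k.2).2), he⟩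
    · rintro ⟨m, hm, -, he⟩
      rw [← he]; exact d.mem_T_of hm
  have hMT8 : Nat.card MT = 8 := by
    rw [← card_T_ker, ← Nat.card_eq_finsetCard]
    refine (Nat.card_congr (Equiv.ofBijective (fun m => (⟨⟨μ m.1, hK0m _ (Finset.mem_filter.1 m.2).2.1
      (Finset.mem_filter.1 m.2).2.2⟩, (hMTmem _).2 ⟨m.1, (Finset.mem_filter.1 m.2).2.1,
        (Finset.mem_filter.1 m.2).2.2, rfl⟩⟩ : MT)) ⟨?_, ?_⟩)).symm
    · intro a b h
      exact Subtype.ext (d.inj (congrArg (fun x : MT => ((x : K0) : G)) h))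
    · rintro ⟨k, hk⟩
      obtain ⟨m, hm, hm', he⟩ := (hMTmem k).1 hk
      exact ⟨⟨m, Finset.mem_filter.2 ⟨Finset.mem_univ _, hm, hm'⟩⟩, Subtype.ext (Subtype.ext he)⟩
  have h8' : ∀ P : Subgroup K0, IsPGroup 2 P → Nat.card P ≤ 8 := fun P hP => by
    rw [← Subgroup.card_map_of_injective K0.subtype_injective]
    exact h8 _ ((Subgroup.map_subtype_le P).trans inf_le_right) (hP.map _)
  have hMTp : IsPGroup 2 MT := IsPGroup.of_card (n := 3) hMT8
  obtain ⟨SM, hSM⟩ := hMTp.exists_le_sylow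
  have hSM' : (SM : Subgroup K0) = MT :=
    (Subgroup.eq_of_le_of_card_ge hSM (by rw [hMT8]; exact h8' _ SM.isPGroup')).symm
  have hconjM : ∀ P : Subgroup K0, IsPGroup 2 P → ∃ c : K0, ∀ x ∈ P, c * x * c⁻¹ ∈ MT := by
    intro P hP
    obtain ⟨S, hS⟩ := hP.exists_le_sylow
    obtain ⟨c, hc⟩ := MulAction.exists_smul_eq K0 S SM
    refine ⟨c, fun x hx => ?_⟩
    rw [← hSM', ← hc]
    exact ⟨x, hS hx, rfl⟩
  have hcl0 : ∀ k : K0, orderOf k = 2 → IsConj bk k ∨ IsConj zk k := by
    intro k hk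
    obtain ⟨c, hc⟩ := hconjM (Subgroup.zpowers k) (IsPGroup.of_card (n := 1) (by rw [Nat.card_zpowers, hk, pow_one]))
    obtain ⟨m, hm, hm', he⟩ := (hMTmem _).1 (hc k (Subgroup.mem_zpowers k))
    have hord : orderOf (μ m) = 2 := by
      rw [he, Subgroup.orderOf_coe, CfsgLib.Small.orderOf_conj_eq, hk]
    have hm2 : m * m = 1 := by
      rw [orderOf_injective μ d.inj] at hord
      have h := pow_orderOf_eq_one m
      rwa [hord, pow_two] at h
    have hm1 : m ≠ 1 := fun e => by rw [e, map_one, orderOf_one] at hord; omega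
    have hkc : ∀ y : K0, (y : G) = μ m → IsConj y k := fun y hy =>
      (isConj_iff.2 ⟨c, (Subtype.ext (hy.trans he)).symm⟩ : IsConj k y).symm
    rcases T_ker m hm hm' hm2 hm1 with rfl | rfl | rfl | rfl | rfl
    · exact Or.inr (hkc zk rfl)
    · exact Or.inr (hzr.1.trans (hkc rk rfl))
    · exact Or.inr (hzr.2.trans (hkc sk rfl))
    · exact Or.inl (hkc bk rfl)
    · exact Or.inl (hbbz.trans (hkc bzk rfl))
  have hkord : ∀ (m : M2) (h : μ m ∈ K0), m * m = 1 → m ≠ 1 → orderOf (⟨μ m, h⟩ : K0) = 2 :=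
    fun m h h2 h1 => by rw [← Subgroup.orderOf_coe]; exact d.ord h2 h1
  have hbord : orderOf bk = 2 := hkord bb hb0 model_facts.2.2.2.2.1 model_facts.2.2.2.2.2.2.2.2.2.2.2.1
  have hzord : orderOf zk = 2 := hkord zeta hz0 model_facts.2.2.2.1 model_facts.2.2.2.2.2.2.2.2.1
  -- centralizer of `zeta`
  have hCz : Subgroup.centralizer ({zk} : Set K0) = MT := by
    ext k
    rw [Subgroup.mem_centralizer_iff, Subgroup.mem_subgroupOf]
    constructor
    · intro h
      exact d.cent_zeta _ (congrArg Subtype.val (h zk rfl)).symm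
    · rintro hk _ rfl
      obtain ⟨m, hm, he⟩ := (d.mem_T _).1 hk
      apply Subtype.ext
      change μ zeta * (k : G) = k * μ zeta
      rw [← he, ← map_mul, ← map_mul, hm]
  -- centralizer of `bb`
  have hbzeta : IsConj (μ zeta) (μ bb) := d.conj_of_isZ hta distinct.2.2.2.2.2.2.1
  let X : Subgroup K0 := Subgroup.centralizer ({bk} : Set K0)
  have hXp : IsPGroup 2 X := by
    obtain ⟨c, hc⟩ := isConj_iff.1 hbzeta
    intro x
    have hx : ((x : K0) : G) * μ bb = μ bb * ((x : K0) : G) :=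
      (congrArg Subtype.val (Subgroup.mem_centralizer_iff.1 x.2 bk rfl)).symm
    have hT' : c⁻¹ * ((x : K0) : G) * c ∈ T := d.cent_zeta _ (by
      rw [← hc] at hx
      calc c⁻¹ * ((x : K0) : G) * c * μ zeta = c⁻¹ * (((x : K0) : G) * (c * μ zeta * c⁻¹)) * c := by group
        _ = μ zeta * (c⁻¹ * ((x : K0) : G) * c) := by rw [hx]; group)
    obtain ⟨j, hj⟩ := T.isPGroup' ⟨_, hT'⟩
    refine ⟨j, Subtype.ext (Subtype.ext ?_)⟩
    have hj' : (c⁻¹ * ((x : K0) : G) * c) ^ 2 ^ j = 1 := congrArg Subtype.val hj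
    rw [show c⁻¹ * ((x : K0) : G) * c = c⁻¹ * ((x : K0) : G) * c⁻¹⁻¹ by rw [inv_inv], conj_pow,
      conj_eq_one_iff] at hj'
    exact hj'
  have hzX : zk ∈ X := Subgroup.mem_centralizer_iff.2 (by
    rintro _ rfl
    apply Subtype.ext
    change μ bb * μ zeta = μ zeta * μ bb
    rw [← map_mul, ← map_mul, commute_five.2.2.2.1])
  have hbX : bk ∈ X := Subgroup.mem_centralizer_iff.2 (by rintro _ rfl; rfl)
  have hbz_eq : bk * zk = bzk := Subtype.ext (map_mul μ bb zeta).symm
  have hfour : ({1, bk, zk, bzk} : Finset K0).card = 4 := by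
    have hne : ∀ a b : M2, ∀ ha : μ a ∈ K0, ∀ hb : μ b ∈ K0, a ≠ b → (⟨μ a, ha⟩ : K0) ≠ ⟨μ b, hb⟩ :=
      fun a b ha hb h e => h (d.inj (congrArg Subtype.val e))
    have hnd := distinct_five
    simp only [List.nodup_cons, List.mem_cons, List.not_mem_nil, or_false, not_or] at hnd
    have h1 : ∀ a : M2, ∀ ha : μ a ∈ K0, a ≠ 1 → (1 : K0) ≠ ⟨μ a, ha⟩ := fun a ha h e =>
      h (d.inj ((congrArg Subtype.val e).symm.trans (map_one μ).symm))
    rw [Finset.card_insert_of_notMem, Finset.card_insert_of_notMem, Finset.card_pair]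
    · exact hne _ _ _ _ hnd.1.2.2.2.1
    · simp only [Finset.mem_insert, Finset.mem_singleton, not_or]
      exact ⟨hne _ _ _ _ (Ne.symm hnd.1.2.2.1), hne _ _ _ _ hnd.2.2.2.1.1⟩
    · simp only [Finset.mem_insert, Finset.mem_singleton, not_or]
      exact ⟨h1 _ _ hnd.2.2.2.1.2, h1 _ _ hnd.1.2.2.2.2, h1 _ _ hnd.2.2.2.2.1⟩
  have hX4 : Nat.card X = 4 ∧ ∀ x ∈ X, x = 1 ∨ x = bk ∨ x = zk ∨ x = bzk := by
    haveI : Fintype X := Fintype.ofFinite _
    have hsub : ({1, bk, zk, bzk} : Finset K0) ⊆ (X : Set K0).toFinset := by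
      intro x hx
      simp only [Finset.mem_insert, Finset.mem_singleton] at hx
      rw [Set.mem_toFinset]
      rcases hx with rfl | rfl | rfl | rfl
      exacts [one_mem X, hbX, hzX, hbz_eq ▸ mul_mem hbX hzX]
    have hXc : (X : Set K0).toFinset.card = Nat.card X := by
      rw [Set.toFinset_card, Nat.card_eq_fintype_card]; rfl
    have hge := Finset.card_le_card hsub
    rw [hfour, hXc] at hge
    have hle : Nat.card X ≤ 4 := by
      by_contra hgt
      obtain ⟨j, hj⟩ := hXp.exists_card_eq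
      have h8X := h8' X hXp
      have hj3 : j = 3 := by
        rw [hj] at hgt h8X
        have h2 : 2 < j := by
          by_contra h
          have := Nat.pow_le_pow_right (show 0 < 2 by norm_num) (show j ≤ 2 by omega)
          omega
        have h4 : j < 4 := by
          by_contra h
          have := Nat.pow_le_pow_right (show 0 < 2 by norm_num) (show 4 ≤ j by omega)
          omega
        omega
      obtain ⟨c, hc⟩ := hconjM X hXp
      have hmapc : X.map (MulAut.conj c).toMonoidHom = MT := by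
        refine Subgroup.eq_of_le_of_card_ge (by rintro _ ⟨x, hx, rfl⟩; exact hc x hx) ?_
        rw [Subgroup.card_map_of_injective (MulAut.conj c).injective, hj, hj3, hMT8]; norm_num
      obtain ⟨m, hm, hm', he⟩ := (hMTmem _).1 (hc bk hbX)
      have hmc : m = 1 ∨ m = zeta := by
        refine ker_center m hm hm' fun n hn hn' => ?_
        have hnM : (⟨μ n, hK0m n hn hn'⟩ : K0) ∈ X.map (MulAut.conj c).toMonoidHom :=
          hmapc ▸ (hMTmem _).2 ⟨n, hn, hn', rfl⟩
        obtain ⟨x, hx, hxe⟩ := hnM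
        have hxn : ((c * x * c⁻¹ : K0) : G) = μ n := congrArg Subtype.val hxe
        have hcomm : bk * x = x * bk := Subgroup.mem_centralizer_iff.1 hx bk rfl
        apply d.inj
        rw [map_mul, map_mul, he, ← hxn, ← Subgroup.coe_mul, ← Subgroup.coe_mul]
        congr 1
        calc c * bk * c⁻¹ * (c * x * c⁻¹) = c * (bk * x) * c⁻¹ := by group
          _ = c * x * c⁻¹ * (c * bk * c⁻¹) := by rw [hcomm]; group
      rcases hmc with rfl | rfl
      · have h1 : c * bk * c⁻¹ = 1 := Subtype.ext (by rw [← he, map_one]; rfl)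
        rw [conj_eq_one_iff] at h1
        rw [h1, orderOf_one] at hbord
        omega
      · exact hnbz (isConj_iff.2 ⟨c, Subtype.ext he.symm⟩)
    refine ⟨by omega, fun x hx => ?_⟩
    have := Finset.eq_of_subset_of_card_le hsub (by rw [hfour, hXc]; exact hle)
    have hxm : x ∈ ({1, bk, zk, bzk} : Finset K0) := this ▸ Set.mem_toFinset.2 hx
    simpa using hxm
  -- pairs for `bb`
  have hinv2 : ∀ y : K0, orderOf y = 2 → y * y = 1 := fun y h => by
    rw [← pow_two, ← h, pow_orderOf_eq_one]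
  have hordc : ∀ a y : K0, orderOf a = 2 → IsConj a y → orderOf y = 2 := by
    intro a y ha h
    obtain ⟨c, rfl⟩ := isConj_iff.1 h
    rw [CfsgLib.Small.orderOf_conj_eq, ha]
  have hclb : ∀ y : K0, y ∈ X → IsConj bk y → y = bk ∨ y = bzk := by
    intro y hy hc
    rcases hX4.2 y hy with rfl | rfl | rfl | rfl
    · have := hordc _ _ hbord hc; rw [orderOf_one] at this; omega
    · exact Or.inl rfl
    · exact absurd hc hnbz
    · exact Or.inr rfl
  have hclz : ∀ y : K0, y ∈ X → IsConj zk y → y = zk := by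
    intro y hy hc
    rcases hX4.2 y hy with rfl | rfl | rfl | rfl
    · have := hordc _ _ hzord hc; rw [orderOf_one] at this; omega
    · exact absurd hc.symm hnbz
    · rfl
    · exact absurd (hbbz.trans hc.symm) hnbz
  have hbzz : bzk * zk = bk := Subtype.ext (by
    change μ (bb * zeta) * μ zeta = μ bb
    rw [← map_mul, mul_assoc, model_facts.2.2.2.1, mul_one])
  have hFb : Nat.card {p : K0 × K0 // IsConj bk p.1 ∧ IsConj zk p.2 ∧ bk ∈ Subgroup.zpowers (p.1 * p.2)} = 1 := by
    rw [Nat.card_eq_one_iff_unique]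
    refine ⟨⟨?_⟩, ⟨⟨(bzk, zk), hbbz, IsConj.refl _, by rw [hbzz]; exact Subgroup.mem_zpowers _⟩⟩⟩
    suffices h : ∀ p : {p : K0 × K0 // IsConj bk p.1 ∧ IsConj zk p.2 ∧ bk ∈ Subgroup.zpowers (p.1 * p.2)},
        p.1 = (bzk, zk) from fun p q => Subtype.ext ((h p).trans (h q).symm)
    rintro ⟨⟨u, v⟩, hu, hv, hm⟩
    obtain ⟨hcu, hcv⟩ := invol_commute_of_mem_zpowers (hinv2 _ hbord) (hinv2 _ (hordc _ _ hbord hu))
      (hinv2 _ (hordc _ _ hzord hv)) hm
    have hv' : v = zk := hclz v (Subgroup.mem_centralizer_iff.2 (by rintro _ rfl; exact hcv.symm)) hv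
    subst hv'
    rcases hclb u (Subgroup.mem_centralizer_iff.2 (by rintro _ rfl; exact hcu.symm)) hu with rfl | rfl
    · exfalso
      dsimp only at hm
      rw [hbz_eq] at hm
      obtain ⟨i, hi⟩ := Subgroup.mem_zpowers_iff.1 hm
      have hbz2 : bzk * bzk = 1 := hinv2 _ (hordc _ _ hbord hbbz)
      rcases Int.even_or_odd' i with ⟨j, rfl | rfl⟩
      · rw [zpow_mul, zpow_two, hbz2, one_zpow] at hi
        rw [← hi, orderOf_one] at hbord
        omega
      · rw [zpow_add, zpow_mul, zpow_two, hbz2, one_zpow, one_mul, zpow_one, ← hbz_eq, mul_eq_left] at hi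
        rw [hi, orderOf_one] at hzord
        omega
    · rfl
  have hnd := distinct_five
  simp only [List.nodup_cons, List.mem_cons, List.not_mem_nil, or_false, not_or] at hnd
  have hFz : Nat.card {p : K0 × K0 // IsConj bk p.1 ∧ IsConj zk p.2 ∧ zk ∈ Subgroup.zpowers (p.1 * p.2)} = 4 := by
    have hset : ∀ p : K0 × K0, (IsConj bk p.1 ∧ IsConj zk p.2 ∧ zk ∈ Subgroup.zpowers (p.1 * p.2)) ↔
        p ∈ ({bk, bzk} : Finset K0) ×ˢ ({rk, sk} : Finset K0) := by
      rintro ⟨u, v⟩
      simp only [Finset.mem_product, Finset.mem_insert, Finset.mem_singleton]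
      constructor
      · rintro ⟨hu, hv, hm⟩
        have hou := hordc _ _ hbord hu
        have hov := hordc _ _ hzord hv
        obtain ⟨hcu, hcv⟩ := invol_commute_of_mem_zpowers (hinv2 _ hzord) (hinv2 _ hou) (hinv2 _ hov) hm
        have hmem : ∀ y : K0, y * zk = zk * y → orderOf y = 2 →
            y = zk ∨ y = rk ∨ y = sk ∨ y = bk ∨ y = bzk := by
          intro y hy hy2
          have hyM : y ∈ MT := hCz ▸ Subgroup.mem_centralizer_iff.2 (by rintro _ rfl; exact hy.symm)
          obtain ⟨m, hm, hm', he⟩ := (hMTmem y).1 hyM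
          have hm2 : m * m = 1 := d.inj (by
            rw [map_mul, he, map_one, ← Subgroup.coe_mul, hinv2 y hy2, Subgroup.coe_one])
          have hm1 : m ≠ 1 := fun e => by
            rw [e, map_one] at he
            rw [show y = 1 from Subtype.ext he.symm, orderOf_one] at hy2
            omega
          rcases T_ker m hm hm' hm2 hm1 with rfl | rfl | rfl | rfl | rfl
          · exact Or.inl (Subtype.ext he.symm)
          · exact Or.inr (Or.inl (Subtype.ext he.symm))
          · exact Or.inr (Or.inr (Or.inl (Subtype.ext he.symm)))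
          · exact Or.inr (Or.inr (Or.inr (Or.inl (Subtype.ext he.symm))))
          · exact Or.inr (Or.inr (Or.inr (Or.inr (Subtype.ext he.symm))))
        have hu' : u = bk ∨ u = bzk := by
          rcases hmem u hcu hou with rfl | rfl | rfl | rfl | rfl
          exacts [absurd hu hnbz, absurd (hu.trans hzr.1.symm) hnbz, absurd (hu.trans hzr.2.symm) hnbz,
            Or.inl rfl, Or.inr rfl]
        have hv' : v = rk ∨ v = sk := by
          rcases hmem v hcv hov with rfl | rfl | rfl | rfl | rfl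
          · exfalso
            obtain ⟨i, hi⟩ := Subgroup.mem_zpowers_iff.1 hm
            have huz2 : (u * zk) * (u * zk) = 1 := by
              rw [mul_assoc, ← mul_assoc zk u, ← hcu, mul_assoc u zk, hinv2 _ hzord, mul_one, hinv2 _ hou]
            rcases Int.even_or_odd' i with ⟨j, rfl | rfl⟩
            · rw [zpow_mul, zpow_two, huz2, one_zpow] at hi
              rw [← hi, orderOf_one] at hzord
              omega
            · rw [zpow_add, zpow_mul, zpow_two, huz2, one_zpow, one_mul, zpow_one, mul_eq_right] at hi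
              rw [hi, orderOf_one] at hou
              omega
          exacts [Or.inl rfl, Or.inr rfl, absurd hv.symm hnbz, absurd (hbbz.trans hv.symm) hnbz]
        exact ⟨hu', hv'⟩
      · have hp : ∀ (a b : M2) (y x : K0), (y : G) = μ a → (x : G) = μ b → (a * b) * (a * b) = zeta →
            zk ∈ Subgroup.zpowers (y * x) := by
          intro a b y x ha hb h
          rw [Subgroup.mem_zpowers_iff]
          refine ⟨2, Subtype.ext ?_⟩
          rw [zpow_two]
          push_cast
          rw [ha, hb, ← map_mul, ← map_mul, h]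
        rintro ⟨rfl | rfl, rfl | rfl⟩
        exacts [⟨IsConj.refl _, hzr.1, hp _ _ _ _ rfl rfl pairs_facts.2.2.2.2.2.2.2.2.1⟩,
          ⟨IsConj.refl _, hzr.2, hp _ _ _ _ rfl rfl pairs_facts.2.2.2.2.2.2.2.2.2.2.1⟩,
          ⟨hbbz, hzr.1, hp _ _ _ _ rfl rfl pairs_facts.2.2.2.2.2.2.2.2.2.1⟩,
          ⟨hbbz, hzr.2, hp _ _ _ _ rfl rfl pairs_facts.2.2.2.2.2.2.2.2.2.2.2⟩]
    rw [Nat.card_congr (Equiv.subtypeEquivRight hset), Nat.card_eq_finsetCard, Finset.card_product,
      Finset.card_pair, Finset.card_pair]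
    · exact fun e => hnd.2.1.1 (d.inj (congrArg Subtype.val e))
    · exact fun e => hnd.2.2.2.1.1 (d.inj (congrArg Subtype.val e))
  have hK0 : Nat.card K0 = 24 := by
    have := CfsgLib.Small.thompson_order bk zk hbord hzord hnbz hcl0
    rw [this, hCz, hMT8, hFb, show Nat.card (Subgroup.centralizer ({bk} : Set K0)) = 4 from hX4.1, hFz]
  -- the class of `zeta` in `K0`
  have hzclass : ∀ y : K0, IsConj zk y → y = zk ∨ y = rk ∨ y = sk := by
    haveI : Fintype K0 := Fintype.ofFinite _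
    have h3 := CfsgLib.Small.card_conjugates_mul_card_centralizer (G := K0) zk
    rw [hCz, hMT8, hK0] at h3
    let Cl : Finset K0 := Finset.univ.filter fun y => IsConj zk y
    have hsub : ({zk, rk, sk} : Finset K0) ⊆ Cl := by
      intro y hy
      simp only [Finset.mem_insert, Finset.mem_singleton] at hy
      rcases hy with rfl | rfl | rfl
      exacts [Finset.mem_filter.2 ⟨Finset.mem_univ _, IsConj.refl _⟩,
        Finset.mem_filter.2 ⟨Finset.mem_univ _, hzr.1⟩, Finset.mem_filter.2 ⟨Finset.mem_univ _, hzr.2⟩]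
    have hc3 : ({zk, rk, sk} : Finset K0).card = 3 := by
      rw [Finset.card_insert_of_notMem, Finset.card_pair]
      · exact fun e => hnd.2.1.1 (d.inj (congrArg Subtype.val e))
      · simp only [Finset.mem_insert, Finset.mem_singleton, not_or]
        exact ⟨fun e => hnd.1.1 (d.inj (congrArg Subtype.val e)), fun e => hnd.1.2.1 (d.inj (congrArg Subtype.val e))⟩
    have heq : ({zk, rk, sk} : Finset K0) = Cl := Finset.eq_of_subset_of_card_le hsub (by
      rw [hc3]
      have : Cl.card = Nat.card {y : K0 // IsConj zk y} := by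
        rw [Nat.card_eq_fintype_card, Fintype.card_subtype]
      omega)
    intro y hy
    have : y ∈ ({zk, rk, sk} : Finset K0) := heq ▸ Finset.mem_filter.2 ⟨Finset.mem_univ _, hy⟩
    simpa using this
  constructor
  · -- order of `K`
    change Nat.card K = 48
    have hKw : w ∈ K := (hK w).2 rfl
    let f : Bool × K0 → K := fun p =>
      ⟨(bif p.1 then w else 1) * p.2, mul_mem (by cases p.1; exacts [one_mem K, hKw]) (Subgroup.mem_inf.1 p.2.2).1⟩
    have hf : Function.Bijective f := by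
      constructor
      · rintro ⟨b, x⟩ ⟨b', y⟩ h
        have h' : (bif b then w else 1) * (x : G) = (bif b' then w else 1) * (y : G) := congrArg Subtype.val h
        have hxH := (Subgroup.mem_inf.1 x.2).2
        have hyH := (Subgroup.mem_inf.1 y.2).2
        cases b <;> cases b' <;> simp only [cond_true, cond_false, one_mul] at h'
        · exact Prod.ext rfl (Subtype.ext h')
        · rw [h'] at hxH; exact absurd (((hmul _ _).1 hxH).2 hyH) hwH
        · rw [← h'] at hyH; exact absurd (((hmul _ _).1 hyH).2 hxH) hwH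
        · exact Prod.ext rfl (Subtype.ext (mul_left_cancel h'))
      · rintro ⟨k, hk⟩
        by_cases hkH : k ∈ H
        · exact ⟨(false, ⟨k, Subgroup.mem_inf.2 ⟨hk, hkH⟩⟩), Subtype.ext (one_mul k)⟩
        · exact ⟨(true, ⟨w * k, Subgroup.mem_inf.2 ⟨mul_mem hKw hk, (hmul w k).2 (iff_of_false hwH hkH)⟩⟩),
            Subtype.ext (by change w * (w * k) = k; rw [← mul_assoc, hw2, one_mul])⟩
    rw [← Nat.card_congr (Equiv.ofBijective f hf), Nat.card_prod, hK0, Nat.card_eq_fintype_card,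
      Fintype.card_bool]
  · -- pairs at `w`
    have hwt : w * μ zeta = μ tau := by
      rw [hw, ← map_mul, mul_assoc, model_facts.2.2.2.1, mul_one]
    have hset : ∀ p : G × G, (IsConj (μ tau) p.1 ∧ IsConj (μ zeta) p.2 ∧ w ∈ Subgroup.zpowers (p.1 * p.2)) ↔
        ∃ v : K0, IsConj zk v ∧ p = (w * (v : G), (v : G)) := by
      rintro ⟨u, v⟩
      constructor
      · rintro ⟨hu, hv, hm⟩
        dsimp only at hu hv hm
        have hsq : ∀ a b : G, a * a = 1 → IsConj a b → b * b = 1 := by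
          intro a b ha h
          obtain ⟨c, rfl⟩ := isConj_iff.1 h
          rw [show c * a * c⁻¹ * (c * a * c⁻¹) = c * (a * a) * c⁻¹ by group, ha, mul_one, mul_inv_cancel]
        obtain ⟨hcu, hcv⟩ := invol_commute_of_mem_zpowers hw2 (hsq _ _ (sq_map μ tau_ne.2) hu)
          (hsq _ _ (sq_map μ model_facts.2.2.2.1) hv) hm
        have huH : u ∉ H := by
          obtain ⟨c, rfl⟩ := isConj_iff.1 hu
          haveI := Subgroup.normal_of_index_eq_two hH
          intro h
          have := (inferInstance : H.Normal).conj_mem _ h c⁻¹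
          rw [show c⁻¹ * (c * μ tau * c⁻¹) * c⁻¹⁻¹ = μ tau by group] at this
          exact htH this
        let y : K0 := ⟨w * u, Subgroup.mem_inf.2
          ⟨mul_mem ((hK w).2 rfl) ((hK u).2 hcu), (hmul w u).2 (iff_of_false hwH huH)⟩⟩
        let v' : K0 := ⟨v, Subgroup.mem_inf.2 ⟨(hK v).2 hcv, hclH v hv⟩⟩
        have huy : u = w * (y : G) := by change u = w * (w * u); rw [← mul_assoc, hw2, one_mul]
        have hy2 : y * y = 1 := Subtype.ext (by
          change w * u * (w * u) = 1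
          rw [mul_assoc, ← mul_assoc u, hcu, mul_assoc w u, hsq _ _ (sq_map μ tau_ne.2) hu, mul_one, hw2])
        have hy1 : y ≠ 1 := fun e => by
          have : u = w := by rw [huy, e]; exact mul_one w
          rw [this] at hu
          exact d.not_conj_tw hu
        have hyord : orderOf y = 2 := orderOf_eq_prime (by rw [pow_two]; exact hy2) hy1
        have hvord : orderOf v' = 2 := by
          obtain ⟨c, hc⟩ := isConj_iff.1 hv
          rw [← Subgroup.orderOf_coe]
          change orderOf v = 2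
          rw [← hc, CfsgLib.Small.orderOf_conj_eq]
          exact d.ord model_facts.2.2.2.1 model_facts.2.2.2.2.2.2.2.2.1
        have hodd : Odd (orderOf (y * v')) := by
          obtain ⟨i, hi⟩ := Subgroup.mem_zpowers_iff.1 hm
          have hcomm : Commute w ((y * v' : K0) : G) :=
            ((hK _).1 (Subgroup.mem_inf.1 (y * v').2).1).symm
          rw [huy, show w * (y : G) * v = w * ((y * v' : K0) : G) by rw [mul_assoc]; rfl,
            hcomm.mul_zpow] at hi
          rcases Int.even_or_odd' i with ⟨j, rfl | rfl⟩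
          · exfalso
            rw [zpow_mul w, zpow_two, hw2, one_zpow, one_mul, ← Subgroup.coe_zpow] at hi
            exact hwH (hi ▸ (Subgroup.mem_inf.1 ((y * v') ^ (2 * j)).2).2)
          · rw [zpow_add w, zpow_mul w, zpow_two, hw2, one_zpow, one_mul, zpow_one, mul_eq_left,
              ← Subgroup.coe_zpow] at hi
            have hdvd := orderOf_dvd_iff_zpow_eq_one.2 (Subtype.ext hi : (y * v') ^ (2 * j + 1) = 1)
            rw [Nat.odd_iff, ← Nat.two_dvd_ne_zero]
            intro h2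
            have : (2 : ℤ) ∣ 2 * j + 1 := (Int.natCast_dvd_natCast.2 h2).trans hdvd
            omega
        obtain ⟨i, hi⟩ := CfsgLib.Small.conj_pow_eq_of_odd hyord hvord hodd
        have hyv : IsConj y v' := isConj_iff.2 ⟨_, hi⟩
        have hzy : IsConj zk y := by
          refine (hcl0 y hyord).resolve_left fun hby => ?_
          obtain ⟨c, hc⟩ := isConj_iff.1 hby
          have hcy : (c : G) * μ bb * (c : G)⁻¹ = y := congrArg Subtype.val hc
          have hcw : (c : G) * w * (c : G)⁻¹ = w :=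
            mul_inv_eq_iff_eq_mul.2 ((hK _).1 (Subgroup.mem_inf.1 c.2).1)
          have : IsConj (μ (tau * zeta * bb)) u := isConj_iff.2 ⟨c, by
            rw [map_mul, ← hw, huy]
            calc (c : G) * (w * μ bb) * (c : G)⁻¹ = (c : G) * w * (c : G)⁻¹ * ((c : G) * μ bb * (c : G)⁻¹) := by group
              _ = w * y := by rw [hcw, hcy]⟩
          exact d.not_conj_tw (hu.trans ((conj_of_isW μ pairs_facts.1).trans this).symm)
        have hzv : IsConj zk v' := hzy.trans hyv
        have hcom : y * v' = v' * y := by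
          have hc : ∀ a b : M2, a * b = b * a → μ a * μ b = μ b * μ a := fun a b h => by
            rw [← map_mul, ← map_mul, h]
          have hcf := commute_five
          rcases hzclass y hzy with e | e | e <;> rcases hzclass v' hzv with e' | e' | e' <;>
            rw [e, e'] <;> apply Subtype.ext <;>
            first
              | rfl
              | exact hc _ _ hcf.1
              | exact hc _ _ hcf.2.1
              | exact hc _ _ hcf.2.2.1
              | exact (hc _ _ hcf.1).symm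
              | exact (hc _ _ hcf.2.1).symm
              | exact (hc _ _ hcf.2.2.1).symm
        have hyeq : y = v' := by
          obtain ⟨j, hj⟩ := hodd
          have h := pow_orderOf_eq_one (y * v')
          rw [hj, pow_succ, pow_mul, pow_two, show y * v' * (y * v') = 1 by
            rw [mul_assoc, ← mul_assoc v', ← hcom, mul_assoc y v', hinv2 _ hvord, mul_one, hy2],
            one_pow, one_mul] at h
          rw [mul_eq_one_iff_eq_inv.1 h]
          exact inv_eq_of_mul_eq_one_right (hinv2 _ hvord)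
        refine ⟨v', hzv, ?_⟩
        rw [huy, hyeq]
      · rintro ⟨v', hv', he⟩
        obtain ⟨rfl, rfl⟩ := Prod.ext_iff.1 he
        obtain ⟨c, hc⟩ := isConj_iff.1 hv'
        have hcv : (c : G) * μ zeta * (c : G)⁻¹ = v' := congrArg Subtype.val hc
        have hcw : (c : G) * w * (c : G)⁻¹ = w :=
          mul_inv_eq_iff_eq_mul.2 ((hK _).1 (Subgroup.mem_inf.1 c.2).1)
        refine ⟨isConj_iff.2 ⟨c, ?_⟩, isConj_iff.2 ⟨c, hcv⟩, ?_⟩
        · change (c : G) * μ tau * (c : G)⁻¹ = w * v'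
          rw [← hwt]
          calc (c : G) * (w * μ zeta) * (c : G)⁻¹ = (c : G) * w * (c : G)⁻¹ * ((c : G) * μ zeta * (c : G)⁻¹) := by group
            _ = w * v' := by rw [hcw, hcv]
        · dsimp only
          rw [mul_assoc, ← Subgroup.coe_mul, hinv2 _ (hordc _ _ hzord hv'), Subgroup.coe_one, mul_one]
          exact Subgroup.mem_zpowers w
    let φ : {v : K0 // IsConj zk v} → {p : G × G // IsConj (μ tau) p.1 ∧ IsConj (μ zeta) p.2 ∧ w ∈ Subgroup.zpowers (p.1 * p.2)} :=
      fun v => ⟨(w * (v.1 : G), (v.1 : G)), (hset _).2 ⟨v.1, v.2, rfl⟩⟩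
    have hφ : Function.Bijective φ := by
      constructor
      · intro a b h
        exact Subtype.ext (Subtype.ext (congrArg (fun p : {p : G × G // _} => p.1.2) h))
      · rintro ⟨p, hp⟩
        obtain ⟨v, hv, rfl⟩ := (hset p).1 hp
        exact ⟨⟨v, hv⟩, rfl⟩
    rw [← Nat.card_congr (Equiv.ofBijective φ hφ)]
    have h3 := CfsgLib.Small.card_conjugates_mul_card_centralizer (G := K0) zk
    rw [hCz, hMT8, hK0] at h3
    omega

end SixData

end CfsgLib.Inv53
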