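import Cfsg.Agent.Inv53.SymSixFusion

/-!
# Recognition of `S₆` by the centralizer `C₂ × S₄` of a central involution
-/

set_option autoImplicit false
set_option linter.style.haveILetI false
set_option linter.unusedSectionVars false
set_option maxRecDepth 20000

namespace CfsgLib.Inv53

open ZTwoSFour

variable {G : Type*} [Group G] [Finite G]

namespace SixData

variable {μ : M2 →* G} {T : Sylow 2 G}

theorem zpowers_model (d : SixData μ T) (m c : M2) :
    μ c ∈ Subgroup.zpowers (μ m) ↔ ∃ j : Fin 12, m ^ (j : ℕ) = c := by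
  constructor
  · intro h
    obtain ⟨i, hi⟩ := Subgroup.mem_zpowers_iff.1 h
    refine ⟨⟨(i % 12).toNat, by omega⟩, d.inj ?_⟩
    rw [← hi, map_pow, ← zpow_natCast, Int.toNat_of_nonneg (Int.emod_nonneg i (by norm_num))]
    conv_rhs => rw [← Int.emod_add_mul_ediv i 12]
    rw [zpow_add, zpow_mul, show (μ m) ^ (12 : ℤ) = 1 by
      rw [show (12 : ℤ) = ((12 : ℕ) : ℤ) from rfl, zpow_natCast, ← map_pow, pow_bound, map_one],
      _root_.one_zpow, mul_one]
  · rintro ⟨j, rfl⟩
    rw [map_pow]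
    exact Subgroup.npow_mem_zpowers _ _

theorem sq_of_conj {a b : G} (ha : a * a = 1) (h : IsConj a b) : b * b = 1 := by
  obtain ⟨c, rfl⟩ := isConj_iff.1 h
  rw [show c * a * c⁻¹ * (c * a * c⁻¹) = c * (a * a) * c⁻¹ by group, ha, mul_one, mul_inv_cancel]

theorem ne_one_of_conj {a b : G} (ha : a ≠ 1) (h : IsConj a b) : b ≠ 1 := by
  obtain ⟨c, rfl⟩ := isConj_iff.1 h
  exact fun e => ha (conj_eq_one_iff.1 e)

theorem centralizer_tau_card (d : SixData μ T) :
    Nat.card (Subgroup.centralizer ({μ tau} : Set G)) = 48 := by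
  have hmem : ∀ m : M2, μ m ∈ Subgroup.centralizer ({μ tau} : Set G) := fun m =>
    Subgroup.mem_centralizer_iff.2 (by rintro _ rfl; rw [← map_mul, ← map_mul, tau_central])
  rw [← card_M2]
  refine (Nat.card_congr (Equiv.ofBijective (fun m => (⟨μ m, hmem m⟩ : Subgroup.centralizer ({μ tau} : Set G))) ⟨?_, ?_⟩)).symm
  · exact fun a b h => d.inj (congrArg Subtype.val h)
  · rintro ⟨g, hg⟩
    obtain ⟨m, hm⟩ := d.cent_tau g (Subgroup.mem_centralizer_iff.1 hg _ rfl).symm
    exact ⟨m, Subtype.ext hm⟩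

theorem centralizer_zeta_card (d : SixData μ T) :
    Nat.card (Subgroup.centralizer ({μ zeta} : Set G)) = 16 := by
  rw [← d.card_T]
  congr 1
  congr 1
  ext g
  rw [Subgroup.mem_centralizer_iff]
  constructor
  · exact fun h => d.cent_zeta g (h _ rfl).symm
  · intro hg
    obtain ⟨m, hm, rfl⟩ := (d.mem_T g).1 hg
    rintro _ rfl
    rw [← map_mul, ← map_mul, hm]

theorem pairs_tau (d : SixData μ T) (hta : IsConj (μ tau) (μ aa)) :
    Nat.card {p : G × G // IsConj (μ tau) p.1 ∧ IsConj (μ zeta) p.2 ∧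
      μ tau ∈ Subgroup.zpowers (p.1 * p.2)} = 30 := by
  classical
  rw [← count_tau, ← Nat.card_eq_finsetCard]
  refine (Nat.card_congr (Equiv.ofBijective (fun q => (⟨(μ q.1.1, μ q.1.2), ?_⟩ :
    {p : G × G // IsConj (μ tau) p.1 ∧ IsConj (μ zeta) p.2 ∧ μ tau ∈ Subgroup.zpowers (p.1 * p.2)}))
    ⟨?_, ?_⟩)).symm
  · obtain ⟨-, h1, h2, j, hj⟩ := Finset.mem_filter.1 q.2
    refine ⟨conj_of_isT hta h1, d.conj_of_isZ hta h2, ?_⟩
    rw [← map_mul, d.zpowers_model]
    exact ⟨⟨j, by omega⟩, hj⟩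
  · intro a b h
    have h' := congrArg Subtype.val h
    exact Subtype.ext (Prod.ext (d.inj (congrArg Prod.fst h')) (d.inj (congrArg Prod.snd h')))
  · rintro ⟨⟨u, v⟩, hu, hv, hm⟩
    have hu2 := sq_of_conj (sq_map μ tau_ne.2) hu
    have hv2 := sq_of_conj (sq_map μ model_facts.2.2.2.1) hv
    obtain ⟨hcu, hcv⟩ := invol_commute_of_mem_zpowers (sq_map μ tau_ne.2) hu2 hv2 hm
    obtain ⟨a, rfl⟩ := d.cent_tau u hcu
    obtain ⟨b, rfl⟩ := d.cent_tau v hcv
    have ha2 : a * a = 1 := d.inj (by rw [map_mul, hu2, map_one])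
    have hb2 : b * b = 1 := d.inj (by rw [map_mul, hv2, map_one])
    have ht1 : μ tau ≠ 1 := fun e => tau_ne.1 (d.inj (e.trans (map_one μ).symm))
    have hz1 : μ zeta ≠ 1 := fun e => model_facts.2.2.2.2.2.2.2.2.1 (d.inj (e.trans (map_one μ).symm))
    have ha1 : a ≠ 1 := fun e => ne_one_of_conj ht1 hu (by rw [e, map_one])
    have hb1 : b ≠ 1 := fun e => ne_one_of_conj hz1 hv (by rw [e, map_one])
    dsimp only at hm
    rw [← map_mul, d.zpowers_model] at hm
    obtain ⟨j, hj⟩ := hm
    exact ⟨⟨(a, b), Finset.mem_filter.2 ⟨Finset.mem_univ _, (d.isT_iff hta ha2 ha1).1 hu,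
      (d.isZ_iff hta hb2 hb1).1 hv, pow_six _ j hj⟩⟩, rfl⟩

theorem pairs_zeta (d : SixData μ T) (hta : IsConj (μ tau) (μ aa)) :
    Nat.card {p : G × G // IsConj (μ tau) p.1 ∧ IsConj (μ zeta) p.2 ∧
      μ zeta ∈ Subgroup.zpowers (p.1 * p.2)} = 4 := by
  classical
  refine Eq.trans ?_ count_zeta
  rw [← Nat.card_eq_finsetCard]
  refine (Nat.card_congr (Equiv.ofBijective (fun q => (⟨(μ q.1.1, μ q.1.2), ?_⟩ :
    {p : G × G // IsConj (μ tau) p.1 ∧ IsConj (μ zeta) p.2 ∧ μ zeta ∈ Subgroup.zpowers (p.1 * p.2)}))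
    ⟨?_, ?_⟩)).symm
  · obtain ⟨-, h1, h2, j, hj⟩ := Finset.mem_filter.1 q.2
    refine ⟨conj_of_isT hta h1.1, d.conj_of_isZ hta h2.1, ?_⟩
    rw [← map_mul, d.zpowers_model]
    exact ⟨⟨j, by omega⟩, hj⟩
  · intro a b h
    have h' := congrArg Subtype.val h
    exact Subtype.ext (Prod.ext (d.inj (congrArg Prod.fst h')) (d.inj (congrArg Prod.snd h')))
  · rintro ⟨⟨u, v⟩, hu, hv, hm⟩
    have hu2 := sq_of_conj (sq_map μ tau_ne.2) hu
    have hv2 := sq_of_conj (sq_map μ model_facts.2.2.2.1) hv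
    obtain ⟨hcu, hcv⟩ := invol_commute_of_mem_zpowers (sq_map μ model_facts.2.2.2.1) hu2 hv2 hm
    obtain ⟨a, ha, rfl⟩ := (d.mem_T u).1 (d.cent_zeta u hcu)
    obtain ⟨b, hb, rfl⟩ := (d.mem_T v).1 (d.cent_zeta v hcv)
    have ha2 : a * a = 1 := d.inj (by rw [map_mul, hu2, map_one])
    have hb2 : b * b = 1 := d.inj (by rw [map_mul, hv2, map_one])
    have ht1 : μ tau ≠ 1 := fun e => tau_ne.1 (d.inj (e.trans (map_one μ).symm))
    have hz1 : μ zeta ≠ 1 := fun e => model_facts.2.2.2.2.2.2.2.2.1 (d.inj (e.trans (map_one μ).symm))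
    have ha1 : a ≠ 1 := fun e => ne_one_of_conj ht1 hu (by rw [e, map_one])
    have hb1 : b ≠ 1 := fun e => ne_one_of_conj hz1 hv (by rw [e, map_one])
    dsimp only at hm
    rw [← map_mul, d.zpowers_model] at hm
    obtain ⟨j, hj⟩ := hm
    refine ⟨⟨(a, b), Finset.mem_filter.2 ⟨Finset.mem_univ _, ⟨(d.isT_iff hta ha2 ha1).1 hu, ha⟩,
      ⟨(d.isZ_iff hta hb2 hb1).1 hv, hb⟩, ⟨(j : ℕ) % 4, Nat.mod_lt _ (by norm_num)⟩, ?_⟩⟩, rfl⟩
    have hab : (a * b) * zeta = zeta * (a * b) := by rw [mul_assoc, hb, ← mul_assoc, ha, mul_assoc]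
    change (a * b) ^ ((j : ℕ) % 4) = zeta
    rw [← hj]
    conv_rhs => rw [← Nat.mod_add_div (j : ℕ) 4, pow_add, pow_mul, pow_T _ hab, one_pow, mul_one]

theorem card_eq (d : SixData μ T) (hta : IsConj (μ tau) (μ aa)) : Nat.card G = 720 := by
  have hw2 : orderOf (μ (tau * zeta)) = 2 :=
    d.ord model_facts.2.2.2.2.2.2.2.2.2.2.1 model_facts.2.2.2.2.2.2.2.2.2.1
  have h := thompson_three (μ tau) (μ zeta) (μ (tau * zeta)) (d.ord tau_ne.2 tau_ne.1)
    (d.ord model_facts.2.2.2.1 model_facts.2.2.2.2.2.2.2.2.1) hw2 d.not_conj_tz d.not_conj_tw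
    d.not_conj_zw (d.classes hta)
  rw [d.pairs_tau hta, d.pairs_zeta hta, (d.centralizer_w hta).2] at h
  have h1 := CfsgLib.Small.card_conjugates_mul_card_centralizer (G := G) (μ tau)
  have h2 := CfsgLib.Small.card_conjugates_mul_card_centralizer (G := G) (μ zeta)
  have h3 := CfsgLib.Small.card_conjugates_mul_card_centralizer (G := G) (μ (tau * zeta))
  rw [d.centralizer_tau_card] at h1
  rw [d.centralizer_zeta_card] at h2
  rw [(d.centralizer_w hta).1] at h3
  set x := Nat.card {g : G // IsConj (μ tau) g}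
  set y := Nat.card {g : G // IsConj (μ zeta) g}
  set z := Nat.card {g : G // IsConj (μ (tau * zeta)) g}
  have hz : z = x := by omega
  have hy : y = 3 * x := by omega
  have hx : 0 < x := by have := Nat.card_pos (α := G); omega
  rw [hz, hy] at h
  have : x * (3 * x) = x * 45 := by rw [h]; ring
  have := Nat.eq_of_mul_eq_mul_left hx this
  omega

theorem iso_six (d : SixData μ T) (hta : IsConj (μ tau) (μ aa)) :
    Nonempty (G ≃* Equiv.Perm (Fin 6)) := by
  classical
  haveI : Fact (Nat.Prime 2) := ⟨Nat.prime_two⟩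
  have hN := d.card_eq hta
  obtain ⟨H, hH, htH, hmemH, hclH⟩ := d.exists_index_two hta
  haveI := Subgroup.normal_of_index_eq_two hH
  have hmul : ∀ a b : G, a * b ∈ H ↔ (a ∈ H ↔ b ∈ H) := fun a b => Subgroup.mul_mem_iff_of_index_two hH
  have hHcard : Nat.card H = 360 := by
    have := H.index_mul_card
    rw [hH, hN] at this
    omega
  have hzH : μ zeta ∈ H := (hmemH _).2 distinct.2.2.2.2.1
  have hz1 : μ zeta ≠ 1 := fun e => model_facts.2.2.2.2.2.2.2.2.1 (d.inj (e.trans (map_one μ).symm))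
  haveI : Nontrivial H := ⟨⟨⟨μ zeta, hzH⟩, 1, fun e => hz1 (congrArg Subtype.val e)⟩⟩
  -- all involutions of `H` are conjugate to `zeta` inside `H`
  have hzclass : ∀ x : H, orderOf x = 2 → IsConj (⟨μ zeta, hzH⟩ : H) x := by
    intro x hx
    have hxo : orderOf (x : G) = 2 := by rw [Subgroup.orderOf_coe]; exact hx
    have hxH : (x : G) ∈ H := x.2
    have hx' : IsConj (μ zeta) (x : G) := by
      rcases d.classes hta _ hxo with h | h | h
      · obtain ⟨c, hc⟩ := isConj_iff.1 h
        rw [← hc] at hxH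
        have := (inferInstance : H.Normal).conj_mem _ hxH c⁻¹
        rw [show c⁻¹ * (c * μ tau * c⁻¹) * c⁻¹⁻¹ = μ tau by group] at this
        exact absurd this htH
      · exact h
      · obtain ⟨c, hc⟩ := isConj_iff.1 h
        rw [← hc] at hxH
        have := (inferInstance : H.Normal).conj_mem _ hxH c⁻¹
        rw [show c⁻¹ * (c * μ (tau * zeta) * c⁻¹) * c⁻¹⁻¹ = μ (tau * zeta) by group] at this
        exact absurd ((hmemH _).1 this) pairs_facts.2.2.2.2.2.2.2.1
    obtain ⟨c, hc⟩ := isConj_iff.1 hx'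
    by_cases hcH : c ∈ H
    · exact isConj_iff.2 ⟨⟨c, hcH⟩, Subtype.ext hc⟩
    · refine isConj_iff.2 ⟨⟨c * μ tau, (hmul _ _).2 (iff_of_false hcH htH)⟩, Subtype.ext ?_⟩
      change c * μ tau * μ zeta * (c * μ tau)⁻¹ = x
      rw [← hc, mul_inv_rev]
      calc c * μ tau * μ zeta * ((μ tau)⁻¹ * c⁻¹) = c * (μ tau * μ zeta * (μ tau)⁻¹) * c⁻¹ := by group
        _ = c * μ zeta * c⁻¹ := by
            rw [← map_mul, tau_central zeta, map_mul, mul_inv_cancel_right]
  haveI : IsSimpleGroup H := by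
    refine ⟨fun N hN' => ?_⟩
    by_cases hex : ∃ x ∈ N, orderOf x = 2
    · right
      obtain ⟨x, hxN, hx⟩ := hex
      haveI := hN'
      have hall : ∀ y : H, orderOf y = 2 → y ∈ N := by
        intro y hy
        obtain ⟨c, hc⟩ := isConj_iff.1 ((hzclass x hx).symm.trans (hzclass y hy))
        rw [← hc]
        exact hN'.conj_mem x hxN c
      have hker : ∀ m : M2, ∀ hm : InKer m, (⟨μ m, (hmemH m).2 hm⟩ : H) ∈ N := by
        intro m hm
        obtain ⟨a, ha, b, hb, c, hc, rfl⟩ := ker_products m hm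
        have h1 : ∀ q : M2, (q = 1 ∨ IsZ q) → ∃ hq : μ q ∈ H, (⟨μ q, hq⟩ : H) ∈ N := by
          rintro q (rfl | hq)
          · refine ⟨by rw [map_one]; exact one_mem H, ?_⟩
            rw [show (⟨μ 1, _⟩ : H) = 1 from Subtype.ext (map_one μ)]
            exact one_mem N
          · exact ⟨(hmemH q).2 hq.2.2, hall _ (by rw [← Subgroup.orderOf_coe]; exact d.ord hq.1 hq.2.1)⟩
        obtain ⟨ha', ha''⟩ := h1 a ha
        obtain ⟨hb', hb''⟩ := h1 b hb
        obtain ⟨hc', hc''⟩ := h1 c hc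
        have h := mul_mem (mul_mem ha'' hb'') hc''
        rwa [show (⟨μ (a * b * c), (hmemH _).2 hm⟩ : H) = ⟨μ a, ha'⟩ * ⟨μ b, hb'⟩ * ⟨μ c, hc'⟩ from
          Subtype.ext (show μ (a * b * c) = μ a * μ b * μ c by rw [map_mul, map_mul])]
      -- `T ∩ H` is a Sylow subgroup of `N` normalized by no element outside `N`
      let MH : Subgroup H := (T : Subgroup G).subgroupOf H
      have hMN : MH ≤ N := by
        intro y hy
        obtain ⟨m, hm, he⟩ := (d.mem_T _).1 (Subgroup.mem_subgroupOf.1 hy)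
        have hk : InKer m := (hmemH m).1 (he ▸ y.2)
        rw [show y = ⟨μ m, (hmemH m).2 hk⟩ from Subtype.ext he.symm]
        exact hker m hk
      have hMH : Nat.card MH = 8 := by
        rw [← card_T_ker, ← Nat.card_eq_finsetCard]
        refine (Nat.card_congr (Equiv.ofBijective (fun m => (⟨⟨μ m.1, (hmemH _).2 (Finset.mem_filter.1 m.2).2.2⟩,
          Subgroup.mem_subgroupOf.2 (d.mem_T_of (m := m.1) (Finset.mem_filter.1 m.2).2.1)⟩ : MH)) ⟨?_, ?_⟩)).symm
        · intro a b h
          exact Subtype.ext (d.inj (congrArg (fun x : MH => ((x : H) : G)) h))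
        · rintro ⟨y, hy⟩
          obtain ⟨m, hm, he⟩ := (d.mem_T _).1 (Subgroup.mem_subgroupOf.1 hy)
          exact ⟨⟨m, Finset.mem_filter.2 ⟨Finset.mem_univ _, hm, (hmemH m).1 (he ▸ y.2)⟩⟩,
            Subtype.ext (Subtype.ext he)⟩
      have hfac : (Nat.card N).factorization 2 = 3 := by
        have h8 : 2 ^ 3 ∣ Nat.card N := by
          have := Subgroup.card_dvd_of_le hMN
          rwa [hMH] at this
        have hle := (Nat.Prime.pow_dvd_iff_le_factorization Nat.prime_two Nat.card_pos.ne').1 h8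
        have hN360 : Nat.card N ∣ 360 := hHcard ▸ Subgroup.card_subgroup_dvd_card N
        by_contra hne
        have h16 : 2 ^ 4 ∣ Nat.card N :=
          (Nat.Prime.pow_dvd_iff_le_factorization Nat.prime_two Nat.card_pos.ne').2 (by omega)
        exact absurd (h16.trans hN360) (by norm_num)
      let P : Sylow 2 N := Sylow.ofCard (MH.subgroupOf N)
        (by rw [Nat.card_congr (Subgroup.subgroupOfEquivOfLe hMN).toEquiv, hMH, hfac]; norm_num)
      have hPmap : (P : Subgroup N).map N.subtype = MH := by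
        change (MH.subgroupOf N).map N.subtype = MH
        rw [Subgroup.map_subgroupOf_eq_of_le hMN]
      have hfr := Sylow.normalizer_sup_eq_top P
      rw [hPmap] at hfr
      have hnorm : Subgroup.normalizer (MH : Set H) ≤ N := by
        intro n hn
        -- `n` fixes `zeta`, the involution in the centre of `MH`
        let zh : H := ⟨μ zeta, hzH⟩
        have hzM : zh ∈ MH := Subgroup.mem_subgroupOf.2 (d.mem_T_of rfl)
        have hcenter : ∀ y ∈ MH, (∀ y' ∈ MH, y * y' = y' * y) → y = 1 ∨ y = zh := by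
          intro y hy hyc
          obtain ⟨m, hm, he⟩ := (d.mem_T _).1 (Subgroup.mem_subgroupOf.1 hy)
          have hk : InKer m := (hmemH m).1 (he ▸ y.2)
          rcases ker_center m hm hk (fun k hk1 hk2 => d.inj (by
            have := congrArg Subtype.val (hyc ⟨μ k, (hmemH k).2 hk2⟩ (Subgroup.mem_subgroupOf.2 (d.mem_T_of hk1)))
            rw [map_mul, map_mul, he]; exact this)) with rfl | rfl
          · exact Or.inl (Subtype.ext (he.symm.trans (map_one μ)))
          · exact Or.inr (Subtype.ext he.symm)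
        have himg : n * zh * n⁻¹ = 1 ∨ n * zh * n⁻¹ = zh := by
          refine hcenter _ ((Subgroup.mem_normalizer_iff.1 hn zh).1 hzM) fun y' hy' => ?_
          have hy'' := (Subgroup.mem_normalizer_iff.1 (inv_mem hn) y').1 hy'
          rw [inv_inv] at hy''
          have hc : zh * (n⁻¹ * y' * n) = n⁻¹ * y' * n * zh := by
            obtain ⟨m, hm, he⟩ := (d.mem_T _).1 (Subgroup.mem_subgroupOf.1 hy'')
            apply Subtype.ext
            rw [Subgroup.coe_mul, Subgroup.coe_mul _ (n⁻¹ * y' * n) zh, ← he]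
            change μ zeta * μ m = μ m * μ zeta
            rw [← map_mul, ← map_mul, hm]
          calc n * zh * n⁻¹ * y' = n * (zh * (n⁻¹ * y' * n)) * n⁻¹ := by group
            _ = y' * (n * zh * n⁻¹) := by rw [hc]; group
        rcases himg with h | h
        · exact absurd (conj_eq_one_iff.1 h) (fun e => hz1 (congrArg Subtype.val e))
        · have hT : (n : G) ∈ T := d.cent_zeta _ (mul_inv_eq_iff_eq_mul.1 (congrArg Subtype.val h))
          exact hMN (Subgroup.mem_subgroupOf.2 hT)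
      rw [eq_top_iff, ← hfr]
      exact sup_le hnorm le_rfl
    · left
      push Not at hex
      -- `N` has odd order and `zeta`, `bb`, `bb * zeta` act on it without fixed points
      have hodd : Odd (Nat.card N) := by
        rw [Nat.odd_iff, ← Nat.two_dvd_ne_zero]
        intro h2
        obtain ⟨x, hx⟩ := exists_prime_orderOf_dvd_card' 2 h2
        exact hex x x.2 (by rw [Subgroup.orderOf_coe]; exact hx)
      haveI := hN'
      have hfix : ∀ z : H, IsConj (μ zeta) (z : G) → ∀ x ∈ N, z * x * z⁻¹ = x → x = 1 := by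
        intro z hz x hx hzx
        obtain ⟨c, hc⟩ := isConj_iff.1 hz
        have hcomm : (z : G) * x = x * z := congrArg Subtype.val (mul_inv_eq_iff_eq_mul.1 hzx)
        have hyT : c⁻¹ * (x : G) * c ∈ T := d.cent_zeta _ (by
          rw [← hc] at hcomm
          calc c⁻¹ * (x : G) * c * μ zeta = c⁻¹ * ((x : G) * (c * μ zeta * c⁻¹)) * c := by group
            _ = μ zeta * (c⁻¹ * (x : G) * c) := by rw [← hcomm]; group)
        obtain ⟨j, hj⟩ := T.isPGroup' ⟨_, hyT⟩
        have hy2 : (c⁻¹ * (x : G) * c) ^ 2 ^ j = 1 := congrArg Subtype.val hj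
        rw [show c⁻¹ * (x : G) * c = c⁻¹ * (x : G) * c⁻¹⁻¹ by rw [inv_inv], conj_pow,
          conj_eq_one_iff] at hy2
        have hxN : x ^ Nat.card N = 1 := congrArg Subtype.val (pow_card_eq_one' (x := (⟨x, hx⟩ : N)))
        have h := pow_gcd_eq_one.2 ⟨(Subtype.ext hy2 : x ^ 2 ^ j = 1), hxN⟩
        rwa [Nat.Coprime.gcd_eq_one (Nat.Coprime.pow_left _ (Nat.coprime_two_left.2 hodd)), pow_one] at h
      have hinv : ∀ z : H, IsConj (μ zeta) (z : G) → z * z = 1 → ∀ x ∈ N, z * x * z⁻¹ = x⁻¹ := by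
        intro z hz hz2 x hx
        let φ : N →* N :=
          { toFun := fun y => ⟨z * y * z⁻¹, hN'.conj_mem y y.2 z⟩
            map_one' := Subtype.ext (by simp)
            map_mul' := fun a b => Subtype.ext (by simp [mul_assoc]) }
        have hfp : MonoidHom.FixedPointFree φ := fun y hy =>
          Subtype.ext (hfix z hz y y.2 (congrArg Subtype.val hy))
        have hinvol : Function.Involutive φ := fun y => Subtype.ext (by
          change z * (z * (y : H) * z⁻¹) * z⁻¹ = y
          rw [inv_eq_of_mul_eq_one_right hz2]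
          simp only [← mul_assoc]
          rw [hz2, one_mul, mul_assoc, hz2, mul_one])
        exact congrArg Subtype.val (congrFun (hfp.coe_eq_inv_of_involutive hinvol) ⟨x, hx⟩)
      rw [eq_bot_iff]
      intro x hx
      let zh : H := ⟨μ zeta, hzH⟩
      let bh : H := ⟨μ bb, (hmemH _).2 distinct.2.2.2.2.2.1⟩
      let ch : H := ⟨μ (bb * zeta), (hmemH _).2 pairs_facts.2.2.2.2.1⟩
      have i1 := hinv zh (IsConj.refl _) (Subtype.ext (sq_map μ model_facts.2.2.2.1)) x hx
      have i2 := hinv bh (d.conj_of_isZ hta distinct.2.2.2.2.2.2.1) (Subtype.ext (sq_map μ model_facts.2.2.2.2.1)) x⁻¹ (inv_mem hx)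
      have i3 := hinv ch (d.conj_of_isZ hta distinct.2.2.2.2.2.2.2.2.1) (Subtype.ext (sq_map μ model_facts.2.2.2.2.2.1)) x hx
      rw [inv_inv] at i2
      have hce : ch = bh * zh := Subtype.ext (map_mul μ bb zeta)
      have : ch * x * ch⁻¹ = x := by
        rw [hce, mul_inv_rev]
        calc bh * zh * x * (zh⁻¹ * bh⁻¹) = bh * (zh * x * zh⁻¹) * bh⁻¹ := by group
          _ = x := by rw [i1, i2]
      rw [this] at i3
      obtain ⟨k, hk⟩ := hodd
      have hx2 : x ^ 2 = 1 := by rw [pow_two]; exact mul_eq_one_iff_eq_inv.2 i3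
      have hxN : x ^ Nat.card N = 1 := congrArg Subtype.val (pow_card_eq_one' (x := (⟨x, hx⟩ : N)))
      rw [hk, pow_succ, pow_mul, hx2, one_pow, one_mul] at hxN
      rw [hxN]; exact one_mem _
  obtain ⟨e⟩ := Cfsg.Agent.S0497.result hHcard
  -- conjugation by elements of `G`
  let Θ : G →* MulAut H := MulAut.conjNormal
  let E : MulAut H →* MulAut (alternatingGroup (Fin 6)) := (MulAut.congr e).toMonoidHom
  let C6 : Equiv.Perm (Fin 6) →* MulAut (alternatingGroup (Fin 6)) := MulAut.conjNormal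
  have hEapp : ∀ (a : MulAut H) (g), E a g = e (a (e.symm g)) := fun a g => rfl
  have hrange : ∀ g : G, E (Θ g) ∈ C6.range := by
    have hH' : ∀ h ∈ H, E (Θ h) ∈ C6.range := by
      intro h hh
      refine ⟨((e ⟨h, hh⟩ : alternatingGroup (Fin 6)) : Equiv.Perm (Fin 6)), ?_⟩
      ext1 x
      rw [hEapp]
      apply Subtype.ext
      rw [MulAut.conjNormal_apply, show Θ h (e.symm x) = ⟨h, hh⟩ * e.symm x * ⟨h, hh⟩⁻¹ from
        Subtype.ext (MulAut.conjNormal_apply _ _), map_mul, map_mul, map_inv, e.apply_symm_apply]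
      rfl
    have htau : E (Θ (μ tau)) ∈ C6.range := by
      obtain ⟨m, hm3, hm1, hmk⟩ := exists_order_three
      haveI : Fact (Nat.Prime 3) := ⟨Nat.prime_three⟩
      let r : H := ⟨μ m, (hmemH m).2 hmk⟩
      have hr : orderOf r = 3 := by
        rw [← Subgroup.orderOf_coe]
        change orderOf (μ m) = 3
        rw [orderOf_injective μ d.inj]
        exact orderOf_eq_prime hm3 hm1
      obtain ⟨σ, hσ⟩ := altSix_auto_of_fix (E (Θ (μ tau))) (r := e r)
        (by rw [MulEquiv.orderOf_eq, hr]) (by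
          rw [hEapp, e.symm_apply_apply]
          congr 1
          apply Subtype.ext
          rw [MulAut.conjNormal_apply]
          change μ tau * μ m * (μ tau)⁻¹ = μ m
          rw [← map_mul, tau_central m, map_mul, mul_inv_cancel_right])
      refine ⟨σ, ?_⟩
      ext1 x
      exact Subtype.ext ((MulAut.conjNormal_apply σ x).trans (hσ x).symm)
    intro g
    by_cases hg : g ∈ H
    · exact hH' g hg
    · have hg' : μ tau * g ∈ H := (hmul _ _).2 (iff_of_false htH hg)
      have : g = μ tau * (μ tau * g) := by rw [← mul_assoc, sq_map μ tau_ne.2, one_mul]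
      rw [this, map_mul, map_mul]
      exact mul_mem htau (hH' _ hg')
  have hCinj : Function.Injective C6 := by
    rw [injective_iff_map_eq_one]
    intro σ hσ
    have : ∀ g : alternatingGroup (Fin 6), σ * (g : Equiv.Perm (Fin 6)) = g * σ := fun g => by
      have h := congrArg Subtype.val (DFunLike.congr_fun hσ g)
      rw [MulAut.conjNormal_apply] at h
      exact mul_inv_eq_iff_eq_mul.1 h
    by_contra hne
    obtain ⟨a, ha⟩ : ∃ a, σ a ≠ a := by
      by_contra h
      push Not at h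
      exact hne (Equiv.ext h)
    have hcard : 1 < (Finset.univ \ ({a, σ a} : Finset (Fin 6))).card := by
      rw [Finset.card_sdiff, Finset.card_univ, Finset.inter_univ, Finset.card_pair (Ne.symm ha), Fintype.card_fin]
      norm_num
    obtain ⟨b, hb, c, hc, hbc⟩ := Finset.one_lt_card.1 hcard
    simp only [Finset.mem_sdiff, Finset.mem_univ, true_and, Finset.mem_insert, Finset.mem_singleton, not_or] at hb hc
    have h3 := CfsgLib.AutAlt.cyc_isThreeCycle (Ne.symm hb.1) (Ne.symm hc.1) hbc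
    have h := this ⟨_, h3.mem_alternatingGroup⟩
    have h' := congrArg (fun π : Equiv.Perm (Fin 6) => π a) h
    simp only [Equiv.Perm.mul_apply] at h'
    rw [CfsgLib.AutAlt.cyc_apply_left (Ne.symm hb.1) (Ne.symm hc.1),
      CfsgLib.AutAlt.cyc_apply_of_ne ha (Ne.symm hb.2) (Ne.symm hc.2)] at h'
    exact hb.1 (σ.injective h')
  let ψ : G →* Equiv.Perm (Fin 6) :=
    (MonoidHom.ofInjective hCinj).symm.toMonoidHom.comp ((E.comp Θ).codRestrict C6.range hrange)
  have hψ : Function.Injective ψ := by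
    rw [injective_iff_map_eq_one]
    intro g hg
    have h1 : E (Θ g) = 1 := by
      have := (MonoidHom.ofInjective hCinj).symm.injective (hg.trans (map_one _).symm)
      exact congrArg Subtype.val this
    have hΘ : Θ g = 1 := (MulAut.congr e).injective (h1.trans (map_one _).symm)
    have hcomm : ∀ h ∈ H, g * h = h * g := fun h hh => by
      have := congrArg Subtype.val (DFunLike.congr_fun hΘ ⟨h, hh⟩)
      rw [MulAut.conjNormal_apply] at this
      exact mul_inv_eq_iff_eq_mul.1 this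
    have hgT : g ∈ T := d.cent_zeta g (hcomm _ hzH)
    obtain ⟨m, hm, rfl⟩ := (d.mem_T g).1 hgT
    have hmc : ∀ k : M2, InKer k → m * k = k * m := fun k hk => d.inj (by
      rw [map_mul, map_mul]; exact hcomm _ ((hmemH k).2 hk))
    have hmem : m = 1 ∨ m = tau := central_sq m fun k => by
      by_cases hk : InKer k
      · exact hmc k hk
      · have h := hmc _ (not_ker k hk)
        rw [← mul_assoc, ← tau_central m, mul_assoc, mul_assoc] at h
        exact mul_left_cancel h
    rcases hmem with rfl | rfl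
    · exact map_one μ
    · exfalso
      have hle : H ≤ Subgroup.centralizer ({μ tau} : Set G) := fun h hh =>
        Subgroup.mem_centralizer_iff.2 (by rintro _ rfl; exact hcomm h hh)
      have := Subgroup.card_le_of_le hle
      rw [hHcard, d.centralizer_tau_card] at this
      omega
  refine ⟨MulEquiv.ofBijective ψ ((Nat.bijective_iff_injective_and_card ψ).2 ⟨hψ, ?_⟩)⟩
  rw [hN, Nat.card_perm, Nat.card_fin]
  rfl

end SixData

end CfsgLib.Inv53
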