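import Mathlib.GroupTheory.Perm.Sign
import Mathlib.GroupTheory.Perm.Fin
import Mathlib.Data.ZMod.Basic
import Mathlib.GroupTheory.Solvable

/-!
# Computations in `C₂ × S₄`
-/

set_option autoImplicit false
set_option maxRecDepth 100000
set_option synthInstance.maxSize 4000
set_option synthInstance.maxHeartbeats 1000000
set_option maxHeartbeats 1000000

namespace CfsgLib.Inv53.ZTwoSFour

/-- The group `C₂ × S₄`. -/
abbrev M2 := Multiplicative (ZMod 2) × Equiv.Perm (Fin 4)

/-- The central involution. -/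
def tau : M2 := (Multiplicative.ofAdd 1, 1)

/-- An involution of the four group. -/
def zeta : M2 := (1, Equiv.swap 0 2 * Equiv.swap 1 3)

/-- A transposition commuting with `zeta`. -/
def aa : M2 := (1, Equiv.swap 0 2)

/-- A second involution of the four group. -/
def bb : M2 := (1, Equiv.swap 0 1 * Equiv.swap 2 3)

/-- The kernel of the character `(ε, σ) ↦ ε · sgn σ`. -/
def InKer (m : M2) : Prop := Equiv.Perm.sign m.2 = 1 ↔ m.1 = 1

instance : DecidablePred InKer := fun m => by unfold InKer; infer_instance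

/-- `tau` and the transpositions. -/
def IsT (m : M2) : Prop := m * m = 1 ∧ (m = tau ∨ (m.1 = 1 ∧ Equiv.Perm.sign m.2 = -1))

instance : DecidablePred IsT := fun m => by unfold IsT; infer_instance

/-- The involutions of the kernel. -/
def IsZ (m : M2) : Prop := m * m = 1 ∧ m ≠ 1 ∧ InKer m

instance : DecidablePred IsZ := fun m => by unfold IsZ; infer_instance

/-- `tau` times the involutions of the four group. -/
def IsW (m : M2) : Prop := m * m = 1 ∧ m ≠ tau ∧ m.1 ≠ 1 ∧ Equiv.Perm.sign m.2 = 1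

instance : DecidablePred IsW := fun m => by unfold IsW; infer_instance

/-- The automorphism `(ε, σ) ↦ (ε · sgn σ, σ)`. -/
def twist : M2 ≃* M2 where
  toFun m := (if Equiv.Perm.sign m.2 = 1 then m.1 else m.1 * Multiplicative.ofAdd 1, m.2)
  invFun m := (if Equiv.Perm.sign m.2 = 1 then m.1 else m.1 * Multiplicative.ofAdd 1, m.2)
  left_inv := by unfold Function.LeftInverse; decide +kernel
  right_inv := by unfold Function.RightInverse Function.LeftInverse; decide +kernel
  map_mul' := by decide +kernel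

theorem card_M2 : Nat.card M2 = 48 := by
  rw [Nat.card_eq_fintype_card]; decide +kernel

theorem tau_ne : tau ≠ 1 ∧ tau * tau = 1 := by decide +kernel

theorem central_sq : ∀ m : M2, (∀ n : M2, m * n = n * m) → m = 1 ∨ m = tau := by decide +kernel

theorem tau_central : ∀ m : M2, tau * m = m * tau := by decide +kernel

theorem card_Tset :
    (Finset.univ.filter fun m : M2 => m * zeta = zeta * m).card = 16 := by
  decide +kernel

theorem twist_values : twist tau = tau ∧ twist zeta = zeta ∧ twist (tau * aa) = aa := by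
  decide +kernel

theorem comm_T : ∀ m : M2, m * zeta = zeta * m → ∀ n : M2, n * zeta = zeta * n →
    m * n * m⁻¹ * n⁻¹ = 1 ∨ m * n * m⁻¹ * n⁻¹ = zeta := by
  decide +kernel

theorem comm_ab : aa * bb * aa⁻¹ * bb⁻¹ = zeta := by decide +kernel

theorem comm_ta_b : tau * aa * bb * (tau * aa)⁻¹ = bb * zeta := by decide +kernel

theorem mem_T : (tau * zeta = zeta * tau) ∧ (aa * zeta = zeta * aa) ∧ (bb * zeta = zeta * bb) ∧
    (tau * aa) * zeta = zeta * (tau * aa) := by
  decide +kernel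

theorem invol_cases : ∀ m : M2, m * m = 1 → m ≠ 1 → IsT m ∨ IsZ m ∨ IsW m := by decide +kernel

theorem distinct : IsT tau ∧ IsZ zeta ∧ IsW (tau * zeta) ∧ ¬ InKer tau ∧ InKer zeta ∧
    InKer bb ∧ IsZ bb ∧ IsW (tau * bb) ∧ IsZ (bb * zeta) ∧ IsT aa ∧ IsZ (tau * aa) := by
  decide +kernel

theorem classT : ∀ m : M2, IsT m → m = tau ∨ ∃ k : M2, k * aa * k⁻¹ = m := by decide +kernel

theorem classZ : ∀ m : M2, IsZ m → (∃ k : M2, k * zeta * k⁻¹ = m) ∨ ∃ k : M2, k * (tau * aa) * k⁻¹ = m := by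
  decide +kernel

theorem classW : ∀ m : M2, IsW m → ∃ k : M2, k * (tau * zeta) * k⁻¹ = m := by decide +kernel

theorem class_aa : ∀ m : M2, m * m = 1 → m ≠ 1 →
    m = tau ∨ (∃ k : M2, k * aa * k⁻¹ = m) ∨ (∃ k : M2, k * zeta * k⁻¹ = m) ∨
      (∃ k : M2, k * (tau * aa) * k⁻¹ = m) ∨ ∃ k : M2, k * (tau * zeta) * k⁻¹ = m := by
  decide +kernel

theorem ker_products : ∀ m : M2, InKer m →
    ∃ x : M2, (x = 1 ∨ IsZ x) ∧ ∃ y : M2, (y = 1 ∨ IsZ y) ∧ ∃ w : M2, (w = 1 ∨ IsZ w) ∧
      m = x * y * w := by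
  decide +kernel

theorem not_ker : ∀ m : M2, ¬ InKer m → InKer (tau * m) := by decide +kernel

theorem ker_not : ∀ m : M2, InKer m → ¬ InKer (tau * m) := by decide +kernel

theorem T_ker : ∀ m : M2, m * zeta = zeta * m → InKer m → m * m = 1 → m ≠ 1 →
    m = zeta ∨ m = tau * aa ∨ m = tau * aa * zeta ∨ m = bb ∨ m = bb * zeta := by
  decide +kernel

theorem ker_center : ∀ m : M2, m * zeta = zeta * m → InKer m →
    (∀ n : M2, n * zeta = zeta * n → InKer n → m * n = n * m) → m = 1 ∨ m = zeta := by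
  decide +kernel

theorem card_T_ker :
    (Finset.univ.filter fun m : M2 => m * zeta = zeta * m ∧ InKer m).card = 8 := by
  decide +kernel

theorem E_cases : ∀ m : M2, m * zeta = zeta * m → m * aa = aa * m → m * m = 1 → m ≠ 1 →
    IsT m ∨ m = zeta ∨ m = tau * zeta ∨ m = tau * aa ∨ m = tau * aa * zeta := by
  decide +kernel

theorem card_E :
    (Finset.univ.filter fun m : M2 => m * zeta = zeta * m ∧ m * aa = aa * m).card = 8 := by
  decide +kernel

theorem E_sq : ∀ m : M2, m * zeta = zeta * m → m * aa = aa * m → m * m = 1 := by decide +kernel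

theorem exists_order_three : ∃ m : M2, m ^ 3 = 1 ∧ m ≠ 1 ∧ InKer m := by decide +kernel

theorem count_tau :
    (Finset.univ.filter fun p : M2 × M2 => IsT p.1 ∧ IsZ p.2 ∧
      ∃ j : Fin 6, (p.1 * p.2) ^ (j : ℕ) = tau).card = 30 := by
  decide +kernel

theorem count_zeta :
    (Finset.univ.filter fun p : M2 × M2 =>
      (IsT p.1 ∧ p.1 * zeta = zeta * p.1) ∧ (IsZ p.2 ∧ p.2 * zeta = zeta * p.2) ∧
      ∃ j : Fin 4, (p.1 * p.2) ^ (j : ℕ) = zeta).card = 4 := by
  decide +kernel

theorem pow_bound : ∀ m : M2, m ^ 12 = 1 := by decide +kernel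

theorem pow_T : ∀ m : M2, m * zeta = zeta * m → m ^ 4 = 1 := by decide +kernel

theorem pow_six : ∀ m : M2, ∀ j : Fin 12, m ^ (j : ℕ) = tau → ∃ i : Fin 6, m ^ (i : ℕ) = tau := by
  decide +kernel

theorem model_facts : tau ≠ tau * zeta ∧ tau ≠ zeta ∧ zeta ≠ tau * zeta ∧ zeta * zeta = 1 ∧
    bb * bb = 1 ∧ bb * zeta * (bb * zeta) = 1 ∧ (¬ ∃ k : M2, k * (tau * aa) * k⁻¹ = bb) ∧
    (¬ ∃ k : M2, k * (tau * aa) * k⁻¹ = bb * zeta) ∧ zeta ≠ 1 ∧ tau * zeta ≠ 1 ∧
    tau * zeta * (tau * zeta) = 1 ∧ bb ≠ 1 ∧ aa * aa = 1 ∧ aa ≠ 1 := by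
  decide +kernel

theorem ker_mul : ∀ a b : M2, InKer a → InKer b → InKer (a * b) := by decide +kernel

theorem ker_one : InKer 1 := by decide +kernel

theorem bb_moves : aa * bb ≠ bb * aa ∧ bb * (tau * aa) * bb⁻¹ = tau * aa * zeta := by decide +kernel

theorem pairs_facts : IsW (tau * zeta * bb) ∧ tau * zeta * bb * zeta = tau * bb ∧
    tau * zeta * (tau * aa) = tau * aa * (tau * zeta) ∧
    tau * zeta * bb = bb * (tau * zeta) ∧ InKer (bb * zeta) ∧ InKer (tau * aa) ∧
    InKer (tau * aa * zeta) ∧ ¬ InKer (tau * zeta) ∧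
    (bb * (tau * aa)) * (bb * (tau * aa)) = zeta ∧
    (bb * zeta * (tau * aa)) * (bb * zeta * (tau * aa)) = zeta ∧
    (bb * (tau * aa * zeta)) * (bb * (tau * aa * zeta)) = zeta ∧
    (bb * zeta * (tau * aa * zeta)) * (bb * zeta * (tau * aa * zeta)) = zeta := by
  decide +kernel

theorem distinct_five : [zeta, tau * aa, tau * aa * zeta, bb, bb * zeta, 1].Nodup := by decide +kernel

theorem commute_five : (tau * aa) * zeta = zeta * (tau * aa) ∧
    (tau * aa * zeta) * zeta = zeta * (tau * aa * zeta) ∧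
    (tau * aa) * (tau * aa * zeta) = (tau * aa * zeta) * (tau * aa) ∧
    bb * zeta = zeta * bb ∧ (bb * zeta) * zeta = zeta * (bb * zeta) := by
  decide +kernel

theorem ker_count : (Finset.univ.filter fun m : M2 => InKer m).card = 24 := by decide +kernel

end CfsgLib.Inv53.ZTwoSFour
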